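/-! Codes of the generators of the model of `2^11:M24`. -/

set_option autoImplicit false

namespace Cfsg.Agent.Lib.J4Pres19

/-- A generator code. -/
def mX : Nat := 11151733811850330306473792288178174364225538

/-- A generator code. -/
def mY : Nat := 11151053662505923592547099360091007762579457

/-- A generator code. -/
def mYi : Nat := 11152414625862574170811606520927150047297537

/-- A generator code. -/
def mW : Nat := 11151733894906779683522195341810241573496833

end Cfsg.Agent.Lib.J4Pres19
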