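import Cfsg.Agent.Lib.J4Pres19.Bounds
import Cfsg.Agent.Lib.J4Pres19.Gens
import Cfsg.Agent.Lib.M24Pres.Iso

/-!
Two elements satisfying the seven relators of M24, paired with their matrix codes: the codes name
the elements they generate.
-/

set_option autoImplicit false

namespace Cfsg.Agent.Lib.J4Pres19

open Cfsg Cfsg.Agent.Lib.M24Pres

theorem gens_inv : mul mX mX = one ∧ mul mY mYi = one ∧ mul mYi mY = one ∧ mul mW mW = one := by
  decide +kernel

/-- The matrix of `x`. -/
def uX : GL12 := unitOf mX mX gens_inv.1 gens_inv.1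

/-- The matrix of `y`. -/
def uY : GL12 := unitOf mY mYi gens_inv.2.1 gens_inv.2.2.1

/-- The matrix of `w`. -/
def uW : GL12 := unitOf mW mW gens_inv.2.2.2 gens_inv.2.2.2

/-- The code of a letter. -/
def letCode : ℕ → ℕ
  | 0 => mX
  | 1 => mY
  | 2 => mYi
  | _ => one

/-- The code of a word in `x, y`. -/
def wordCode : List ℕ → ℕ
  | [] => one
  | a :: l => mul (letCode a) (wordCode l)

theorem val_letCode : ∀ c, ((lval uX uY c : GL12) : Mat12) = val (letCode c)
  | 0 => rfl
  | 1 => rfl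
  | 2 => rfl
  | _ + 3 => val_one.symm

theorem val_wordCode : ∀ l : List ℕ, ((wval uX uY l : GL12) : Mat12) = val (wordCode l)
  | [] => by simp [wval, wordCode, val_one]
  | a :: l => by
    rw [show wval uX uY (a :: l) = lval uX uY a * wval uX uY l by simp [wval], Units.val_mul,
      val_letCode a, val_wordCode l, wordCode, val_mul]

theorem R7_code : (R7.all fun r => Nat.beq (wordCode r) one) = true := by decide +kernel

theorem uX_ne : uX ≠ 1 := by
  intro h
  have h' : val mX = val one := by rw [val_one]; exact congrArg Units.val h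
  have := vmul_congr 1 h'
  revert this
  decide +kernel

/-- Elements satisfying the seven relators. -/
structure Gens (G : Type*) [Group G] where
  x : G
  y : G
  rel : ∀ r ∈ R7, wval x y r = 1

namespace Gens

variable {G : Type*} [Group G] (g : Gens G)

/-- `x` with its matrix. -/
def pX : GL12 × G := (uX, g.x)

/-- `y` with its matrix. -/
def pY : GL12 × G := (uY, g.y)

theorem pair_rel : ∀ r ∈ R7, wval g.pX g.pY r = 1 := by
  intro r hr
  refine Prod.ext ?_ ?_
  · show (MonoidHom.fst GL12 G) (wval g.pX g.pY r) = 1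
    rw [wval_map]
    apply Units.ext
    show ((wval uX uY r : GL12) : Mat12) = ((1 : GL12) : Mat12)
    rw [val_wordCode, Nat.eq_of_beq_eq_true (List.all_eq_true.1 R7_code r hr), val_one, Units.val_one]
  · show (MonoidHom.snd GL12 G) (wval g.pX g.pY r) = 1
    rw [wval_map]
    exact g.rel r hr

/-- The pairs generated by `x` and `y`. -/
def D : Subgroup (GL12 × G) := Subgroup.closure {g.pX, g.pY}

theorem pX_mem : g.pX ∈ g.D := Subgroup.subset_closure (Set.mem_insert _ _)

theorem pY_mem : g.pY ∈ g.D := Subgroup.subset_closure (Set.mem_insert_of_mem _ rfl)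

theorem pX_ne : g.pX ≠ 1 := fun h => uX_ne (congrArg Prod.fst h)

theorem equiv : Nonempty (g.D ≃* M24) := nonempty_equiv g.pX g.pY g.pair_rel g.pX_ne

theorem card_D : Nat.card g.D = 244823040 := by
  obtain ⟨e⟩ := g.equiv
  rw [Nat.card_congr e.toEquiv]
  exact Cfsg.Agent.Lib.Golay.card_M24

theorem finite_D : Finite g.D := Nat.finite_of_card_ne_zero (by rw [g.card_D]; norm_num)

theorem inj : ∀ p ∈ g.D, p.1 = 1 → p.2 = 1 := by
  intro p hp h
  obtain ⟨e⟩ := g.equiv
  haveI : IsSimpleGroup M24 := Cfsg.Agent.Lib.Golay.isSimple_M24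
  haveI : Nontrivial g.D := ⟨⟨g.pX, g.pX_mem⟩, 1, fun h => g.pX_ne (congrArg Subtype.val h)⟩
  haveI : IsSimpleGroup g.D := IsSimpleGroup.isSimpleGroup_of_surjective e.symm.toMonoidHom e.symm.surjective
  set f : g.D →* GL12 := (MonoidHom.fst GL12 G).comp g.D.subtype with hf
  have hk : f.ker = ⊥ := ((inferInstance : f.ker.Normal).eq_bot_or_eq_top).resolve_right fun htop =>
    uX_ne (MonoidHom.mem_ker.1 (htop ▸ Subgroup.mem_top (⟨g.pX, g.pX_mem⟩ : g.D)))
  have : (⟨p, hp⟩ : g.D) = 1 := Subgroup.mem_bot.1 (hk ▸ MonoidHom.mem_ker.2 h)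
  exact congrArg (fun q : g.D => q.1.2) this

/-- The model on `x, y`. -/
def M : Model G := ⟨g.D, g.inj⟩

theorem mem_mX : g.M.Mem mX := ⟨g.pX, g.pX_mem, rfl⟩

theorem mem_mY : g.M.Mem mY := ⟨g.pY, g.pY_mem, rfl⟩

theorem mem_mYi : g.M.Mem mYi := ⟨g.pY⁻¹, g.D.inv_mem g.pY_mem, rfl⟩

theorem el_mX : g.M.el mX = g.x := g.M.el_eq g.pX_mem rfl

theorem el_mY : g.M.el mY = g.y := g.M.el_eq g.pY_mem rfl

theorem el_mYi : g.M.el mYi = g.y⁻¹ := g.M.el_eq (g.D.inv_mem g.pY_mem) rfl

theorem mem_wordCode : ∀ l : List ℕ, g.M.Mem (wordCode l) ∧ g.M.el (wordCode l) = wval g.x g.y l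
  | [] => ⟨g.M.mem_one, by simp [wordCode, wval, Model.el_one]⟩
  | a :: l => by
    obtain ⟨h1, h2⟩ := mem_wordCode l
    have ha : g.M.Mem (letCode a) ∧ g.M.el (letCode a) = lval g.x g.y a :=
      match a with
      | 0 => ⟨g.mem_mX, g.el_mX⟩
      | 1 => ⟨g.mem_mY, g.el_mY⟩
      | 2 => ⟨g.mem_mYi, g.el_mYi⟩
      | _ + 3 => ⟨g.M.mem_one, g.M.el_one⟩
    refine ⟨ha.1.mul h1, ?_⟩
    rw [wordCode, Model.el_mul ha.1 h1, ha.2, h2]
    simp [wval]

end Gens

end Cfsg.Agent.Lib.J4Pres19
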