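import Cfsg.Agent.Lib.J4Pres19.Model

/-!
Lower bounds for orders of subgroups from transversals along a base.
-/

set_option autoImplicit false

namespace Cfsg.Agent.Lib.J4Pres19

/-- The values increase. -/
noncomputable def incr : List ℕ → Bool
  | a :: b :: l => Nat.blt a b && incr (b :: l)
  | _ => true

theorem incr_nodup : ∀ l : List ℕ, incr l = true → l.Nodup ∧ ∀ a ∈ l.head?, ∀ x ∈ l, a ≤ x
  | [], _ => by simp
  | [a], _ => by simp
  | a :: b :: l, h => by
    simp only [incr, Bool.and_eq_true, Nat.blt_eq] at h
    obtain ⟨hn, hle⟩ := incr_nodup (b :: l) h.2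
    have hle' : ∀ x ∈ b :: l, b ≤ x := hle b (by simp)
    refine ⟨List.nodup_cons.2 ⟨fun hm => by have := hle' a hm; omega, hn⟩, ?_⟩
    intro c hc x hx
    simp only [List.head?_cons, Option.mem_def, Option.some.injEq] at hc
    subst hc
    rcases List.mem_cons.1 hx with rfl | hx
    · rfl
    · have := hle' x hx; omega

variable {Γ : Type*} [Group Γ] {P : Type*} (act : P → Γ → P)
  (hone : ∀ p, act p 1 = p) (hmul : ∀ p a b, act p (a * b) = act (act p a) b)

/-- The subgroup of the elements fixing a point. -/
def fixPt (p : P) : Subgroup Γ where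
  carrier := {g | act p g = p}
  one_mem' := hone p
  mul_mem' := fun {a b} ha hb => by
    show act p (a * b) = p
    rw [hmul, show act p a = p from ha, show act p b = p from hb]
  inv_mem' := fun {a} ha => by
    show act p a⁻¹ = p
    conv_lhs => rw [← show act p a = p from ha]
    rw [← hmul, mul_inv_cancel, hone]

theorem mem_fixPt {p : P} {g : Γ} : g ∈ fixPt act hone hmul p ↔ act p g = p := Iff.rfl

include hone hmul in
/-- One level: elements with different images of `p` times a subgroup fixing `p`. -/
theorem card_step [Finite Γ] (K K' : Subgroup Γ) (p : P) {β : Type*} (key : P → β) (hK : K' ≤ K)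
    (hfix : ∀ g ∈ K', act p g = p) (l : List Γ) (hl : ∀ g ∈ l, g ∈ K)
    (hd : (l.map fun g => key (act p g)).Nodup) : l.length * Nat.card K' ≤ Nat.card K := by
  have hf : Function.Injective
      (fun x : Fin l.length × K' => (⟨x.2.1 * l[x.1.1], K.mul_mem (hK x.2.2)
        (hl _ (List.getElem_mem x.1.2))⟩ : K)) := by
    rintro ⟨i, k⟩ ⟨j, k'⟩ h
    have h' : k.1 * l[i.1] = k'.1 * l[j.1] := congrArg Subtype.val h
    have hij : i = j := by
      have e : key (act p l[i.1]) = key (act p l[j.1]) := by
        have := congrArg (fun g => key (act p g)) h'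
        simpa only [hmul, hfix _ k.2, hfix _ k'.2] using this
      apply Fin.ext
      have hi : i.1 < (l.map fun g => key (act p g)).length := by simp
      have hj : j.1 < (l.map fun g => key (act p g)).length := by simp
      exact (List.Nodup.getElem_inj_iff hd (hi := hi) (hj := hj)).1 (by simpa using e)
    subst hij
    rw [mul_left_inj] at h'
    exact Prod.ext rfl (Subtype.ext h')
  simpa [Nat.card_prod] using Nat.card_le_card_of_injective _ hf

include hone hmul in
/-- Several levels along a base. -/
theorem card_chain [Finite Γ] {β : Type*} (key : P → β) : ∀ (lv : List (P × List Γ)) (K : Subgroup Γ),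
    (∀ i, ∀ hi : i < lv.length, ∀ g ∈ lv[i].2, g ∈ K ∧
      ∀ j, ∀ hj : j < i, act (lv[j]'(hj.trans hi)).1 g = (lv[j]'(hj.trans hi)).1) →
    (∀ L ∈ lv, (L.2.map fun g => key (act L.1 g)).Nodup) →
    (lv.map fun L => L.2.length).prod ≤ Nat.card K
  | [], K, _, _ => by simp only [List.map_nil, List.prod_nil]; exact Nat.card_pos
  | L :: lv, K, h, hd => by
    set K' := K ⊓ fixPt act hone hmul L.1 with hK'
    have ih := card_chain key lv K' (fun i hi g hg => by
      obtain ⟨h1, h2⟩ := h (i + 1) (by simp only [List.length_cons]; omega) g (by simpa using hg)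
      refine ⟨⟨h1, h2 0 (by omega)⟩, fun j hj => ?_⟩
      have := h2 (j + 1) (by omega)
      simpa using this) (fun M hM => hd M (List.mem_cons_of_mem _ hM))
    have hs := card_step act hone hmul K K' L.1 key inf_le_left (fun g hg => hg.2) L.2
      (fun g hg => (h 0 (by simp) g (by simpa using hg)).1) (hd L List.mem_cons_self)
    rw [List.map_cons, List.prod_cons]
    exact le_trans (Nat.mul_le_mul_left _ ih) hs

include hone hmul in
/-- A subgroup of a point stabiliser that is large enough is the stabiliser. -/
theorem fixPt_le [Finite Γ] (K : Subgroup Γ) (p : P) (hK : ∀ g ∈ K, act p g = p) (l : List Γ)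
    (hd : (l.map fun g => act p g).Nodup) (hcard : Nat.card Γ ≤ l.length * Nat.card K)
    (hl : 0 < l.length) : fixPt act hone hmul p ≤ K := by
  have hle : K ≤ fixPt act hone hmul p := hK
  have h := card_step act hone hmul ⊤ (fixPt act hone hmul p) p id le_top (fun g hg => hg) l
    (fun g _ => trivial) hd
  rw [Subgroup.card_top] at h
  refine (Subgroup.eq_of_le_of_card_ge hle ?_).ge
  exact Nat.le_of_mul_le_mul_left (h.trans hcard) hl

include hone hmul in
/-- An element commuting with generators of the stabiliser: conjugation depends only on the image. -/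
theorem conj_eq_of_act_eq {H : Type*} [Group H] (f : Γ →* H) (z : H) (K : Subgroup Γ) (p : P)
    (hK : fixPt act hone hmul p ≤ K) (hz : ∀ k ∈ K, Commute z (f k)) {g h : Γ}
    (he : act p g = act p h) : (f g)⁻¹ * z * f g = (f h)⁻¹ * z * f h := by
  have hk : g * h⁻¹ ∈ fixPt act hone hmul p := by
    show act p (g * h⁻¹) = p
    rw [hmul, he, ← hmul, mul_inv_cancel, hone]
  have hc := hz _ (hK hk)
  conv_lhs => rw [show g = g * h⁻¹ * h by group, map_mul]
  rw [mul_inv_rev, mul_assoc, mul_assoc, ← mul_assoc z, hc.eq]
  group

end Cfsg.Agent.Lib.J4Pres19
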