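import Cfsg.Agent.Lib.J4Pres19.Model

/-!
The shape of a certificate of the double coset enumeration, and the checks that only need codes.
-/

set_option autoImplicit false

namespace Cfsg.Agent.Lib.J4Pres19

open Cfsg.Agent.Lib.CosetEnum

/-- A move of a coset: multiply by an element, use an equation without `t`, or one with `t`. -/
inductive Move where
  | mul (k : ℕ)
  | use (f : ℕ) (rev : Bool) (k : ℕ)
  | tee (f : ℕ) (rev : Bool) (l : ℕ)

/-- An equation `H g_i a t^e = H g_j b` with its kind and its walk. -/
structure DFact where
  i : ℕ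
  a : ℕ
  e : ℕ
  j : ℕ
  b : ℕ
  kind : ℕ
  arg : ℕ
  steps : List Move

/-- The data of a node. -/
structure NData where
  gens : List ℕ
  gfact : List ℕ
  cases : List (ℕ × ℕ × Bool)
  links : List ℕ
  T : PTree
  defs : List (List ℕ)
  levels : List (ℕ × List ℕ)
  size : ℕ

/-- Unpack the links. -/
noncomputable def unpackOne (v j : ℕ) : ℕ :=
  Nat.land (Nat.shiftRight v (Nat.mul 40 j)) 1099511627775

/-- The child, the parent and the label of a link. -/
noncomputable def linkParts (x : ℕ) : ℕ × ℕ × ℕ :=
  (Nat.land x 16383, Nat.land (Nat.shiftRight x 14) 16383, Nat.land (Nat.shiftRight x 28) 2047)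

/-- The word of letters of a relator form: codes, and `none` for `t`. -/
noncomputable def relTokens (H : PTree) (r : ℕ × List (ℕ × ℕ)) : List (Option ℕ) :=
  some (getWord H r.1) ::
    r.2.flatMap fun p => [some (getWord H p.1), none, some (getWord H p.2)]

/-- Run moves; the state is the node, the code and the letters met so far. -/
noncomputable def runWalk (H L LI : PTree) (nH nL : ℕ) (acc : List DFact) :
    List Move → ℕ → ℕ → List (Option ℕ) → Option (ℕ × ℕ × List (Option ℕ))
  | [], i, h, w => some (i, h, w)
  | .mul k :: ms, i, h, w =>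
    bif Nat.blt k nH then
      runWalk H L LI nH nL acc ms i (mul h (getWord H k)) (w ++ [some (getWord H k)])
    else none
  | .use f rev k :: ms, i, h, w =>
    match acc[f]? with
    | none => none
    | some x =>
      let src := bif rev then (x.j, x.b) else (x.i, x.a)
      let dst := bif rev then (x.i, x.a) else (x.j, x.b)
      bif Nat.beq x.e 0 && Nat.beq src.1 i && Nat.blt k nH &&
          Nat.beq (mul (getWord H src.2) (getWord H k)) h then
        runWalk H L LI nH nL acc ms dst.1 (mul (getWord H dst.2) (getWord H k)) w
      else none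
  | .tee f rev l :: ms, i, h, w =>
    match acc[f]? with
    | none => none
    | some x =>
      let src := bif rev then (x.j, x.b) else (x.i, x.a)
      let dst := bif rev then (x.i, x.a) else (x.j, x.b)
      bif Nat.beq x.e 1 && Nat.beq src.1 i && Nat.blt l nL &&
          Nat.beq (mul (getWord H src.2) (getWord L l)) h then
        runWalk H L LI nH nL acc ms dst.1 (mul (getWord H dst.2) (getWord LI l)) (w ++ [none])
      else none

/-- The letters expected from a kind. -/
noncomputable def kindWord (H : PTree) (rels : List (ℕ × List (ℕ × ℕ))) : ℕ → ℕ → Option (List (Option ℕ))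
  | 2, _ => some []
  | 3, _ => some [none, none]
  | 4, _ => some [none]
  | 5, r => rels[r]?.map (relTokens H)
  | _, _ => none

/-- Check one equation from the earlier ones. -/
noncomputable def checkFact (H L LI : PTree) (nH nL : ℕ) (rels : List (ℕ × List (ℕ × ℕ)))
    (trees : List ℕ) (n : ℕ) (acc : List DFact) (f : DFact) : Bool :=
  Nat.blt f.a nH && Nat.blt f.b nH &&
  bif Nat.beq f.kind 0 then
    Nat.beq f.i 0 && Nat.beq f.j 0 && Nat.beq f.e 0
  else bif Nat.beq f.kind 1 then
    Nat.blt 0 f.j && Nat.blt f.i f.j && Nat.beq f.e 1 && Nat.beq (getWord H f.b) one &&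
      decide (trees[f.j - 1]? = some n)
  else
    match runWalk H L LI nH nL acc f.steps f.i (getWord H f.a) [], kindWord H rels f.kind f.arg with
    | some r, some w => Nat.beq r.1 f.j && Nat.beq r.2.1 (getWord H f.b) && decide (r.2.2 = w) &&
        Nat.beq f.e (bif Nat.blt f.kind 4 then 0 else 1)
    | _, _ => false

/-- Check all equations. -/
noncomputable def checkFacts (H L LI : PTree) (nH nL : ℕ) (rels : List (ℕ × List (ℕ × ℕ)))
    (trees : List ℕ) : ℕ → List DFact → List DFact → Bool
  | _, _, [] => true
  | n, acc, f :: fs =>
    checkFact H L LI nH nL rels trees n acc f &&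
      checkFacts H L LI nH nL rels trees (n + 1) (acc ++ [f]) fs

end Cfsg.Agent.Lib.J4Pres19
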