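import Cfsg.Agent.Lib.J4Pres19.Base

/-!
Vectors as points of the matrix group, and lower bounds from transversals of codes.
-/

set_option autoImplicit false

namespace Cfsg.Agent.Lib.J4Pres19

open Cfsg.Agent.Lib.CosetEnum

abbrev Vec12 : Type := Fin 12 → ZMod 2

/-- The row vector with a code. -/
def vec (v : ℕ) : Vec12 := fun j => bit (v.testBit j.1)

theorem vec_vmul (v N : ℕ) : vec (vmul v N) = Matrix.vecMul (vec v) (val N) := by
  funext j
  show bit ((vmulAux N v 12).testBit j.1) = _
  rw [vmulAux_testBit N v j.1 j.2 12 le_rfl, Finset.sum_range]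
  rfl

theorem vec_inj {a b : ℕ} (ha : a < 2 ^ 12) (hb : b < 2 ^ 12) (h : vec a = vec b) : a = b := by
  apply Nat.eq_of_testBit_eq
  intro j
  rcases lt_or_ge j 12 with hj | hj
  · have := congrFun h ⟨j, hj⟩
    simp only [vec] at this
    revert this
    generalize a.testBit j = x
    generalize b.testBit j = y
    cases x <;> cases y <;> simp [bit]
  · rw [Nat.testBit_lt_two_pow (lt_of_lt_of_le ha (Nat.pow_le_pow_right (by norm_num) hj)),
      Nat.testBit_lt_two_pow (lt_of_lt_of_le hb (Nat.pow_le_pow_right (by norm_num) hj))]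

/-- The action on vectors. -/
def vecAct (p : Vec12) (u : GL12) : Vec12 := Matrix.vecMul p (u : Mat12)

theorem vecAct_one (p : Vec12) : vecAct p 1 = p := by simp [vecAct]

theorem vecAct_mul (p : Vec12) (a b : GL12) : vecAct p (a * b) = vecAct (vecAct p a) b := by
  simp [vecAct, Matrix.vecMul_vecMul]

theorem vecAct_code {u : GL12} {c : ℕ} (h : (u : Mat12) = val c) (v : ℕ) :
    vecAct (vec v) u = vec (vmul v c) := by rw [vecAct, h, vec_vmul]

/-- Check transversals along a base. -/
noncomputable def checkLevels (C : PTree) (n : ℕ) : List ℕ → List (ℕ × List ℕ) → Bool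
  | _, [] => true
  | prev, L :: ls => Nat.blt L.1 4096 &&
      (L.2.all fun i => Nat.blt i n && prev.all fun p => Nat.beq (vmul p (getWord C i)) p) &&
      incr (L.2.map fun i => vmul L.1 (getWord C i)) && checkLevels C n (L.1 :: prev) ls

theorem checkLevels_spec (C : PTree) (n : ℕ) : ∀ (ls : List (ℕ × List ℕ)) (prev : List ℕ),
    checkLevels C n prev ls = true → ∀ k, ∀ hk : k < ls.length,
      (∀ i ∈ ls[k].2, i < n ∧ (∀ p ∈ prev, vmul p (getWord C i) = p) ∧
        ∀ j, ∀ hj : j < k, vmul (ls[j]'(hj.trans hk)).1 (getWord C i) = (ls[j]'(hj.trans hk)).1) ∧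
      (ls[k].2.map fun i => vmul ls[k].1 (getWord C i)).Nodup
  | [], _, _, k, hk => absurd hk (Nat.not_lt_zero k)
  | L :: ls, prev, h, k, hk => by
    simp only [checkLevels, Bool.and_eq_true, List.all_eq_true, Nat.blt_eq, Nat.beq_eq] at h
    obtain ⟨⟨⟨-, h1⟩, h2⟩, h3⟩ := h
    cases k with
    | zero =>
      refine ⟨fun i hi => ⟨(h1 i hi).1, (h1 i hi).2, fun j hj => absurd hj (Nat.not_lt_zero j)⟩, ?_⟩
      exact (incr_nodup _ h2).1
    | succ k =>
      obtain ⟨h4, h5⟩ := checkLevels_spec C n ls (L.1 :: prev) h3 k (by simpa using hk)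
      refine ⟨fun i hi => ?_, by simpa using h5⟩
      obtain ⟨a, b, c⟩ := h4 i (by simpa using hi)
      refine ⟨a, fun p hp => b p (List.mem_cons_of_mem _ hp), fun j hj => ?_⟩
      cases j with
      | zero => simpa using b L.1 List.mem_cons_self
      | succ j => simpa using c j (by omega)

/-- A subgroup containing the coded elements has at least the product of the lengths. -/
theorem card_ge_of_levels (K : Subgroup GL12) (C : PTree) (n : ℕ) (ls : List (ℕ × List ℕ))
    (hmem : ∀ i < n, ∃ u ∈ K, (u : Mat12) = val (getWord C i))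
    (h : checkLevels C n [] ls = true) : (ls.map fun L => L.2.length).prod ≤ Nat.card K := by
  classical
  let f : ℕ → GL12 := fun i => if hi : i < n then (hmem i hi).choose else 1
  have hf : ∀ i < n, f i ∈ K ∧ (f i : Mat12) = val (getWord C i) := fun i hi => by
    simp only [f, dif_pos hi]; exact (hmem i hi).choose_spec
  have hs := checkLevels_spec C n ls [] h
  have := card_chain vecAct vecAct_one vecAct_mul (id : Vec12 → Vec12)
    (ls.map fun L => (vec L.1, L.2.map f)) K ?_ ?_
  · simpa [List.map_map, Function.comp_def] using this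
  · intro k hk g hg
    simp only [List.length_map] at hk
    simp only [List.getElem_map, List.mem_map] at hg ⊢
    obtain ⟨i, hi, rfl⟩ := hg
    obtain ⟨a, -, c⟩ := (hs k hk).1 i hi
    refine ⟨(hf i a).1, fun j hj => ?_⟩
    rw [vecAct_code (hf i a).2, c j hj]
  · intro L hL
    simp only [List.mem_map] at hL
    obtain ⟨L, hL, rfl⟩ := hL
    obtain ⟨k, hk, rfl⟩ := List.mem_iff_getElem.1 hL
    obtain ⟨h1, h2⟩ := hs k hk
    rw [List.map_map]
    refine List.Nodup.map_on ?_ (List.Nodup.of_map _ h2)
    intro i hi j hj e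
    simp only [Function.comp_apply, id_eq] at e
    rw [vecAct_code (hf i (h1 i hi).1).2, vecAct_code (hf j (h1 j hj).1).2] at e
    exact List.inj_on_of_nodup_map h2 hi hj (vec_inj (vmul_lt _ _) (vmul_lt _ _) e)

end Cfsg.Agent.Lib.J4Pres19
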