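import Mathlib

/-!
A fast code for 12 by 12 matrices over the integers modulo 2: rows in lanes of 12 bits of one
natural number. Used as a model of the group `2^11:M24` on affine functionals.
-/

set_option autoImplicit false
set_option linter.unusedSimpArgs false

namespace Cfsg.Agent.Lib.J4Pres19

abbrev Mat12 : Type := Matrix (Fin 12) (Fin 12) (ZMod 2)

def lane (N k : ℕ) : ℕ :=
  Nat.land (Nat.shiftRight N (Nat.mul 12 k)) 4095

/-- A unit in every lane. -/
def lanesMask : ℕ :=
  2^0 + 2^12 + 2^24 + 2^36 + 2^48 + 2^60 + 2^72 + 2^84 + 2^96 + 2^108 + 2^120 + 2^132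

def mulAux (B A : ℕ) : ℕ → ℕ
  | 0 => 0
  | i + 1 => Nat.xor (mulAux B A i)
      (Nat.mul (Nat.land (Nat.shiftRight A i) 5445847423328601499764522166702896582657) (lane B i))

/-- The product of coded matrices. -/
def mul (A B : ℕ) : ℕ := mulAux B A 12

/-- The identity. -/
def one : ℕ :=
  2^0 + 2^13 + 2^26 + 2^39 + 2^52 + 2^65 + 2^78 + 2^91 + 2^104 + 2^117 + 2^130 + 2^143

def vmulAux (N v : ℕ) : ℕ → ℕ
  | 0 => 0
  | i + 1 => Nat.xor (vmulAux N v i) (Nat.mul (Nat.land (Nat.shiftRight v i) 1) (lane N i))

/-- A row vector times a coded matrix. -/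
def vmul (v N : ℕ) : ℕ := vmulAux N v 12

/-- A bit as a residue modulo 2. -/
def bit (b : Bool) : ZMod 2 := if b then 1 else 0

theorem bit_xor (a b : Bool) : bit (a ^^ b) = bit a + bit b := by
  cases a <;> cases b <;> decide

/-- The matrix with a given code. -/
def val (N : ℕ) : Mat12 := Matrix.of fun i j => bit ((lane N i.1).testBit j.1)

theorem testBit_lane (N k j : ℕ) :
    (lane N k).testBit j = (decide (j < 12) && N.testBit (12 * k + j)) := by
  show ((N >>> (12 * k)) &&& 4095).testBit j = _
  rw [Nat.testBit_and, Nat.testBit_shiftRight, show 4095 = 2 ^ 12 - 1 from rfl,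
    Nat.testBit_two_pow_sub_one, Bool.and_comm]

theorem lanesMask_eq : 5445847423328601499764522166702896582657 = lanesMask := by decide +kernel

theorem lane_congr {N N' : ℕ} (h : val N = val N') {i : ℕ} (hi : i < 12) : lane N i = lane N' i := by
  apply Nat.eq_of_testBit_eq
  intro j
  rcases lt_or_ge j 12 with hj | hj
  · have e := congrFun (congrFun h ⟨i, hi⟩) ⟨j, hj⟩
    simp only [val, Matrix.of_apply] at e
    revert e
    generalize (lane N i).testBit j = a
    generalize (lane N' i).testBit j = b
    cases a <;> cases b <;> simp [bit]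
  · rw [testBit_lane, testBit_lane, decide_eq_false (by omega)]
    rfl

theorem vmul_congr (v : ℕ) {N N' : ℕ} (h : val N = val N') : vmul v N = vmul v N' := by
  have : ∀ n ≤ 12, vmulAux N v n = vmulAux N' v n := by
    intro n
    induction n with
    | zero => intro _; rfl
    | succ n ih =>
      intro hn
      show Nat.xor _ _ = Nat.xor _ _
      rw [ih (by omega), lane_congr h (show n < 12 by omega)]
  exact this 12 le_rfl

theorem mask_mul (X c : ℕ) (hc : c < 2 ^ 12) {k : ℕ} (hk : k < 12) :
    lane (Nat.land X lanesMask * c) k = (X.testBit (12 * k)).toNat * c := by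
  have hb : ∀ n : ℕ, Nat.land X lanesMask / 2 ^ (12 * n) % 2 ^ 12 =
      if n < 12 then (X.testBit (12 * n)).toNat else 0 := by
    intro n
    apply Nat.eq_of_testBit_eq
    intro j
    rw [Nat.testBit_mod_two_pow, Nat.testBit_div_two_pow]
    show (decide (j < 12) && (X &&& lanesMask).testBit (j + 12 * n)) = _
    rw [Nat.testBit_and]
    have hm : ∀ m, lanesMask.testBit m = (decide (m < 144) && decide (m % 12 = 0)) := by
      intro m
      rcases lt_or_ge m 144 with h | h
      · have : ((List.range 144).all fun m =>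
            lanesMask.testBit m == (decide (m < 144) && decide (m % 12 = 0))) = true := by
          decide +kernel
        have := List.all_eq_true.1 this m (List.mem_range.2 h)
        exact beq_iff_eq.1 this
      · rw [decide_eq_false (by omega), Bool.false_and]
        exact Nat.testBit_lt_two_pow (lt_of_lt_of_le (by decide +kernel : lanesMask < 2 ^ 144)
          (Nat.pow_le_pow_right (by norm_num) h))
    rw [hm]
    rcases lt_or_ge j 12 with hj | hj
    · rw [decide_eq_true hj, Bool.true_and]
      rcases Nat.eq_zero_or_pos j with rfl | hj0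
      · rw [Nat.zero_add, decide_eq_true (show 12 * n % 12 = 0 by omega), Bool.and_true]
        split
        · rw [decide_eq_true (by omega), Bool.and_true]
          cases X.testBit (12 * n) <;> rfl
        · rw [decide_eq_false (by omega)]
          simp
      · rw [decide_eq_false (show ¬ (j + 12 * n) % 12 = 0 by omega), Bool.and_false, Bool.and_false]
        split
        · cases X.testBit (12 * n) <;> simp [Nat.testBit_lt_two_pow, Nat.one_lt_two_pow, hj0.ne']
        · simp
    · rw [decide_eq_false (by omega), Bool.false_and]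
      split
      · cases X.testBit (12 * n) <;>
          simp [Nat.testBit_lt_two_pow, Nat.one_lt_two_pow, (show j ≠ 0 by omega)]
      · simp
  -- no carries: every lane of the mask is a single bit
  set Y := Nat.land X lanesMask with hY
  have hrec : ∀ n : ℕ, Y / 2 ^ (12 * n) = (Y / 2 ^ (12 * n) % 2 ^ 12) + 2 ^ 12 * (Y / 2 ^ (12 * (n + 1))) := by
    intro n
    rw [show 12 * (n + 1) = 12 * n + 12 by ring, pow_add, ← Nat.div_div_eq_div_mul, Nat.mod_add_div]
  have hdiv : ∀ n ≤ 12, Y * c / 2 ^ (12 * n) = Y / 2 ^ (12 * n) * c := by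
    intro n
    induction n with
    | zero => intro _; simp
    | succ n ih =>
      intro hn
      rw [show 12 * (n + 1) = 12 * n + 12 by ring, pow_add, ← Nat.div_div_eq_div_mul, ih (by omega),
        ← Nat.div_div_eq_div_mul]
      conv_lhs => rw [hrec n, Nat.add_mul, Nat.mul_assoc]
      rw [Nat.add_mul_div_left _ _ (Nat.two_pow_pos 12), Nat.div_eq_of_lt, Nat.zero_add,
        show 12 * (n + 1) = 12 * n + 12 by ring, pow_add, ← Nat.div_div_eq_div_mul]
      rw [hb n, if_pos (show n < 12 by omega)]
      cases X.testBit (12 * n) <;> simp <;> omega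
  rw [show lane (Y * c) k = Y * c / 2 ^ (12 * k) % 2 ^ 12 by
      show (Y * c) >>> (12 * k) &&& 4095 = _
      rw [Nat.shiftRight_eq_div_pow, show 4095 = 2 ^ 12 - 1 from rfl, Nat.and_two_pow_sub_one_eq_mod],
    hdiv k hk.le, hrec k, Nat.add_mul, Nat.mul_assoc, Nat.add_mul_mod_self_left, hb k, if_pos hk,
    Nat.mod_eq_of_lt]
  cases X.testBit (12 * k) <;> simp <;> omega

theorem lane_lt (N k : ℕ) : lane N k < 2 ^ 12 :=
  lt_of_le_of_lt (Nat.and_le_right) (by norm_num)

theorem bit_mulAux (B A : ℕ) {i : ℕ} (hi : i < 12) {j : ℕ} :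
    ∀ n ≤ 12, bit ((lane (mulAux B A n) i).testBit j) =
      ∑ k ∈ Finset.range n, bit ((lane A i).testBit k) * bit ((lane B k).testBit j)
  | 0, _ => by simp [mulAux, testBit_lane, bit]
  | n + 1, hn => by
    rw [Finset.sum_range_succ, ← bit_mulAux B A hi n (by omega)]
    show bit ((lane (mulAux B A n ^^^ Nat.land (A >>> n) _ * lane B n) i).testBit j) = _
    have hx : ∀ a b, (lane (a ^^^ b) i).testBit j =
        ((lane a i).testBit j ^^ (lane b i).testBit j) := by
      intro a b
      simp only [testBit_lane, Nat.testBit_xor]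
      cases decide (j < 12) <;> simp
    rw [hx, bit_xor, lanesMask_eq, mask_mul _ _ (lane_lt B n) hi]
    congr 1
    rw [Nat.testBit_shiftRight, show (lane A i).testBit n = A.testBit (n + 12 * i) by
      rw [testBit_lane, decide_eq_true (show n < 12 by omega), Bool.true_and, Nat.add_comm]]
    cases A.testBit (n + 12 * i) <;> simp [bit]

theorem val_mul (A B : ℕ) : val (mul A B) = val A * val B := by
  ext i j
  rw [Matrix.mul_apply]
  show bit ((lane (mulAux B A 12) i.1).testBit j.1) = _
  rw [bit_mulAux B A i.2 12 le_rfl, Finset.sum_range]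
  rfl

theorem lane_one_ok : ((List.range 12).all fun i =>
    Nat.beq (lane one i) (Nat.shiftLeft 1 i)) = true := by decide +kernel

theorem val_one : val one = 1 := by
  ext i j
  show bit ((lane one i.1).testBit j.1) = _
  rw [Nat.eq_of_beq_eq_true (List.all_eq_true.1 lane_one_ok i.1 (List.mem_range.2 i.2)),
    show Nat.shiftLeft 1 i.1 = 2 ^ i.1 from Nat.one_shiftLeft i.1, Nat.testBit_two_pow, Matrix.one_apply]
  by_cases h : i = j
  · subst h; simp [bit]
  · simp [bit, h, Fin.val_ne_of_ne h]

theorem vmulAux_testBit (N v j : ℕ) (hj : j < 12) : ∀ n ≤ 12,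
    bit ((vmulAux N v n).testBit j) = ∑ k ∈ Finset.range n, bit (v.testBit k) * bit ((lane N k).testBit j)
  | 0, _ => by simp [vmulAux, bit]
  | n + 1, hn => by
    rw [Finset.sum_range_succ, ← vmulAux_testBit N v j hj n (by omega)]
    show bit ((vmulAux N v n ^^^ (v >>> n &&& 1) * lane N n).testBit j) = _
    rw [Nat.testBit_xor, bit_xor]
    congr 1
    rw [Nat.and_one_is_mod, Nat.shiftRight_eq_div_pow, ← Nat.toNat_testBit]
    cases v.testBit n <;> simp [bit]

theorem vmul_lt (v N : ℕ) : vmul v N < 2 ^ 12 := by
  have : ∀ n, vmulAux N v n < 2 ^ 12 := by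
    intro n
    induction n with
    | zero => show (0 : ℕ) < _; norm_num
    | succ n ih =>
      refine Nat.xor_lt_two_pow ih ?_
      show (v >>> n &&& 1) * lane N n < _
      rw [Nat.and_one_is_mod]
      have := lane_lt N n
      rcases Nat.mod_two_eq_zero_or_one (v >>> n) with h | h <;> rw [h] <;> simp <;> omega
  exact this 12

theorem vmul_mul (v A B : ℕ) : vmul v (mul A B) = vmul (vmul v A) B := by
  apply Nat.eq_of_testBit_eq
  intro j
  rcases lt_or_ge j 12 with hj | hj
  · have key : bit ((vmul v (mul A B)).testBit j) = bit ((vmul (vmul v A) B).testBit j) := by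
      show bit ((vmulAux _ v 12).testBit j) = bit ((vmulAux B _ 12).testBit j)
      rw [vmulAux_testBit _ _ j hj 12 le_rfl, vmulAux_testBit _ _ j hj 12 le_rfl]
      have e : ∀ k < 12, bit ((lane (mul A B) k).testBit j) =
          ∑ l ∈ Finset.range 12, bit ((lane A k).testBit l) * bit ((lane B l).testBit j) :=
        fun k hk => bit_mulAux B A hk 12 le_rfl
      have e' : ∀ l < 12, bit ((vmul v A).testBit l) =
          ∑ k ∈ Finset.range 12, bit (v.testBit k) * bit ((lane A k).testBit l) :=
        fun l hl => vmulAux_testBit A v l hl 12 le_rfl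
      rw [Finset.sum_congr rfl fun k hk => by rw [e k (Finset.mem_range.1 hk), Finset.mul_sum],
        Finset.sum_comm]
      refine Finset.sum_congr rfl fun l hl => ?_
      rw [e' l (Finset.mem_range.1 hl), Finset.sum_mul]
      exact Finset.sum_congr rfl fun k _ => (mul_assoc _ _ _).symm
    revert key
    generalize (vmul v (mul A B)).testBit j = a
    generalize (vmul (vmul v A) B).testBit j = b
    cases a <;> cases b <;> simp [bit]
  · rw [Nat.testBit_lt_two_pow (lt_of_lt_of_le (vmul_lt _ _) (Nat.pow_le_pow_right (by norm_num) hj)),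
      Nat.testBit_lt_two_pow (lt_of_lt_of_le (vmul_lt _ _) (Nat.pow_le_pow_right (by norm_num) hj))]

end Cfsg.Agent.Lib.J4Pres19
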