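import Cfsg.Agent.Lib.J4Pres19.Nodes

/-!
The double cosets of `<x, y, w>`: every element lies in one of seven, and their sizes bound the order.
-/

set_option autoImplicit false
set_option maxRecDepth 20000
set_option Elab.async false

namespace Cfsg.Agent.Lib.J4Pres19

open Cfsg.Agent.Lib.CosetEnum

/-- The orders of the stabilisers. -/
def stabSize : Fin 7 → ℕ := ![501397585920, 33030144, 17694720, 147456, 15360, 9216, 6072]

/-- The sizes of the suborbits. -/
def subSize : Fin 7 → ℕ := ![1, 15180, 28336, 3400320, 32643072, 54405120, 82575360]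

theorem subSize_spec : (∀ i, subSize i * stabSize i = 501397585920) ∧ ∑ i, subSize i = 173067389 := by
  decide +kernel

/-- The generators give the whole group. -/
def TRel.Gen {G : Type*} [Group G] (R : TRel G) : Prop :=
  Subgroup.closure {R.x, R.y, R.t} = (⊤ : Subgroup G)

namespace TRel

variable {G : Type*} [Group G] (R : TRel G)

theorem facts_rel : ∀ f ∈ facts, R.Rel f :=
  R.checkFacts_sound facts [] 0 facts_ok rfl rfl (by simp)

theorem node_one : R.node 1 = R.t := by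
  obtain ⟨-, hi, ha⟩ := sizes_ok
  have h4 : R.hel 4 = 1 := by rw [hel, LT_fix.2.2.2.2]; exact R.HM.el_one
  rw [show (1 : ℕ) = 0 + 1 from rfl, node, if_pos (by rw [hi]), hi, ha, h4, node, one_mul, one_mul]

theorem node_zero : R.node 0 = 1 := by rw [node]

theorem nodeData_spec (i : Fin 7) : ∃ d : NData, checkNode i.1 d = true ∧ d.size = stabSize i := by
  have hlen : nodeDatas.length = 7 := rfl
  refine ⟨nodeDatas[i.1]'(lt_of_lt_of_eq i.2 hlen.symm), nodes_ok _ _, ?_⟩
  have h := congrArg (fun l => l.getD i.1 0) sizes_ok.1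
  simp only [List.getD_eq_getElem?_getD, List.getElem?_map,
    List.getElem?_eq_getElem (show i.1 < nodeDatas.length by rw [hlen]; exact i.2), Option.map_some,
    Option.getD_some] at h
  rw [h]
  fin_cases i <;> rfl

/-- The stabiliser of a node. -/
noncomputable def nodeStab (i : Fin 7) : Subgroup R.toWRel.DH :=
  (R.P.comap (MulAut.conj (R.node i.1)).toMonoidHom).comap
    ((MonoidHom.snd GL12 G).comp R.toWRel.DH.subtype)

theorem mem_nodeStab {i : Fin 7} {a : R.toWRel.DH} :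
    a ∈ R.nodeStab i ↔ R.node i.1 * a.1.2 * (R.node i.1)⁻¹ ∈ R.P := by
  simp [nodeStab, Subgroup.mem_comap]

/-- The seven double cosets. -/
def Cov (z : G) : Prop := ∃ i : Fin 7, ∃ p ∈ R.P, z * (R.node i.1 * p)⁻¹ ∈ R.P

theorem cov_P {p : G} (h : p ∈ R.P) : R.Cov p :=
  ⟨0, 1, one_mem _, by rw [show ((0 : Fin 7).1) = 0 from rfl, R.node_zero]; simpa using h⟩

theorem cov_mul_P {z p : G} (h : R.Cov z) (hp : p ∈ R.P) : R.Cov (z * p) := by
  obtain ⟨i, q, hq, h⟩ := h
  exact ⟨i, q * p, mul_mem hq hp, by simpa [mul_inv_rev, mul_assoc] using h⟩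

theorem cov_left {z q : G} (h : R.Cov z) (hq : q ∈ R.P) : R.Cov (q * z) := by
  obtain ⟨i, p, hp, h⟩ := h
  exact ⟨i, p, hp, by simpa [mul_assoc] using mul_mem hq h⟩

theorem node_gen {i : Fin 7} {d : NData} (hd : checkNode i.1 d = true) {k : ℕ} (hk : k < d.gens.length) :
    d.gens.getD k 0 < nHT ∧ getWord d.T k = getWord HT (d.gens.getD k 0) ∧
      R.node i.1 * R.hel (d.gens.getD k 0) * (R.node i.1)⁻¹ ∈ R.P := by
  simp only [checkNode, Bool.and_eq_true, List.all_eq_true, List.mem_range] at hd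
  have h := hd.1.1.1.1.1.1 k hk
  simp only [checkNodeGen, Bool.and_eq_true, Nat.blt_eq, Nat.beq_eq] at h
  obtain ⟨⟨hlt, hT⟩, hf⟩ := h
  refine ⟨hlt, hT, ?_⟩
  cases hx : facts[d.gfact.getD k 0]? with
  | none => rw [hx] at hf; simp at hf
  | some x =>
    rw [hx] at hf
    simp only [Bool.and_eq_true, Nat.beq_eq] at hf
    obtain ⟨⟨⟨⟨hi, ha⟩, he⟩, hj⟩, hb⟩ := hf
    obtain ⟨h, -⟩ := R.facts_rel x (List.mem_of_getElem? hx)
    rw [hi, ha, he, hj, pow_zero, mul_one, show R.hel x.b = 1 by rw [hel, hb]; exact R.HM.el_one,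
      mul_one] at h
    exact h

theorem node_step (i : Fin 7) (a : R.toWRel.DH) : R.Cov (R.node i.1 * a.1.2 * R.t) := by
  obtain ⟨d, hd, -⟩ := nodeData_spec i
  obtain ⟨c, hc, he⟩ := R.orbit_cover a⁻¹
  suffices ∀ c < 15180, ∀ a : R.toWRel.DH, R.pAct (keyMs (keyAt c)) a = phiMs →
      R.Cov (R.node i.1 * a.1.2 * R.t) by
    refine this c hc a ?_
    rw [← he, ← R.pAct_mul, inv_mul_cancel, R.pAct_one]
  have hg := fun k hk => R.node_gen hd (k := k) hk
  simp only [checkNode, Bool.and_eq_true, List.all_eq_true] at hd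
  refine linksFull_sound (fun c p k h hp a ha => ?_) hd.2
  unfold nodeOK at h
  cases h0 : Nat.beq p 0 with
  | true =>
    rw [h0, cond_true] at h
    simp only [Bool.and_eq_true, Nat.blt_eq, Nat.beq_eq] at h
    obtain ⟨hk, hpos⟩ := h
    have hcase := hd.1.2 _ (List.getElem_mem hk)
    rw [List.getD_eq_getElem _ _ hk] at hpos
    unfold checkCase at hcase
    cases hx : facts[(d.cases[k]).2.1]? with
    | none => rw [hx] at hcase; simp at hcase
    | some x =>
      rw [hx] at hcase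
      simp only [Bool.and_eq_true, Nat.beq_eq, Nat.blt_eq, List.isPerm_iff] at hcase
      obtain ⟨⟨⟨hxe, hsrc⟩, hdst⟩, hperm⟩ := hcase
      obtain ⟨ho, hs, ht⟩ := R.rel_orient (R.facts_rel x (List.mem_of_getElem? hx)) (d.cases[k]).2.2
      simp only [caseEnds] at hsrc hdst hperm
      generalize (bif (d.cases[k]).2.2 then (x.j, x.b) else (x.i, x.a)) = src at hsrc hperm ho hs
      generalize (bif (d.cases[k]).2.2 then (x.i, x.a) else (x.j, x.b)) = dst at hdst ho ht
      rw [hxe, pow_one] at ho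
      obtain ⟨b, hb, hbe⟩ := R.exists_of_mem (R.toWRel.mem_H hs)
      have hfix : R.pAct phiMs (b⁻¹ * a) = phiMs := by
        have hbk : R.pAct (keyMs (keyAt c)) b = phiMs := by
          rw [← hpos, pAct, keyMs, phiMs, msAct, Multiset.map_coe, Multiset.coe_eq_coe, List.map_map]
          refine List.Perm.trans (List.Perm.of_eq ?_) (hperm.map vec)
          rw [List.map_map]
          exact List.map_congr_left fun v _ => vecAct_code hb v
        have hb' : R.pAct phiMs b⁻¹ = keyMs (keyAt c) := by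
          rw [← hbk, ← R.pAct_mul, mul_inv_cancel, R.pAct_one]
        rw [R.pAct_mul, hb', ha]
      have hm := R.stab_le _ hfix
      have hdP := R.el_mem_P (R.toWRel.mem_H ht)
      refine ⟨⟨dst.1, hdst⟩, R.hel dst.2 * (R.t * (b⁻¹ * a).1.2 * R.t), mul_mem hdP hm, ?_⟩
      rw [hsrc] at ho
      rw [show R.hel src.2 = b.1.2 from hbe.symm] at ho
      have e : (b⁻¹ * a).1.2 = b.1.2⁻¹ * a.1.2 := rfl
      rw [e]
      convert ho using 1
      simp [mul_inv_rev, mul_assoc, R.tinv,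
        show ∀ z : G, R.t * (R.t * z) = z from fun z => by rw [← mul_assoc, R.tt, one_mul]]
  | false =>
    rw [h0, cond_false] at h
    simp only [Bool.and_eq_true, Nat.blt_eq] at h
    obtain ⟨hlt, -, hgP⟩ := hg k h.1
    obtain ⟨g, hgv, hge⟩ := R.exists_of_mem (R.toWRel.mem_H hlt)
    have := hp.resolve_left (Nat.ne_of_beq_eq_false h0) (g * a) (by
      rw [R.pAct_mul, show R.pAct (keyMs (keyAt (p - 1))) g = keyMs (keyAt c) from keyImg_sound h.2 hgv]
      exact ha)
    have h2 := R.cov_left this (R.P.inv_mem hgP)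
    convert h2 using 1
    rw [show (g * a).1.2 = g.1.2 * a.1.2 from rfl, hge]
    simp [hel, mul_inv_rev, mul_assoc]

theorem cov_mul_t {z : G} (h : R.Cov z) : R.Cov (z * R.t) := by
  obtain ⟨i, p, hp, h⟩ := h
  obtain ⟨a, ha, rfl⟩ := hp
  have h2 := R.cov_left (R.node_step i ⟨a, ha⟩) h
  convert h2 using 1
  show z * R.t = z * (R.node i.1 * a.2)⁻¹ * (R.node i.1 * a.2 * R.t)
  group

theorem x_mem_P : R.x ∈ R.P := ⟨R.toWRel.pX, Subgroup.subset_closure (by simp), rfl⟩

theorem y_mem_P : R.y ∈ R.P := ⟨R.toWRel.pY, Subgroup.subset_closure (by simp), rfl⟩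

theorem w_mem_P : R.toWRel.w ∈ R.P := ⟨R.toWRel.pW, Subgroup.subset_closure (by simp), rfl⟩

theorem cov_all (hG : R.Gen) (z : G) : R.Cov z := by
  have hz : z ∈ Subgroup.closure {R.x, R.y, R.t} := hG ▸ Subgroup.mem_top z
  have step : ∀ s ∈ ({R.x, R.y, R.t} : Set G), ∀ u, R.Cov u → R.Cov (u * s) ∧ R.Cov (u * s⁻¹) := by
    intro s hs u hu
    simp only [Set.mem_insert_iff, Set.mem_singleton_iff] at hs
    rcases hs with rfl | rfl | rfl
    · exact ⟨R.cov_mul_P hu R.x_mem_P, R.cov_mul_P hu (inv_mem R.x_mem_P)⟩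
    · exact ⟨R.cov_mul_P hu R.y_mem_P, R.cov_mul_P hu (inv_mem R.y_mem_P)⟩
    · rw [R.tinv]; exact ⟨R.cov_mul_t hu, R.cov_mul_t hu⟩
  induction hz using Subgroup.closure_induction_right with
  | one => exact R.cov_P (one_mem _)
  | mul_right u hu s hs ih => exact (step s hs u ih).1
  | mul_inv_cancel u hu s hs ih => exact (step s hs u ih).2

theorem card_nodeStab (i : Fin 7) : stabSize i ≤ Nat.card (R.nodeStab i) := by
  haveI := R.finite_DH
  obtain ⟨d, hd, hsz⟩ := nodeData_spec i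
  have hg := fun k hk => R.node_gen hd (k := k) hk
  simp only [checkNode, Bool.and_eq_true, List.all_eq_true, Nat.beq_eq] at hd
  obtain ⟨⟨⟨⟨⟨⟨-, hT⟩, hlv⟩, hprod⟩, -⟩, -⟩, -⟩ := hd
  let f : R.nodeStab i →* GL12 :=
    ((MonoidHom.fst GL12 G).comp R.toWRel.DH.subtype).comp (R.nodeStab i).subtype
  refine le_trans ?_ (Nat.card_le_card_of_surjective f.rangeRestrict f.rangeRestrict_surjective)
  rw [← hsz, ← hprod]
  refine card_ge_of_levels f.range d.T _ d.levels (fun k hk => ?_) hlv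
  have : ∃ a ∈ R.nodeStab i, (a.1.1 : Mat12) = val (getWord d.T k) := by
    refine checkTable_ind (P := fun c => ∃ a ∈ R.nodeStab i, (a.1.1 : Mat12) = val c)
      ⟨1, one_mem _, by simp [val_one]⟩
      (fun u v ⟨p, hp, e⟩ ⟨q, hq, e'⟩ => ⟨p * q, mul_mem hp hq, by simp [val_mul, e, e']⟩)
      d.defs d.gens.length hT (fun m hm => ?_) k hk
    obtain ⟨hlt, hTm, hgP⟩ := hg m hm
    obtain ⟨g, hgv, hge⟩ := R.exists_of_mem (R.toWRel.mem_H hlt)
    exact ⟨g, R.mem_nodeStab.2 (by rw [hge]; exact hgP), by rw [hTm]; exact hgv⟩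
  obtain ⟨a, ha, e⟩ := this
  exact ⟨f ⟨a, ha⟩, ⟨_, rfl⟩, e⟩

theorem index_nodeStab (i : Fin 7) : (R.nodeStab i).index ≤ subSize i := by
  haveI := R.finite_DH
  have h1 := (R.nodeStab i).card_mul_index
  rw [R.toWRel.card_DH_eq.1] at h1
  have h2 := R.card_nodeStab i
  have h3 := subSize_spec.1 i
  by_contra hlt
  push Not at hlt
  have hpos : 0 < stabSize i := by fin_cases i <;> simp [stabSize]
  have : subSize i * stabSize i < (R.nodeStab i).index * Nat.card (R.nodeStab i) := by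
    calc subSize i * stabSize i < (R.nodeStab i).index * stabSize i := Nat.mul_lt_mul_of_pos_right hlt hpos
      _ ≤ _ := Nat.mul_le_mul_left _ h2
  rw [h3, Nat.mul_comm, h1] at this
  exact lt_irrefl _ this

/-- The pieces of the double cosets. -/
abbrev Piece : Type _ := (i : Fin 7) × (R.P × (R.toWRel.DH ⧸ R.nodeStab i))

/-- The element of a piece. -/
noncomputable def pieceVal (x : R.Piece) : G :=
  x.2.1.1 * R.node x.1.1 * (Quotient.out x.2.2).1.2⁻¹

theorem pieceVal_surj (hG : R.Gen) : Function.Surjective R.pieceVal := by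
  intro z
  obtain ⟨i, p, hp, h⟩ := R.cov_all hG z
  obtain ⟨a, ha, rfl⟩ : ∃ a ∈ R.toWRel.DH, p = a.2⁻¹ := by
    obtain ⟨a, ha, e⟩ := R.P.inv_mem hp
    exact ⟨a, ha, by rw [show a.2 = p⁻¹ from e, inv_inv]⟩
  let a' : R.toWRel.DH := ⟨a, ha⟩
  obtain ⟨k, hk⟩ := QuotientGroup.mk_out_eq_mul (R.nodeStab i) a'
  refine ⟨⟨i, ⟨z * (R.node i.1 * a.2⁻¹)⁻¹ *
    (R.node i.1 * k.1.1.2 * (R.node i.1)⁻¹), mul_mem h (R.mem_nodeStab.1 k.2)⟩, (a' : _ ⧸ _)⟩, ?_⟩
  rw [pieceVal]
  simp only [hk]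
  show z * (R.node i.1 * a.2⁻¹)⁻¹ * (R.node i.1 * k.1.1.2 * (R.node i.1)⁻¹) * R.node i.1 *
    (a.2 * k.1.1.2)⁻¹ = z
  group

theorem card_P_le : Nat.card R.P ≤ 501397585920 := by
  haveI := R.finite_DH
  rw [← R.toWRel.card_DH_eq.1]
  exact Nat.card_le_card_of_surjective (fun a : R.toWRel.DH => (⟨a.1.2, R.snd_mem_P a⟩ : R.P))
    fun ⟨_, a, ha, e⟩ => ⟨⟨a, ha⟩, Subtype.ext e⟩

theorem finite_P : Finite R.P := by
  haveI := R.finite_DH
  exact Finite.of_surjective (fun a : R.toWRel.DH => (⟨a.1.2, R.snd_mem_P a⟩ : R.P))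
    fun ⟨_, a, ha, e⟩ => ⟨⟨a, ha⟩, Subtype.ext e⟩

theorem card_piece : Nat.card R.Piece = Nat.card R.P * ∑ i, (R.nodeStab i).index := by
  haveI := R.finite_DH
  haveI := R.finite_P
  rw [Nat.card_sigma, Finset.mul_sum]
  exact Finset.sum_congr rfl fun i _ => by rw [Nat.card_prod, Subgroup.index]

theorem finite_G (hG : R.Gen) : Finite G := by
  haveI := R.finite_DH
  haveI := R.finite_P
  exact Finite.of_surjective _ (R.pieceVal_surj hG)

theorem card_le (hG : R.Gen) : Nat.card G ≤ 86775571046077562880 := by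
  haveI := R.finite_DH
  haveI := R.finite_P
  calc Nat.card G ≤ Nat.card R.Piece := Nat.card_le_card_of_surjective _ (R.pieceVal_surj hG)
    _ = Nat.card R.P * ∑ i, (R.nodeStab i).index := R.card_piece
    _ ≤ 501397585920 * ∑ i, subSize i :=
        Nat.mul_le_mul R.card_P_le (Finset.sum_le_sum fun i _ => R.index_nodeStab i)
    _ = 86775571046077562880 := by rw [subSize_spec.2]

end TRel

end Cfsg.Agent.Lib.J4Pres19
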