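import Cfsg.Agent.Lib.J4Pres19.Cert

/-! The derived equations between cosets. -/

set_option autoImplicit false
set_option maxRecDepth 100000
set_option maxHeartbeats 0
set_option Elab.async false

namespace Cfsg.Agent.Lib.J4Pres19

open Cfsg.Agent.Lib.CosetEnum

/-- Part of `facts`. -/
def facts0 : List DFact := [
  ⟨0, 0, 0, 0, 4, 0, 0, []⟩,
  ⟨0, 1, 0, 0, 4, 0, 0, []⟩,
  ⟨0, 4, 1, 1, 4, 1, 0, []⟩,
  ⟨0, 0, 0, 0, 4, 0, 0, []⟩,
  ⟨1, 4, 0, 1, 0, 3, 0, [.tee 2 true 3, .use 3 true 4, .tee 2 false 0]⟩,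
  ⟨1, 0, 0, 1, 4, 2, 0, [.use 4 false 0]⟩,
  ⟨0, 2336, 0, 0, 4, 0, 0, []⟩,
  ⟨1, 4, 0, 1, 2336, 3, 0, [.tee 2 true 3, .use 6 true 4, .tee 2 false 1]⟩,
  ⟨1, 2337, 0, 1, 4, 2, 0, [.use 7 false 2337]⟩,
  ⟨0, 2338, 0, 0, 4, 0, 0, []⟩,
  ⟨1, 4, 0, 1, 2339, 3, 0, [.tee 2 true 3, .use 9 true 4, .tee 2 false 2]⟩,
  ⟨1, 2339, 0, 1, 4, 2, 0, [.use 10 false 2339]⟩,
  ⟨1, 2272, 1, 1, 2280, 5, 2, [.mul 4, .mul 2273, .tee 2 true 3, .mul 2272, .mul 2279, .use 1 true 2274, .use 0 true 627, .use 1 true 2340, .use 1 true 2341, .use 0 true 434, .use 1 true 2342, .use 1 true 2279, .use 0 true 279, .use 1 true 2343, .use 1 true 2344, .use 0 true 2345, .use 1 true 2346, .use 0 true 81, .use 1 true 2347, .use 1 true 2348, .use 0 true 2349, .use 1 true 2350, .use 0 true 2351, .use 1 true 2352, .use 0 true 2353, .use 1 true 2354, .use 0 true 5, .use 1 true 1, .use 1 true 2, .tee 2 false 3, .mul 2280]⟩,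
  ⟨1, 3, 1, 1, 2368, 5, 2, [.mul 4, .mul 2273, .use 8 true 2355, .use 8 true 2356, .use 8 true 2357, .use 5 true 2358, .use 8 true 2359, .use 5 true 2360, .use 8 true 2361, .use 8 true 2362, .tee 12 false 343, .mul 2272, .mul 2279, .use 8 true 2363, .use 11 true 2364, .use 8 true 2365, .use 8 true 2366, .use 8 true 2367, .tee 12 false 344, .mul 2280]⟩,
  ⟨1, 2369, 1, 2, 4, 1, 0, []⟩,
  ⟨2, 4, 0, 2, 2388, 3, 0, [.tee 14 true 3, .use 8 false 2370, .use 8 false 2371, .use 5 false 2372, .use 8 false 2373, .use 8 false 2374, .use 8 false 2375, .use 11 false 2376, .use 5 false 2377, .use 8 false 2378, .use 5 true 2378, .use 11 true 2379, .use 8 true 2380, .use 5 true 2381, .use 8 true 2382, .use 8 true 2383, .use 8 true 2384, .use 5 true 2385, .use 8 true 2386, .use 8 true 2387, .tee 14 false 345]⟩,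
  ⟨2, 2389, 0, 2, 4, 2, 0, [.use 15 false 2389]⟩,
  ⟨1, 2369, 1, 2, 2399, 5, 2, [.mul 4, .mul 2273, .tee 13 false 3, .mul 2272, .mul 2279, .use 8 true 2390, .use 5 true 2391, .use 11 true 2392, .use 8 true 2393, .use 8 true 2394, .use 8 true 2395, .use 5 true 2396, .use 8 true 2397, .use 8 true 2398, .tee 14 false 346, .mul 2280]⟩,
  ⟨2, 2399, 0, 2, 4, 3, 0, [.tee 17 true 3, .tee 14 false 3]⟩,
  ⟨2, 2399, 0, 2, 4, 2, 0, [.use 18 false 4]⟩,
  ⟨2, 2288, 1, 2, 2404, 5, 2, [.mul 4, .mul 2273, .tee 14 true 1, .mul 2272, .mul 2279, .use 8 true 2400, .use 11 true 2401, .use 5 true 2402, .use 8 true 2403, .tee 14 false 347, .mul 2280]⟩,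
  ⟨1, 2, 1, 3, 4, 1, 0, []⟩,
  ⟨3, 4, 0, 3, 2425, 3, 0, [.tee 21 true 3, .use 11 false 2405, .use 5 false 2406, .use 8 false 2407, .use 5 false 2408, .use 8 false 2409, .use 11 false 2410, .use 8 false 2411, .use 5 false 2412, .use 8 false 2413, .use 11 false 2414, .use 5 true 2414, .use 8 true 2415, .use 8 true 2416, .use 5 true 2417, .use 11 true 2418, .use 8 true 2419, .use 5 true 2420, .use 8 true 2421, .use 5 true 2422, .use 8 true 2423, .use 11 true 2424, .tee 21 false 348]⟩,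
  ⟨3, 2426, 0, 3, 4, 2, 0, [.use 22 false 2426]⟩,
  ⟨1, 2, 1, 3, 2446, 5, 14, [.mul 4, .mul 2306, .use 8 true 2315, .use 8 true 2279, .use 5 true 2427, .use 8 true 2428, .use 5 true 2429, .use 8 true 2430, .use 5 true 2431, .use 8 true 2432, .tee 12 false 349, .mul 2307, .mul 2304, .use 11 true 2433, .use 8 true 2434, .use 8 true 2435, .use 5 true 2436, .use 8 true 2437, .use 5 true 2438, .use 8 true 2439, .use 5 true 2440, .use 8 true 2441, .use 5 true 2442, .use 8 true 2443, .use 8 true 2444, .use 5 true 2445, .tee 21 false 350, .mul 2305]⟩,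
  ⟨3, 2446, 0, 3, 4, 3, 0, [.tee 24 true 3, .tee 21 false 3]⟩,
  ⟨3, 2446, 0, 3, 4, 2, 0, [.use 25 false 4]⟩,
  ⟨2, 2272, 1, 3, 2460, 5, 2, [.mul 4, .mul 2273, .tee 14 true 3, .mul 2272, .mul 2279, .use 8 true 2447, .use 8 true 2448, .use 5 true 2449, .use 11 true 2450, .use 8 true 2451, .use 5 true 2452, .use 8 true 2453, .use 5 true 2454, .use 8 true 2455, .use 5 true 2456, .use 8 true 2457, .use 8 true 2458, .use 5 true 2459, .tee 21 false 351, .mul 2280]⟩,
  ⟨3, 2461, 1, 2, 2462, 4, 0, [.tee 27 true 352]⟩,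
  ⟨3, 3, 1, 3, 2471, 5, 11, [.mul 4, .mul 2304, .use 26 true 2463, .tee 21 true 353, .mul 2305, .mul 2306, .use 5 true 2464, .use 8 true 2465, .use 11 true 2466, .use 8 true 2467, .use 8 true 2468, .use 8 true 2469, .use 5 true 2470, .tee 21 false 354, .mul 2307]⟩,
  ⟨3, 3, 1, 3, 2479, 5, 14, [.mul 4, .mul 2306, .tee 28 false 3, .mul 2307, .mul 2304, .use 16 true 2472, .use 19 true 2473, .use 19 true 2474, .use 16 true 2475, .use 16 true 2476, .use 19 true 2477, .use 16 true 2478, .tee 27 false 355, .mul 2305]⟩,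
  ⟨3, 2479, 0, 3, 2471, 3, 0, [.tee 30 true 3, .tee 29 false 3]⟩,
  ⟨3, 2481, 0, 3, 4, 2, 0, [.use 31 false 2480]⟩,
  ⟨3, 4, 0, 3, 2500, 3, 0, [.tee 21 true 3, .use 8 false 2482, .use 8 false 2483, .use 5 false 2484, .use 11 false 2485, .use 8 false 2486, .use 5 false 2487, .use 8 false 2488, .use 8 false 2489, .use 5 false 2490, .use 8 true 2490, .use 11 true 2491, .use 5 true 2492, .use 11 true 2493, .use 8 true 2494, .use 5 true 2495, .use 8 true 2496, .use 5 true 2497, .use 8 true 2498, .use 5 true 2499, .tee 21 false 356]⟩,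
  ⟨3, 2501, 0, 3, 4, 2, 0, [.use 33 false 2501]⟩,
  ⟨2, 2512, 1, 1, 2513, 5, 0, [.mul 4, .mul 2272, .use 19 true 2502, .use 19 true 2503, .use 19 true 2504, .use 16 true 2505, .use 19 true 2506, .use 16 true 2507, .use 16 true 2508, .use 19 true 2509, .use 19 true 2510, .tee 27 false 357, .mul 2273, .mul 2274, .use 26 true 2511, .tee 21 true 358, .mul 2274]⟩,
  ⟨3, 2460, 0, 3, 2525, 3, 0, [.tee 27 true 3, .use 19 false 2514, .use 16 false 2515, .use 16 false 2516, .use 16 false 2517, .use 19 false 2518, .use 19 false 2519, .use 16 true 2519, .use 16 true 2520, .use 19 true 2521, .use 19 true 2522, .use 16 true 2523, .use 19 true 2524, .tee 27 false 359]⟩,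
  ⟨3, 2527, 0, 3, 4, 2, 0, [.use 36 false 2526]⟩,
  ⟨2, 2538, 1, 3, 2539, 5, 2, [.mul 4, .mul 2273, .tee 35 false 1, .mul 2272, .mul 2279, .use 8 true 2528, .use 8 true 2529, .use 8 true 2530, .use 5 true 2531, .use 8 true 2532, .use 5 true 2533, .use 11 true 2534, .use 8 true 2535, .use 11 true 2536, .use 5 true 2537, .tee 21 false 360, .mul 2280]⟩,
  ⟨2, 2538, 1, 3, 2552, 5, 5, [.mul 4, .mul 2288, .use 19 true 2540, .use 19 true 2541, .tee 35 false 361, .mul 2289, .mul 2290, .use 8 true 2542, .use 11 true 2543, .use 8 true 2544, .use 8 true 2545, .use 5 true 2546, .use 8 true 2547, .use 5 true 2548, .use 8 true 2549, .use 11 true 2550, .use 5 true 2551, .tee 21 false 362, .mul 2290]⟩]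

/-- Part of `facts`. -/
def facts1 : List DFact := [
  ⟨3, 2552, 0, 3, 2539, 3, 0, [.tee 39 true 3, .tee 38 false 3]⟩,
  ⟨3, 2554, 0, 3, 4, 2, 0, [.use 40 false 2553]⟩,
  ⟨3, 9, 1, 3, 2571, 5, 18, [.mul 4, .mul 2315, .use 32 true 2555, .use 41 true 2556, .tee 21 true 363, .mul 2316, .mul 2317, .use 11 true 2557, .use 8 true 2558, .use 8 true 2559, .use 8 true 2560, .use 5 true 2561, .use 11 true 2562, .use 8 true 2563, .use 8 true 2564, .use 5 true 2565, .use 8 true 2566, .use 5 true 2567, .use 8 true 2568, .use 8 true 2569, .use 5 true 2570, .tee 21 false 364, .mul 2318]⟩,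
  ⟨2, 2462, 0, 2, 2572, 3, 0, [.tee 28 true 3, .use 41 true 2461, .tee 28 false 365]⟩,
  ⟨2, 2574, 0, 2, 4, 2, 0, [.use 43 false 2573]⟩,
  ⟨2, 2582, 1, 2, 2583, 4, 0, [.use 16 false 2575, .use 19 false 2576, .use 44 false 2577, .use 16 false 2578, .use 16 false 2579, .use 44 false 2580, .use 19 false 2581, .tee 20 false 366]⟩,
  ⟨3, 2512, 1, 3, 2588, 5, 0, [.mul 4, .mul 2272, .use 41 true 2502, .use 26 true 2584, .tee 42 false 367, .mul 2273, .mul 2274, .use 37 true 2585, .use 32 true 2586, .use 41 true 2587, .tee 42 false 368, .mul 2274]⟩,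
  ⟨1, 2589, 1, 4, 4, 1, 0, []⟩,
  ⟨2, 2, 1, 5, 4, 1, 0, []⟩,
  ⟨3, 6, 1, 6, 4, 1, 0, []⟩,
  ⟨2, 1, 1, 7, 4, 1, 0, []⟩,
  ⟨7, 4, 0, 7, 2606, 3, 0, [.tee 50 true 3, .use 19 false 2590, .use 44 false 2591, .use 19 false 2592, .use 16 false 2593, .use 19 false 2594, .use 19 false 2595, .use 44 false 2596, .use 44 false 2597, .use 19 true 2597, .use 44 true 2598, .use 16 true 2599, .use 16 true 2600, .use 16 true 2601, .use 44 true 2602, .use 19 true 2603, .use 44 true 2604, .use 16 true 2605, .tee 50 false 369]⟩,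
  ⟨7, 2607, 0, 7, 4, 2, 0, [.use 51 false 2607]⟩,
  ⟨2, 1, 1, 7, 2618, 5, 17, [.mul 4, .mul 669, .use 44 true 2608, .use 19 true 2609, .use 44 true 2610, .use 44 true 2611, .tee 45 false 370, .mul 2314, .mul 2312, .use 44 true 2612, .use 19 true 2613, .use 44 true 2614, .use 16 true 2615, .use 16 true 2616, .use 44 true 2617, .tee 50 false 371, .mul 2313]⟩,
  ⟨7, 2618, 0, 7, 4, 3, 0, [.tee 53 true 3, .tee 50 false 3]⟩,
  ⟨7, 2618, 0, 7, 4, 2, 0, [.use 54 false 4]⟩,
  ⟨2, 1, 1, 7, 2628, 5, 18, [.mul 4, .mul 2315, .use 44 true 2306, .use 44 true 2619, .use 19 true 2620, .use 16 true 2621, .tee 45 false 372, .mul 2316, .mul 2317, .use 44 true 2622, .use 19 true 2623, .use 16 true 2624, .use 16 true 2625, .use 44 true 2626, .use 44 true 2627, .tee 50 false 373, .mul 2318]⟩,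
  ⟨7, 2628, 0, 7, 4, 3, 0, [.tee 56 true 3, .tee 50 false 3]⟩,
  ⟨7, 2628, 0, 7, 4, 2, 0, [.use 57 false 4]⟩,
  ⟨3, 2636, 1, 7, 2637, 5, 18, [.mul 4, .mul 2315, .tee 28 false 3, .mul 2316, .mul 2317, .use 19 true 2629, .use 44 true 2630, .use 19 true 2631, .use 16 true 2632, .use 19 true 2633, .use 19 true 2634, .use 19 true 2635, .tee 50 false 374, .mul 2318]⟩,
  ⟨7, 2641, 1, 3, 2642, 4, 0, [.use 58 false 2638, .use 58 false 2639, .use 55 false 2640, .tee 59 true 375]⟩,
  ⟨3, 9, 1, 3, 2648, 5, 16, [.mul 4, .mul 2312, .use 34 true 2643, .use 32 true 2644, .use 23 true 2645, .tee 59 false 376, .mul 2313, .mul 669, .use 58 true 2646, .use 52 true 2647, .tee 60 false 377, .mul 2314]⟩,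
  ⟨3, 2648, 0, 3, 2571, 3, 0, [.tee 61 true 3, .tee 42 false 3]⟩,
  ⟨3, 2650, 0, 3, 4, 2, 0, [.use 62 false 2649]⟩,
  ⟨7, 2637, 0, 3, 2653, 3, 0, [.tee 59 true 3, .use 23 true 2636, .use 63 true 2651, .use 32 true 2652, .tee 46 false 378]⟩,
  ⟨2, 1, 1, 3, 2655, 4, 0, [.tee 50 false 3, .use 64 false 2654]⟩,
  ⟨0, 0, 0, 0, 4, 0, 0, []⟩,
  ⟨0, 1, 0, 0, 4, 0, 0, []⟩,
  ⟨0, 0, 0, 0, 4, 0, 0, []⟩,
  ⟨1, 4, 0, 1, 0, 3, 0, [.tee 2 true 3, .use 68 true 4, .tee 2 false 0]⟩,
  ⟨1, 0, 0, 1, 4, 2, 0, [.use 69 false 0]⟩,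
  ⟨0, 2336, 0, 0, 4, 0, 0, []⟩,
  ⟨1, 4, 0, 1, 2336, 3, 0, [.tee 2 true 3, .use 71 true 4, .tee 2 false 1]⟩,
  ⟨1, 2337, 0, 1, 4, 2, 0, [.use 72 false 2337]⟩,
  ⟨0, 2338, 0, 0, 4, 0, 0, []⟩,
  ⟨1, 4, 0, 1, 2339, 3, 0, [.tee 2 true 3, .use 74 true 4, .tee 2 false 2]⟩,
  ⟨1, 2339, 0, 1, 4, 2, 0, [.use 75 false 2339]⟩,
  ⟨1, 2272, 1, 1, 2280, 5, 2, [.mul 4, .mul 2273, .tee 2 true 3, .mul 2272, .mul 2279, .use 67 true 2274, .use 66 true 627, .use 67 true 2340, .use 67 true 2341, .use 66 true 434, .use 67 true 2342, .use 67 true 2279, .use 66 true 279, .use 67 true 2343, .use 67 true 2344, .use 66 true 2345, .use 67 true 2346, .use 66 true 81, .use 67 true 2347, .use 67 true 2348, .use 66 true 2349, .use 67 true 2350, .use 66 true 2351, .use 67 true 2352, .use 66 true 2353, .use 67 true 2354, .use 66 true 5, .use 67 true 1, .use 67 true 2, .tee 2 false 3, .mul 2280]⟩,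
  ⟨1, 3, 1, 1, 2368, 5, 2, [.mul 4, .mul 2273, .use 73 true 2355, .use 73 true 2356, .use 73 true 2357, .use 70 true 2358, .use 73 true 2359, .use 70 true 2360, .use 73 true 2361, .use 73 true 2362, .tee 77 false 343, .mul 2272, .mul 2279, .use 73 true 2363, .use 76 true 2364, .use 73 true 2365, .use 73 true 2366, .use 73 true 2367, .tee 77 false 344, .mul 2280]⟩,
  ⟨1, 2369, 1, 2, 2399, 5, 2, [.mul 4, .mul 2273, .tee 78 false 3, .mul 2272, .mul 2279, .use 73 true 2390, .use 70 true 2391, .use 76 true 2392, .use 73 true 2393, .use 73 true 2394, .use 73 true 2395, .use 70 true 2396, .use 73 true 2397, .use 73 true 2398, .tee 14 false 346, .mul 2280]⟩]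

/-- Part of `facts`. -/
def facts2 : List DFact := [
  ⟨2, 2399, 0, 2, 4, 3, 0, [.tee 79 true 3, .tee 14 false 3]⟩,
  ⟨2, 2399, 0, 2, 4, 2, 0, [.use 80 false 4]⟩,
  ⟨2, 2288, 1, 2, 2404, 5, 2, [.mul 4, .mul 2273, .tee 14 true 1, .mul 2272, .mul 2279, .use 73 true 2400, .use 76 true 2401, .use 70 true 2402, .use 73 true 2403, .tee 14 false 347, .mul 2280]⟩,
  ⟨2, 2288, 1, 2, 2665, 5, 6, [.mul 4, .mul 257, .use 81 true 2656, .tee 14 true 379, .mul 2291, .mul 2292, .use 70 true 2657, .use 76 true 2658, .use 73 true 2659, .use 73 true 2660, .use 73 true 2661, .use 70 true 2662, .use 73 true 2663, .use 73 true 2664, .tee 14 false 380, .mul 2293]⟩,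
  ⟨2, 2665, 0, 2, 2404, 3, 0, [.tee 83 true 3, .tee 82 false 3]⟩,
  ⟨2, 2667, 0, 2, 4, 2, 0, [.use 84 false 2666]⟩,
  ⟨2, 4, 0, 2, 2681, 3, 0, [.tee 14 true 3, .use 73 false 2370, .use 70 false 2668, .use 73 false 2669, .use 70 false 2670, .use 73 false 2671, .use 70 false 2672, .use 73 true 2672, .use 73 true 2673, .use 76 true 2674, .use 70 true 2675, .use 76 true 2676, .use 73 true 2677, .use 70 true 2678, .use 73 true 2679, .use 73 true 2680, .tee 14 false 381]⟩,
  ⟨2, 2682, 0, 2, 4, 2, 0, [.use 86 false 2682]⟩,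
  ⟨3, 2683, 1, 2, 2684, 4, 0, [.tee 65 true 382]⟩,
  ⟨3, 4, 0, 3, 2713, 3, 0, [.tee 21 true 3, .use 73 false 2482, .use 70 false 184, .use 73 false 2685, .use 70 false 2686, .use 73 false 2687, .use 76 false 2688, .use 73 false 2689, .use 70 false 2690, .use 76 false 2691, .use 73 false 2692, .use 70 false 2693, .use 73 false 2694, .use 73 false 2695, .use 70 false 2696, .use 73 false 2697, .use 76 true 2697, .use 73 true 2698, .use 70 true 2699, .use 76 true 2700, .use 73 true 2701, .use 73 true 2702, .use 70 true 2703, .use 73 true 2704, .use 76 true 2705, .use 70 true 2706, .use 73 true 2707, .use 73 true 2708, .use 70 true 2709, .use 73 true 2710, .use 70 true 2711, .use 73 true 2712, .tee 21 false 383]⟩,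
  ⟨3, 2713, 0, 3, 4, 2, 0, [.use 89 false 2713]⟩,
  ⟨1, 2, 1, 3, 2446, 5, 14, [.mul 4, .mul 2306, .use 73 true 2315, .use 73 true 2279, .use 70 true 2427, .use 73 true 2428, .use 70 true 2429, .use 73 true 2430, .use 70 true 2431, .use 73 true 2432, .tee 77 false 349, .mul 2307, .mul 2304, .use 76 true 2433, .use 73 true 2434, .use 73 true 2435, .use 70 true 2436, .use 73 true 2437, .use 70 true 2438, .use 73 true 2439, .use 70 true 2440, .use 73 true 2441, .use 70 true 2442, .use 73 true 2443, .use 73 true 2444, .use 70 true 2445, .tee 21 false 350, .mul 2305]⟩,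
  ⟨3, 2446, 0, 3, 4, 3, 0, [.tee 91 true 3, .tee 21 false 3]⟩,
  ⟨3, 2446, 0, 3, 4, 2, 0, [.use 92 false 4]⟩,
  ⟨3, 2716, 1, 2, 2717, 4, 0, [.use 90 false 2714, .use 93 false 2715, .tee 88 false 384]⟩,
  ⟨3, 2655, 0, 3, 2732, 3, 0, [.tee 65 true 3, .use 87 false 2718, .use 81 false 2719, .use 87 false 2720, .use 87 false 2721, .use 87 false 2722, .use 81 false 2723, .use 85 true 2723, .use 81 true 2724, .use 87 true 2725, .use 85 true 2726, .use 81 true 2727, .use 87 true 2728, .use 81 true 2729, .use 81 true 2730, .use 81 true 2731, .tee 65 false 385]⟩,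
  ⟨3, 2734, 0, 3, 4, 2, 0, [.use 95 false 2733]⟩,
  ⟨3, 2655, 0, 3, 2748, 3, 0, [.tee 65 true 3, .use 81 false 2590, .use 81 false 2735, .use 87 false 2736, .use 85 false 2737, .use 81 false 2738, .use 85 false 2739, .use 87 false 2740, .use 85 true 2740, .use 87 true 2741, .use 81 true 2742, .use 85 true 2743, .use 87 true 2744, .use 81 true 2745, .use 85 true 2746, .use 81 true 2747, .tee 65 false 386]⟩,
  ⟨3, 2750, 0, 3, 4, 2, 0, [.use 97 false 2749]⟩,
  ⟨2, 1, 1, 3, 2761, 5, 18, [.mul 4, .mul 2315, .use 85 true 2306, .use 87 true 2751, .use 81 true 2752, .use 85 true 2753, .tee 82 false 387, .mul 2316, .mul 2317, .use 85 true 2754, .use 87 true 2755, .use 87 true 2756, .use 87 true 2757, .use 85 true 2758, .use 87 true 2759, .use 81 true 2760, .tee 65 false 388, .mul 2318]⟩,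
  ⟨3, 2761, 0, 3, 2655, 3, 0, [.tee 99 true 3, .tee 65 false 3]⟩,
  ⟨3, 2763, 0, 3, 4, 2, 0, [.use 100 false 2762]⟩,
  ⟨2, 2272, 1, 3, 2460, 5, 2, [.mul 4, .mul 2273, .tee 14 true 3, .mul 2272, .mul 2279, .use 73 true 2447, .use 73 true 2448, .use 70 true 2449, .use 76 true 2450, .use 73 true 2451, .use 70 true 2452, .use 73 true 2453, .use 70 true 2454, .use 73 true 2455, .use 70 true 2456, .use 73 true 2457, .use 73 true 2458, .use 70 true 2459, .tee 21 false 351, .mul 2280]⟩,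
  ⟨3, 2461, 1, 2, 2462, 4, 0, [.tee 102 true 352]⟩,
  ⟨3, 3, 1, 3, 2471, 5, 11, [.mul 4, .mul 2304, .use 93 true 2463, .tee 21 true 353, .mul 2305, .mul 2306, .use 70 true 2464, .use 73 true 2465, .use 76 true 2466, .use 73 true 2467, .use 73 true 2468, .use 73 true 2469, .use 70 true 2470, .tee 21 false 354, .mul 2307]⟩,
  ⟨3, 3, 1, 3, 2765, 5, 14, [.mul 4, .mul 2306, .tee 103 false 3, .mul 2307, .mul 2304, .use 81 true 2472, .use 85 true 2764, .tee 102 false 389, .mul 2305]⟩,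
  ⟨3, 2765, 0, 3, 2471, 3, 0, [.tee 105 true 3, .tee 104 false 3]⟩,
  ⟨3, 2766, 0, 3, 4, 2, 0, [.use 106 false 2480]⟩,
  ⟨3, 2768, 1, 2, 2769, 4, 0, [.use 107 false 2767, .tee 94 false 390]⟩,
  ⟨3, 4, 0, 3, 2794, 3, 0, [.tee 21 true 3, .use 73 false 2482, .use 73 false 2483, .use 70 false 2484, .use 73 false 2770, .use 73 false 2771, .use 76 false 2772, .use 73 false 2773, .use 70 false 2774, .use 73 false 2775, .use 70 false 2776, .use 73 false 2777, .use 73 false 2778, .use 70 false 2779, .use 73 false 2780, .use 70 true 2780, .use 76 true 2781, .use 73 true 2782, .use 76 true 2783, .use 70 true 2784, .use 73 true 2785, .use 76 true 2786, .use 73 true 2787, .use 70 true 2788, .use 73 true 2789, .use 73 true 2790, .use 73 true 2791, .use 70 true 2792, .use 76 true 2793, .tee 21 false 391]⟩,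
  ⟨3, 2795, 0, 3, 4, 2, 0, [.use 109 false 2795]⟩,
  ⟨2, 1, 1, 3, 2802, 5, 16, [.mul 4, .mul 2312, .use 87 true 2796, .use 81 true 2797, .use 87 true 2798, .use 81 true 2799, .use 87 true 2800, .use 85 true 2801, .tee 65 false 392, .mul 2313, .mul 669, .tee 104 false 393, .mul 2314]⟩,
  ⟨3, 2802, 0, 3, 2655, 3, 0, [.tee 111 true 3, .tee 65 false 3]⟩,
  ⟨3, 2803, 0, 3, 4, 2, 0, [.use 112 false 2762]⟩,
  ⟨2, 2369, 1, 2, 2811, 5, 3, [.mul 4, .mul 2281, .use 87 true 17, .use 81 true 2804, .use 87 true 2805, .use 85 true 2806, .use 85 true 2807, .use 85 true 2808, .use 85 true 2809, .tee 65 false 394, .mul 2282, .mul 2283, .use 93 true 2810, .tee 108 false 395, .mul 2284]⟩,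
  ⟨2, 2369, 1, 2, 2822, 5, 5, [.mul 4, .mul 2288, .use 81 true 2812, .use 81 true 2813, .use 81 true 2814, .use 85 true 2815, .use 81 true 2816, .tee 114 false 396, .mul 2289, .mul 2290, .use 85 true 2817, .use 81 true 2818, .use 85 true 2819, .use 85 true 2820, .use 81 true 2821, .tee 114 false 397, .mul 2290]⟩,
  ⟨2, 2822, 0, 2, 2811, 3, 0, [.tee 115 true 3, .tee 114 false 3]⟩,
  ⟨2, 2824, 0, 2, 4, 2, 0, [.use 116 false 2823]⟩,
  ⟨2, 2830, 1, 3, 2831, 4, 0, [.use 81 false 2825, .use 81 false 2826, .use 117 false 2827, .use 85 false 2828, .use 87 false 2829, .tee 102 false 398]⟩,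
  ⟨3, 3, 1, 3, 2835, 5, 14, [.mul 4, .mul 2306, .tee 103 false 3, .mul 2307, .mul 2304, .use 81 true 2472, .use 87 true 2764, .use 117 true 2832, .use 81 true 2833, .use 85 true 2834, .tee 118 false 399, .mul 2305]⟩]

/-- Part of `facts`. -/
def facts3 : List DFact := [
  ⟨3, 2835, 0, 3, 2471, 3, 0, [.tee 119 true 3, .tee 104 false 3]⟩,
  ⟨3, 2836, 0, 3, 4, 2, 0, [.use 120 false 2480]⟩,
  ⟨3, 5, 1, 3, 2849, 5, 16, [.mul 4, .mul 2312, .use 96 true 2837, .use 121 true 2838, .use 113 true 2839, .tee 21 true 400, .mul 2313, .mul 669, .use 73 true 2840, .use 73 true 2841, .use 70 true 2842, .use 73 true 2843, .use 70 true 2844, .use 76 true 2845, .use 73 true 2846, .use 70 true 2847, .use 73 true 2848, .tee 21 false 401, .mul 2314]⟩,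
  ⟨3, 2861, 1, 3, 2862, 5, 5, [.mul 4, .mul 2288, .use 96 true 2850, .use 113 true 2851, .use 121 true 2852, .tee 21 true 402, .mul 2289, .mul 2290, .use 73 true 2853, .use 73 true 2854, .use 70 true 2855, .use 73 true 2856, .use 73 true 2857, .use 70 true 2858, .use 73 true 2859, .use 73 true 2860, .tee 21 false 403, .mul 2290]⟩,
  ⟨4, 4, 0, 4, 2890, 3, 0, [.tee 47 true 3, .use 73 false 2863, .use 73 false 2864, .use 73 false 2865, .use 70 false 2866, .use 73 false 2867, .use 73 false 2868, .use 70 false 2869, .use 73 false 2870, .use 70 false 2871, .use 76 false 2872, .use 70 false 2873, .use 73 false 2874, .use 70 false 2875, .use 73 true 2875, .use 76 true 2876, .use 73 true 2877, .use 70 true 2878, .use 73 true 2879, .use 76 true 2880, .use 70 true 2881, .use 76 true 2882, .use 73 true 2883, .use 76 true 2884, .use 73 true 2885, .use 70 true 2886, .use 73 true 2887, .use 73 true 2888, .use 70 true 2889, .tee 47 false 404]⟩,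
  ⟨4, 2891, 0, 4, 4, 2, 0, [.use 124 false 2891]⟩,
  ⟨3, 2906, 1, 4, 2907, 5, 10, [.mul 4, .mul 2301, .use 96 true 2892, .use 121 true 2893, .tee 21 true 405, .mul 2302, .mul 403, .use 70 true 2894, .use 76 true 2895, .use 73 true 2896, .use 76 true 2897, .use 70 true 2898, .use 73 true 2899, .use 76 true 2900, .use 70 true 2901, .use 73 true 2902, .use 70 true 2903, .use 76 true 2904, .use 73 true 2905, .tee 47 false 406, .mul 2303]⟩,
  ⟨4, 2909, 1, 3, 2910, 4, 0, [.use 125 false 2908, .tee 126 true 407]⟩,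
  ⟨3, 2352, 1, 4, 2926, 5, 0, [.mul 4, .mul 2272, .use 96 true 1, .use 113 true 2911, .use 121 true 2912, .tee 21 true 408, .mul 2273, .mul 2274, .use 76 true 2913, .use 70 true 2914, .use 73 true 2915, .use 76 true 2916, .use 73 true 2917, .use 70 true 2918, .use 73 true 2919, .use 70 true 2920, .use 73 true 2921, .use 70 true 2922, .use 76 true 2923, .use 73 true 2924, .use 70 true 2925, .tee 47 false 409, .mul 2274]⟩,
  ⟨4, 2927, 1, 3, 2928, 4, 0, [.tee 128 true 410]⟩,
  ⟨3, 2352, 1, 4, 2935, 5, 4, [.mul 4, .mul 73, .use 121 true 2929, .use 93 true 2930, .tee 122 false 411, .mul 2285, .mul 2286, .use 121 true 2931, .use 96 true 2932, .use 121 true 2933, .use 90 true 2934, .tee 126 false 412, .mul 2287]⟩,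
  ⟨4, 2935, 0, 4, 2926, 3, 0, [.tee 130 true 3, .tee 128 false 3]⟩,
  ⟨4, 2937, 0, 4, 4, 2, 0, [.use 131 false 2936]⟩,
  ⟨4, 2288, 1, 3, 2939, 4, 0, [.use 132 false 2938, .tee 127 false 413]⟩,
  ⟨3, 2352, 1, 4, 2945, 5, 22, [.mul 4, .mul 2310, .use 121 true 2940, .tee 122 false 414, .mul 2311, .mul 2308, .use 121 true 2941, .use 96 true 2942, .use 113 true 2943, .use 90 true 2944, .tee 128 false 415, .mul 2309]⟩,
  ⟨4, 2945, 0, 4, 2926, 3, 0, [.tee 134 true 3, .tee 128 false 3]⟩,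
  ⟨4, 2946, 0, 4, 4, 2, 0, [.use 135 false 2936]⟩,
  ⟨4, 3, 1, 4, 2949, 5, 5, [.mul 4, .mul 2288, .tee 133 false 416, .mul 2289, .mul 2290, .use 121 true 2947, .use 121 true 2948, .tee 126 false 417, .mul 2290]⟩,
  ⟨4, 3, 1, 4, 2954, 5, 19, [.mul 4, .mul 2319, .use 136 true 2950, .use 132 true 2951, .tee 129 false 418, .mul 2320, .mul 2321, .use 107 true 2952, .use 107 true 2953, .tee 128 false 419, .mul 2322]⟩,
  ⟨4, 2954, 0, 4, 2949, 3, 0, [.tee 138 true 3, .tee 137 false 3]⟩,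
  ⟨4, 2956, 0, 4, 4, 2, 0, [.use 139 false 2955]⟩,
  ⟨1, 2589, 1, 4, 2974, 5, 3, [.mul 4, .mul 2281, .use 70 true 2957, .use 73 true 33, .use 73 true 2958, .use 70 true 2959, .use 73 true 2960, .use 73 true 2961, .use 73 true 2962, .use 70 true 2963, .use 73 true 2964, .use 70 true 2965, .use 73 true 2966, .use 73 true 2967, .use 73 true 2968, .use 70 true 2969, .tee 21 false 420, .mul 2282, .mul 2283, .use 121 true 2970, .use 96 true 2971, .use 113 true 2972, .use 98 true 2973, .tee 128 false 421, .mul 2284]⟩,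
  ⟨4, 2974, 0, 4, 4, 3, 0, [.tee 141 true 3, .tee 47 false 3]⟩,
  ⟨4, 2974, 0, 4, 4, 2, 0, [.use 142 false 4]⟩,
  ⟨6, 4, 0, 6, 2985, 3, 0, [.tee 49 true 3, .use 90 false 2975, .use 93 false 2976, .use 113 false 2977, .use 107 false 2978, .use 101 false 2979, .use 90 true 2979, .use 121 true 2980, .use 113 true 2981, .use 113 true 2982, .use 96 true 2983, .use 96 true 2984, .tee 49 false 422]⟩,
  ⟨6, 2986, 0, 6, 4, 2, 0, [.use 144 false 2986]⟩,
  ⟨6, 2297, 1, 4, 2990, 5, 8, [.mul 4, .mul 2294, .tee 49 true 0, .mul 2294, .mul 2295, .use 96 true 2987, .use 121 true 2988, .use 93 true 2989, .tee 128 false 423, .mul 2296]⟩,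
  ⟨3, 2, 1, 8, 4, 1, 0, []⟩,
  ⟨3, 2589, 1, 9, 4, 1, 0, []⟩,
  ⟨9, 4, 0, 9, 3000, 3, 0, [.tee 148 true 3, .use 90 false 2991, .use 96 false 2992, .use 101 false 2993, .use 113 false 2994, .use 98 false 2995, .use 121 true 2995, .use 121 true 2996, .use 93 true 2997, .use 96 true 2998, .use 113 true 2999, .tee 148 false 424]⟩,
  ⟨9, 3000, 0, 9, 4, 2, 0, [.use 149 false 3000]⟩,
  ⟨9, 4, 0, 9, 3010, 3, 0, [.tee 148 true 3, .use 90 false 2991, .use 121 false 3001, .use 110 false 3002, .use 96 false 3003, .use 121 false 3004, .use 107 true 3004, .use 110 true 3005, .use 121 true 3006, .use 96 true 3007, .use 90 true 3008, .use 93 true 3009, .tee 148 false 425]⟩,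
  ⟨9, 3011, 0, 9, 4, 2, 0, [.use 151 false 3011]⟩,
  ⟨3, 2589, 1, 9, 3020, 5, 13, [.mul 4, .mul 2308, .use 93 true 3012, .use 98 true 3013, .use 90 true 3014, .tee 123 false 426, .mul 2309, .mul 2310, .use 101 true 3015, .use 121 true 3016, .use 113 true 3017, .use 98 true 3018, .use 96 true 3019, .tee 148 false 427, .mul 2311]⟩,
  ⟨9, 3020, 0, 9, 4, 3, 0, [.tee 153 true 3, .tee 148 false 3]⟩,
  ⟨9, 3020, 0, 9, 4, 2, 0, [.use 154 false 4]⟩,
  ⟨6, 3025, 1, 9, 3026, 5, 5, [.mul 4, .mul 2288, .tee 49 true 428, .mul 2289, .mul 2290, .use 121 true 3021, .use 121 true 3022, .use 96 true 3023, .use 90 true 3024, .tee 148 false 429, .mul 2290]⟩,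
  ⟨9, 2273, 1, 6, 3030, 4, 0, [.use 150 false 3027, .use 155 false 3028, .use 155 false 3029, .tee 156 true 430]⟩,
  ⟨9, 3, 1, 9, 3033, 5, 2, [.mul 4, .mul 2273, .tee 157 false 431, .mul 2272, .mul 2279, .use 145 true 3031, .use 145 true 3032, .tee 156 false 432, .mul 2280]⟩,
  ⟨9, 3036, 1, 4, 3037, 5, 2, [.mul 4, .mul 2273, .use 152 true 3034, .use 155 true 3035, .tee 157 false 433, .mul 2272, .mul 2279, .tee 146 false 434, .mul 2280]⟩]

/-- Part of `facts`. -/
def facts4 : List DFact := [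
  ⟨4, 3042, 1, 9, 3043, 4, 0, [.use 125 false 3038, .use 140 false 3039, .use 143 false 3040, .use 125 false 3041, .tee 159 true 435]⟩,
  ⟨9, 3047, 1, 9, 3048, 5, 23, [.mul 4, .mul 2327, .use 155 true 3044, .tee 158 false 436, .mul 2328, .mul 2329, .use 155 true 3045, .use 152 true 3046, .tee 158 false 437, .mul 2330]⟩,
  ⟨9, 3042, 1, 4, 3049, 5, 15, [.mul 4, .mul 403, .tee 161 false 438, .mul 2303, .mul 2301, .tee 159 false 439, .mul 2302]⟩,
  ⟨9, 3042, 1, 9, 3054, 5, 21, [.mul 4, .mul 2277, .use 152 true 3050, .tee 159 false 440, .mul 2278, .mul 2275, .use 125 true 3051, .use 143 true 3052, .use 140 true 3053, .tee 160 false 441, .mul 2276]⟩,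
  ⟨9, 3054, 0, 4, 3049, 3, 0, [.tee 163 true 3, .tee 162 false 3]⟩,
  ⟨3, 2589, 1, 4, 3056, 4, 0, [.tee 148 false 3, .use 164 false 3055]⟩,
  ⟨0, 0, 0, 0, 4, 0, 0, []⟩,
  ⟨0, 1, 0, 0, 4, 0, 0, []⟩,
  ⟨0, 3, 0, 0, 4, 0, 0, []⟩,
  ⟨0, 0, 0, 0, 4, 0, 0, []⟩,
  ⟨1, 4, 0, 1, 0, 3, 0, [.tee 2 true 3, .use 169 true 4, .tee 2 false 0]⟩,
  ⟨1, 0, 0, 1, 4, 2, 0, [.use 170 false 0]⟩,
  ⟨0, 2336, 0, 0, 4, 0, 0, []⟩,
  ⟨1, 4, 0, 1, 2336, 3, 0, [.tee 2 true 3, .use 172 true 4, .tee 2 false 1]⟩,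
  ⟨1, 2337, 0, 1, 4, 2, 0, [.use 173 false 2337]⟩,
  ⟨0, 2338, 0, 0, 4, 0, 0, []⟩,
  ⟨1, 4, 0, 1, 2339, 3, 0, [.tee 2 true 3, .use 175 true 4, .tee 2 false 2]⟩,
  ⟨1, 2339, 0, 1, 4, 2, 0, [.use 176 false 2339]⟩,
  ⟨1, 2272, 1, 1, 2280, 5, 2, [.mul 4, .mul 2273, .tee 2 true 3, .mul 2272, .mul 2279, .use 167 true 2274, .use 166 true 627, .use 167 true 2340, .use 167 true 2341, .use 166 true 434, .use 167 true 2342, .use 167 true 2279, .use 166 true 279, .use 167 true 2343, .use 167 true 2344, .use 166 true 2345, .use 167 true 2346, .use 166 true 81, .use 167 true 2347, .use 167 true 2348, .use 166 true 2349, .use 167 true 2350, .use 166 true 2351, .use 167 true 2352, .use 166 true 2353, .use 167 true 2354, .use 166 true 5, .use 167 true 1, .use 167 true 2, .tee 2 false 3, .mul 2280]⟩,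
  ⟨1, 3, 1, 1, 2368, 5, 2, [.mul 4, .mul 2273, .use 174 true 2355, .use 174 true 2356, .use 174 true 2357, .use 171 true 2358, .use 174 true 2359, .use 171 true 2360, .use 174 true 2361, .use 174 true 2362, .tee 178 false 343, .mul 2272, .mul 2279, .use 174 true 2363, .use 177 true 2364, .use 174 true 2365, .use 174 true 2366, .use 174 true 2367, .tee 178 false 344, .mul 2280]⟩,
  ⟨2, 4, 0, 2, 3063, 3, 0, [.tee 14 true 3, .use 174 false 2370, .use 171 false 2668, .use 174 false 2669, .use 171 false 2670, .use 174 false 2671, .use 177 false 3057, .use 174 true 3057, .use 171 true 3058, .use 174 true 3059, .use 177 true 3060, .use 171 true 3061, .use 174 true 3062, .tee 14 false 442]⟩,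
  ⟨2, 3063, 0, 2, 4, 2, 0, [.use 180 false 3063]⟩,
  ⟨2, 4, 0, 2, 3074, 3, 0, [.tee 14 true 3, .use 174 false 2370, .use 174 false 2371, .use 171 false 2372, .use 174 false 2373, .use 177 false 3064, .use 171 false 3065, .use 174 true 3065, .use 171 true 3066, .use 174 true 3067, .use 171 true 3068, .use 174 true 3069, .use 171 true 3070, .use 174 true 3071, .use 171 true 3072, .use 174 true 3073, .tee 14 false 443]⟩,
  ⟨2, 3075, 0, 2, 4, 2, 0, [.use 182 false 3075]⟩,
  ⟨2, 4, 0, 2, 3076, 3, 0, [.tee 14 true 3, .use 177 true 2369, .tee 14 false 444]⟩,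
  ⟨2, 3076, 0, 2, 4, 2, 0, [.use 184 false 3076]⟩,
  ⟨1, 2369, 1, 2, 2399, 5, 2, [.mul 4, .mul 2273, .tee 179 false 3, .mul 2272, .mul 2279, .use 174 true 2390, .use 171 true 2391, .use 177 true 2392, .use 174 true 2393, .use 174 true 2394, .use 174 true 2395, .use 171 true 2396, .use 174 true 2397, .use 174 true 2398, .tee 14 false 346, .mul 2280]⟩,
  ⟨2, 2399, 0, 2, 4, 3, 0, [.tee 186 true 3, .tee 14 false 3]⟩,
  ⟨2, 2399, 0, 2, 4, 2, 0, [.use 187 false 4]⟩,
  ⟨2, 2288, 1, 2, 2404, 5, 2, [.mul 4, .mul 2273, .tee 14 true 1, .mul 2272, .mul 2279, .use 174 true 2400, .use 177 true 2401, .use 171 true 2402, .use 174 true 2403, .tee 14 false 347, .mul 2280]⟩,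
  ⟨2, 2288, 1, 2, 3083, 5, 7, [.mul 4, .mul 2279, .use 188 true 3077, .use 188 true 3078, .tee 189 false 445, .mul 2280, .mul 2273, .use 183 true 3079, .use 185 true 3080, .use 188 true 3081, .use 183 true 3082, .tee 189 false 446, .mul 2272]⟩,
  ⟨2, 3083, 0, 2, 2404, 3, 0, [.tee 190 true 3, .tee 189 false 3]⟩,
  ⟨2, 3084, 0, 2, 4, 2, 0, [.use 191 false 2666]⟩,
  ⟨2, 3, 1, 2, 3088, 5, 5, [.mul 4, .mul 2288, .tee 189 false 416, .mul 2289, .mul 2290, .use 183 true 3085, .use 188 true 3086, .use 185 true 3087, .tee 189 false 447, .mul 2290]⟩,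
  ⟨3, 2683, 1, 2, 2684, 4, 0, [.tee 65 true 382]⟩,
  ⟨3, 4, 0, 3, 3108, 3, 0, [.tee 21 true 3, .use 174 false 2482, .use 174 false 2483, .use 171 false 2484, .use 174 false 2770, .use 174 false 2771, .use 171 false 3089, .use 174 false 3090, .use 171 false 3091, .use 174 false 3092, .use 171 false 3093, .use 174 false 3094, .use 174 false 3095, .use 177 true 3095, .use 171 true 3096, .use 174 true 3097, .use 171 true 3098, .use 174 true 3099, .use 174 true 3100, .use 171 true 3101, .use 174 true 3102, .use 171 true 3103, .use 177 true 3104, .use 174 true 3105, .use 174 true 3106, .use 171 true 3107, .tee 21 false 448]⟩,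
  ⟨3, 3109, 0, 3, 4, 2, 0, [.use 195 false 3109]⟩,
  ⟨3, 2768, 1, 2, 3111, 4, 0, [.use 196 false 3110, .tee 194 false 449]⟩,
  ⟨1, 2, 1, 3, 2446, 5, 14, [.mul 4, .mul 2306, .use 174 true 2315, .use 174 true 2279, .use 171 true 2427, .use 174 true 2428, .use 171 true 2429, .use 174 true 2430, .use 171 true 2431, .use 174 true 2432, .tee 178 false 349, .mul 2307, .mul 2304, .use 177 true 2433, .use 174 true 2434, .use 174 true 2435, .use 171 true 2436, .use 174 true 2437, .use 171 true 2438, .use 174 true 2439, .use 171 true 2440, .use 174 true 2441, .use 171 true 2442, .use 174 true 2443, .use 174 true 2444, .use 171 true 2445, .tee 21 false 350, .mul 2305]⟩,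
  ⟨3, 2446, 0, 3, 4, 3, 0, [.tee 198 true 3, .tee 21 false 3]⟩]

/-- Part of `facts`. -/
def facts5 : List DFact := [
  ⟨3, 2446, 0, 3, 4, 2, 0, [.use 199 false 4]⟩,
  ⟨3, 2655, 0, 3, 3121, 3, 0, [.tee 65 true 3, .use 183 false 3112, .use 188 false 3113, .use 188 false 3114, .use 181 false 3115, .use 188 true 3115, .use 181 true 3116, .use 188 true 3117, .use 185 true 3118, .use 183 true 3119, .use 181 true 3120, .tee 65 false 450]⟩,
  ⟨3, 3123, 0, 3, 4, 2, 0, [.use 201 false 3122]⟩,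
  ⟨2, 1, 1, 3, 3127, 5, 18, [.mul 4, .mul 2315, .use 181 true 2306, .use 192 true 3124, .tee 189 false 451, .mul 2316, .mul 2317, .use 188 true 3125, .use 183 true 3126, .tee 65 false 452, .mul 2318]⟩,
  ⟨3, 3127, 0, 3, 2655, 3, 0, [.tee 203 true 3, .tee 65 false 3]⟩,
  ⟨3, 3128, 0, 3, 4, 2, 0, [.use 204 false 2762]⟩,
  ⟨2, 2272, 1, 3, 2460, 5, 2, [.mul 4, .mul 2273, .tee 14 true 3, .mul 2272, .mul 2279, .use 174 true 2447, .use 174 true 2448, .use 171 true 2449, .use 177 true 2450, .use 174 true 2451, .use 171 true 2452, .use 174 true 2453, .use 171 true 2454, .use 174 true 2455, .use 171 true 2456, .use 174 true 2457, .use 174 true 2458, .use 171 true 2459, .tee 21 false 351, .mul 2280]⟩,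
  ⟨3, 2461, 1, 2, 2462, 4, 0, [.tee 206 true 352]⟩,
  ⟨2, 2369, 1, 2, 3134, 5, 3, [.mul 4, .mul 2281, .use 188 true 17, .use 188 true 3129, .use 188 true 3130, .use 185 true 3131, .use 192 true 3132, .tee 65 false 453, .mul 2282, .mul 2283, .use 200 true 3133, .tee 197 false 454, .mul 2284]⟩,
  ⟨2, 2369, 1, 2, 3139, 5, 7, [.mul 4, .mul 2279, .use 183 true 3135, .use 183 true 3136, .use 181 true 3137, .tee 208 false 455, .mul 2280, .mul 2273, .use 192 true 3138, .tee 193 false 456, .mul 2272]⟩,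
  ⟨2, 3139, 0, 2, 3134, 3, 0, [.tee 209 true 3, .tee 208 false 3]⟩,
  ⟨2, 3141, 0, 2, 4, 2, 0, [.use 210 false 3140]⟩,
  ⟨3, 3, 1, 3, 2471, 5, 11, [.mul 4, .mul 2304, .use 200 true 2463, .tee 21 true 353, .mul 2305, .mul 2306, .use 171 true 2464, .use 174 true 2465, .use 177 true 2466, .use 174 true 2467, .use 174 true 2468, .use 174 true 2469, .use 171 true 2470, .tee 21 false 354, .mul 2307]⟩,
  ⟨2, 2582, 1, 2, 3146, 4, 0, [.use 185 false 3142, .use 188 false 3143, .use 211 false 3144, .use 211 false 3145, .tee 189 false 457]⟩,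
  ⟨2, 2830, 1, 3, 3151, 4, 0, [.use 192 false 3147, .use 181 false 3148, .use 183 false 3149, .use 211 false 3150, .tee 206 false 458]⟩,
  ⟨3, 3, 1, 3, 3155, 5, 14, [.mul 4, .mul 2306, .tee 207 false 3, .mul 2307, .mul 2304, .use 211 true 2472, .use 211 true 3152, .use 183 true 3153, .use 188 true 3154, .tee 214 false 459, .mul 2305]⟩,
  ⟨3, 3155, 0, 3, 2471, 3, 0, [.tee 215 true 3, .tee 212 false 3]⟩,
  ⟨3, 3156, 0, 3, 4, 2, 0, [.use 216 false 2480]⟩,
  ⟨2, 2830, 1, 3, 3169, 5, 0, [.mul 4, .mul 2272, .use 188 true 3157, .use 211 true 3158, .tee 14 true 460, .mul 2273, .mul 2274, .use 177 true 3159, .use 174 true 3160, .use 171 true 3161, .use 177 true 3162, .use 174 true 3163, .use 171 true 3164, .use 174 true 3165, .use 174 true 3166, .use 174 true 3167, .use 171 true 3168, .tee 21 false 461, .mul 2274]⟩,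
  ⟨3, 3169, 0, 3, 3151, 3, 0, [.tee 218 true 3, .tee 214 false 3]⟩,
  ⟨3, 3171, 0, 3, 4, 2, 0, [.use 219 false 3170]⟩,
  ⟨3, 3175, 1, 2, 3176, 4, 0, [.use 196 false 3172, .use 200 false 3173, .use 220 false 3174, .tee 197 false 462]⟩,
  ⟨3, 2512, 1, 3, 3184, 5, 14, [.mul 4, .mul 2306, .use 217 true 3177, .use 205 true 3178, .tee 207 false 463, .mul 2307, .mul 2304, .use 183 true 3179, .use 192 true 3180, .use 181 true 3181, .use 183 true 3182, .use 185 true 3183, .tee 65 false 464, .mul 2305]⟩,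
  ⟨3, 5, 1, 3, 3200, 5, 16, [.mul 4, .mul 2312, .use 205 true 2837, .use 220 true 3185, .tee 21 true 465, .mul 2313, .mul 669, .use 177 true 3186, .use 174 true 3187, .use 174 true 3188, .use 174 true 3189, .use 171 true 3190, .use 177 true 3191, .use 174 true 3192, .use 174 true 3193, .use 171 true 3194, .use 174 true 3195, .use 171 true 3196, .use 174 true 3197, .use 174 true 3198, .use 171 true 3199, .tee 21 false 466, .mul 2314]⟩,
  ⟨3, 2861, 1, 3, 3213, 5, 5, [.mul 4, .mul 2288, .use 205 true 2850, .use 220 true 3201, .use 200 true 3202, .tee 21 true 467, .mul 2289, .mul 2290, .use 174 true 3203, .use 177 true 3204, .use 174 true 3205, .use 171 true 3206, .use 174 true 3207, .use 174 true 3208, .use 171 true 3209, .use 174 true 3210, .use 177 true 3211, .use 174 true 3212, .tee 21 false 468, .mul 2290]⟩,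
  ⟨3, 2306, 1, 3, 3227, 5, 0, [.mul 4, .mul 2272, .use 205 true 3214, .use 220 true 3215, .use 200 true 3216, .tee 21 true 469, .mul 2273, .mul 2274, .use 174 true 3217, .use 177 true 3218, .use 174 true 3219, .use 174 true 3220, .use 171 true 3221, .use 174 true 3222, .use 177 true 3223, .use 174 true 3224, .use 171 true 3225, .use 174 true 3226, .tee 21 false 470, .mul 2274]⟩,
  ⟨1, 3229, 1, 1, 3230, 5, 0, [.mul 4, .mul 2272, .use 171 true 2957, .use 174 true 33, .use 174 true 2958, .use 171 true 2959, .use 174 true 2960, .use 174 true 2961, .use 174 true 2962, .use 171 true 2963, .use 174 true 2964, .use 171 true 2965, .use 174 true 2966, .use 174 true 2967, .use 174 true 2968, .use 171 true 2969, .tee 21 false 420, .mul 2273, .mul 2274, .use 220 true 3228, .tee 21 true 471, .mul 2274]⟩,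
  ⟨4, 3231, 1, 3, 3232, 4, 0, [.tee 165 true 472]⟩,
  ⟨4, 3056, 0, 4, 3242, 3, 0, [.tee 165 true 3, .use 196 false 3233, .use 200 false 3234, .use 200 false 3235, .use 217 false 3236, .use 205 false 3237, .use 200 true 3237, .use 220 true 3238, .use 196 true 3239, .use 220 true 3240, .use 217 true 3241, .tee 165 false 473]⟩,
  ⟨4, 3244, 0, 4, 4, 2, 0, [.use 228 false 3243]⟩,
  ⟨4, 3056, 0, 4, 3255, 3, 0, [.tee 165 true 3, .use 196 false 3233, .use 220 false 3245, .use 205 false 3246, .use 217 false 3247, .use 205 false 3248, .use 200 false 3249, .use 205 true 3249, .use 196 true 3250, .use 217 true 3251, .use 220 true 3252, .use 196 true 3253, .use 202 true 3254, .tee 165 false 474]⟩,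
  ⟨4, 3257, 0, 4, 4, 2, 0, [.use 230 false 3256]⟩,
  ⟨4, 3056, 0, 4, 3268, 3, 0, [.tee 165 true 3, .use 200 false 3258, .use 205 false 3259, .use 220 false 3260, .use 200 false 3261, .use 220 false 3262, .use 217 true 3262, .use 202 true 3263, .use 220 true 3264, .use 200 true 3265, .use 220 true 3266, .use 205 true 3267, .tee 165 false 475]⟩,
  ⟨4, 3270, 0, 4, 4, 2, 0, [.use 232 false 3269]⟩,
  ⟨3, 2589, 1, 4, 3278, 5, 13, [.mul 4, .mul 2308, .use 220 true 3012, .use 200 true 3271, .use 217 true 3272, .tee 224 false 476, .mul 2309, .mul 2310, .use 217 true 3273, .use 200 true 3274, .use 205 true 3275, .use 196 true 3276, .use 200 true 3277, .tee 165 false 477, .mul 2311]⟩,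
  ⟨4, 3278, 0, 4, 3056, 3, 0, [.tee 234 true 3, .tee 165 false 3]⟩,
  ⟨4, 3280, 0, 4, 4, 2, 0, [.use 235 false 3279]⟩,
  ⟨4, 3282, 1, 3, 3283, 4, 0, [.use 236 false 3281, .tee 227 false 478]⟩,
  ⟨3, 2906, 1, 4, 3298, 5, 10, [.mul 4, .mul 2301, .use 220 true 2892, .use 220 true 3284, .use 200 true 3285, .tee 21 true 479, .mul 2302, .mul 403, .use 177 true 3286, .use 174 true 3287, .use 174 true 3288, .use 171 true 3289, .use 177 true 3290, .use 174 true 3291, .use 174 true 3292, .use 174 true 3293, .use 171 true 3294, .use 177 true 3295, .use 171 true 3296, .use 174 true 3297, .tee 47 false 480, .mul 2303]⟩,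
  ⟨4, 3300, 1, 3, 3301, 4, 0, [.use 231 false 3299, .tee 238 true 481]⟩]

/-- Part of `facts`. -/
def facts6 : List DFact := [
  ⟨3, 2352, 1, 4, 3318, 5, 0, [.mul 4, .mul 2272, .use 205 true 1, .use 220 true 3302, .use 200 true 3303, .tee 21 true 482, .mul 2273, .mul 2274, .use 171 true 3304, .use 174 true 3305, .use 171 true 3306, .use 177 true 3307, .use 171 true 3308, .use 174 true 3309, .use 171 true 3310, .use 174 true 3311, .use 177 true 3312, .use 174 true 3313, .use 171 true 3314, .use 174 true 3315, .use 177 true 3316, .use 171 true 3317, .tee 47 false 483, .mul 2274]⟩,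
  ⟨4, 2927, 1, 3, 3319, 4, 0, [.tee 240 true 484]⟩,
  ⟨3, 2352, 1, 4, 3323, 5, 4, [.mul 4, .mul 73, .use 200 true 2929, .use 196 true 3320, .tee 223 false 485, .mul 2285, .mul 2286, .use 220 true 3321, .use 200 true 3322, .tee 238 false 486, .mul 2287]⟩,
  ⟨4, 3323, 0, 4, 3318, 3, 0, [.tee 242 true 3, .tee 240 false 3]⟩,
  ⟨4, 3325, 0, 4, 4, 2, 0, [.use 243 false 3324]⟩,
  ⟨4, 2906, 1, 3, 3329, 4, 0, [.use 244 false 3326, .use 231 false 3327, .use 244 false 3328, .tee 237 false 487]⟩,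
  ⟨4, 3, 1, 4, 3334, 5, 5, [.mul 4, .mul 2288, .use 231 true 3330, .use 236 true 3331, .tee 239 false 488, .mul 2289, .mul 2290, .use 205 true 3332, .use 205 true 3333, .tee 238 false 489, .mul 2290]⟩,
  ⟨4, 2272, 1, 4, 3343, 5, 2, [.mul 4, .mul 2273, .tee 47 true 3, .mul 2272, .mul 2279, .use 174 true 3335, .use 174 true 3336, .use 174 true 3337, .use 171 true 3338, .use 174 true 3339, .use 171 true 3340, .use 177 true 3341, .use 174 true 3342, .tee 47 false 490, .mul 2280]⟩,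
  ⟨4, 2281, 1, 4, 3347, 5, 1, [.mul 4, .mul 2275, .tee 47 true 19, .mul 2276, .mul 2277, .use 174 true 3344, .use 177 true 3345, .use 174 true 3346, .tee 47 false 491, .mul 2278]⟩,
  ⟨4, 3352, 1, 4, 3353, 5, 2, [.mul 4, .mul 2273, .tee 247 false 492, .mul 2272, .mul 2279, .use 244 true 3348, .use 236 true 3349, .use 244 true 3350, .use 236 true 3351, .tee 247 false 493, .mul 2280]⟩,
  ⟨5, 4, 0, 5, 3366, 3, 0, [.tee 48 true 3, .use 211 false 3354, .use 192 false 3355, .use 192 false 3356, .use 183 false 3357, .use 181 false 3358, .use 185 false 3359, .use 192 true 3359, .use 192 true 3360, .use 181 true 3361, .use 188 true 3362, .use 192 true 3363, .use 211 true 3364, .use 181 true 3365, .tee 48 false 494]⟩,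
  ⟨5, 3367, 0, 5, 4, 2, 0, [.use 250 false 3367]⟩,
  ⟨5, 4, 0, 5, 3380, 3, 0, [.tee 48 true 3, .use 192 false 3368, .use 188 false 3369, .use 181 false 3370, .use 183 false 3371, .use 188 false 3372, .use 183 false 3373, .use 192 true 3373, .use 183 true 3374, .use 183 true 3375, .use 192 true 3376, .use 188 true 3377, .use 181 true 3378, .use 183 true 3379, .tee 48 false 495]⟩,
  ⟨5, 3381, 0, 5, 4, 2, 0, [.use 252 false 3381]⟩,
  ⟨3, 3388, 1, 5, 3389, 5, 19, [.mul 4, .mul 2319, .tee 207 false 3, .mul 2320, .mul 2321, .use 181 true 3382, .use 183 true 3383, .use 192 true 3384, .use 185 true 3385, .use 192 true 3386, .use 181 true 3387, .tee 48 false 496, .mul 2322]⟩,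
  ⟨5, 2304, 1, 3, 3390, 4, 0, [.tee 254 true 497]⟩,
  ⟨4, 3157, 1, 5, 3396, 5, 13, [.mul 4, .mul 2308, .use 244 true 3391, .use 231 true 3392, .tee 245 false 498, .mul 2309, .mul 2310, .use 200 true 3393, .use 202 true 3394, .use 196 true 3395, .tee 254 false 499, .mul 2311]⟩,
  ⟨5, 3398, 1, 4, 3399, 4, 0, [.use 253 false 3397, .tee 256 true 500]⟩,
  ⟨5, 3, 1, 5, 3402, 5, 11, [.mul 4, .mul 2304, .tee 255 false 501, .mul 2305, .mul 2306, .use 196 true 3400, .use 196 true 3401, .tee 254 false 502, .mul 2307]⟩,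
  ⟨5, 2272, 1, 5, 3409, 5, 2, [.mul 4, .mul 2273, .tee 48 true 3, .mul 2272, .mul 2279, .use 211 true 3403, .use 211 true 3404, .use 183 true 3405, .use 211 true 3406, .use 181 true 3407, .use 183 true 3408, .tee 48 false 503, .mul 2280]⟩,
  ⟨5, 2275, 1, 5, 3416, 5, 2, [.mul 4, .mul 2273, .tee 48 true 0, .mul 2272, .mul 2279, .use 192 true 3410, .use 192 true 3411, .use 185 true 3412, .use 181 true 3413, .use 188 true 3414, .use 181 true 3415, .tee 48 false 504, .mul 2280]⟩,
  ⟨5, 3423, 1, 5, 3424, 5, 2, [.mul 4, .mul 2273, .tee 48 true 505, .mul 2272, .mul 2279, .use 181 true 3417, .use 211 true 3418, .use 192 true 3419, .use 188 true 3420, .use 185 true 3421, .use 183 true 3422, .tee 48 false 506, .mul 2280]⟩,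
  ⟨5, 2281, 1, 5, 3427, 4, 0, [.use 253 false 3425, .use 253 false 3426, .tee 261 true 507]⟩,
  ⟨5, 3423, 1, 5, 3431, 5, 5, [.mul 4, .mul 2288, .use 251 true 3428, .tee 260 false 508, .mul 2289, .mul 2290, .use 253 true 3429, .use 251 true 3430, .tee 261 false 509, .mul 2290]⟩,
  ⟨5, 3431, 0, 5, 3424, 3, 0, [.tee 263 true 3, .tee 261 false 3]⟩,
  ⟨5, 3433, 0, 5, 4, 2, 0, [.use 264 false 3432]⟩,
  ⟨5, 3427, 0, 5, 3434, 3, 0, [.tee 262 true 3, .use 265 true 2281, .tee 260 false 510]⟩,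
  ⟨5, 3436, 0, 5, 4, 2, 0, [.use 266 false 3435]⟩,
  ⟨5, 4, 0, 5, 3448, 3, 0, [.tee 48 true 3, .use 181 false 3437, .use 211 false 3438, .use 188 false 3439, .use 192 false 3440, .use 185 false 3441, .use 211 true 3441, .use 185 true 3442, .use 181 true 3443, .use 211 true 3444, .use 181 true 3445, .use 183 true 3446, .use 183 true 3447, .tee 48 false 511]⟩,
  ⟨5, 3449, 0, 5, 4, 2, 0, [.use 268 false 3449]⟩,
  ⟨5, 3453, 1, 4, 3454, 4, 0, [.use 251 false 3450, .use 267 false 3451, .use 269 false 3452, .tee 257 false 512]⟩,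
  ⟨5, 3389, 0, 5, 3461, 3, 0, [.tee 254 true 3, .use 196 false 3455, .use 202 false 3456, .use 205 false 3457, .use 196 true 3457, .use 217 true 3458, .use 205 true 3459, .use 196 true 3460, .tee 254 false 513]⟩,
  ⟨5, 3463, 0, 5, 4, 2, 0, [.use 271 false 3462]⟩,
  ⟨3, 3388, 1, 5, 3474, 5, 0, [.mul 4, .mul 2272, .use 220 true 3464, .use 217 true 3465, .use 205 true 3466, .use 220 true 3467, .use 205 true 3468, .tee 165 false 514, .mul 2273, .mul 2274, .use 244 true 3469, .use 231 true 3470, .use 244 true 3471, .use 233 true 3472, .use 244 true 3473, .tee 256 false 515, .mul 2274]⟩,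
  ⟨5, 3474, 0, 5, 3389, 3, 0, [.tee 273 true 3, .tee 254 false 3]⟩,
  ⟨5, 3476, 0, 5, 4, 2, 0, [.use 274 false 3475]⟩,
  ⟨5, 3480, 1, 4, 3481, 4, 0, [.use 269 false 3477, .use 265 false 3478, .use 275 false 3479, .tee 270 false 516]⟩,
  ⟨5, 12, 1, 5, 3483, 4, 0, [.use 275 false 3482, .tee 259 false 517]⟩,
  ⟨5, 2636, 1, 5, 3486, 4, 0, [.use 253 false 3484, .use 272 false 3485, .tee 260 false 518]⟩,
  ⟨5, 2512, 1, 5, 3490, 5, 0, [.mul 4, .mul 2272, .use 251 true 2502, .use 275 true 3487, .tee 277 false 519, .mul 2273, .mul 2274, .use 265 true 3488, .use 275 true 3489, .tee 277 false 520, .mul 2274]⟩]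

/-- Part of `facts`. -/
def facts7 : List DFact := [
  ⟨5, 2273, 1, 5, 3495, 5, 0, [.mul 4, .mul 2272, .tee 48 true 3, .mul 2273, .mul 2274, .use 192 true 2342, .use 192 true 3491, .use 192 true 3492, .use 192 true 3493, .use 185 true 3494, .tee 48 false 521, .mul 2274]⟩,
  ⟨5, 3502, 1, 5, 3503, 5, 20, [.mul 4, .mul 2323, .use 275 true 3496, .use 269 true 3497, .use 267 true 3498, .use 251 true 3499, .tee 276 false 522, .mul 2324, .mul 2325, .use 244 true 3500, .use 244 true 3501, .tee 256 false 523, .mul 2326]⟩,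
  ⟨5, 3505, 1, 5, 3506, 5, 0, [.mul 4, .mul 2272, .tee 258 false 524, .mul 2273, .mul 2274, .use 272 true 3504, .tee 258 false 525, .mul 2274]⟩,
  ⟨6, 4, 0, 6, 3519, 3, 0, [.tee 49 true 3, .use 196 false 3507, .use 217 false 3508, .use 205 false 3509, .use 202 false 3510, .use 200 false 3511, .use 196 false 3512, .use 217 true 3512, .use 200 true 3513, .use 220 true 3514, .use 196 true 3515, .use 200 true 3516, .use 217 true 3517, .use 196 true 3518, .tee 49 false 526]⟩,
  ⟨6, 3520, 0, 6, 4, 2, 0, [.use 283 false 3520]⟩,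
  ⟨6, 4, 0, 6, 2986, 3, 0, [.tee 49 true 3, .use 202 false 3521, .use 205 false 3522, .use 196 false 3523, .use 205 false 3524, .use 196 false 3525, .use 200 true 3525, .use 217 true 3526, .use 200 true 3527, .use 220 true 3528, .use 200 true 3529, .use 205 true 3530, .tee 49 false 527]⟩,
  ⟨6, 2985, 0, 6, 4, 2, 0, [.use 285 false 2985]⟩,
  ⟨6, 2272, 1, 6, 3536, 5, 2, [.mul 4, .mul 2273, .tee 49 true 3, .mul 2272, .mul 2279, .use 217 true 3531, .use 196 true 3532, .use 220 true 3533, .use 205 true 3534, .use 202 true 3535, .tee 49 false 528, .mul 2280]⟩,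
  ⟨6, 3423, 1, 6, 3542, 5, 2, [.mul 4, .mul 2273, .tee 49 true 505, .mul 2272, .mul 2279, .use 217 true 3537, .use 220 true 3538, .use 196 true 3539, .use 205 true 3540, .use 217 true 3541, .tee 49 false 529, .mul 2280]⟩,
  ⟨6, 2273, 1, 6, 3548, 5, 0, [.mul 4, .mul 2272, .tee 49 true 3, .mul 2273, .mul 2274, .use 217 true 434, .use 220 true 3543, .use 202 true 3544, .use 205 true 3545, .use 196 true 3546, .use 196 true 3547, .tee 49 false 530, .mul 2274]⟩,
  ⟨6, 3554, 1, 6, 3555, 5, 5, [.mul 4, .mul 2288, .tee 49 true 531, .mul 2289, .mul 2290, .use 220 true 3549, .use 196 true 3550, .use 217 true 3551, .use 202 true 3552, .use 220 true 3553, .tee 49 false 532, .mul 2290]⟩,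
  ⟨6, 3025, 1, 4, 3559, 5, 5, [.mul 4, .mul 2288, .tee 49 true 428, .mul 2289, .mul 2290, .use 220 true 3021, .use 205 true 3556, .use 200 true 3557, .use 220 true 3558, .tee 165 false 533, .mul 2290]⟩,
  ⟨4, 6, 1, 6, 3565, 4, 0, [.use 236 false 3560, .use 244 false 3561, .use 233 false 3562, .use 244 false 3563, .use 231 false 3564, .tee 291 true 534]⟩,
  ⟨6, 2297, 1, 4, 3568, 5, 8, [.mul 4, .mul 2294, .tee 49 true 0, .mul 2294, .mul 2295, .use 196 true 2987, .use 220 true 3566, .use 220 true 3567, .tee 240 false 535, .mul 2296]⟩,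
  ⟨4, 3575, 1, 6, 3576, 4, 0, [.use 229 false 3569, .use 233 false 3570, .use 236 false 3571, .use 233 false 3572, .use 231 false 3573, .use 244 false 3574, .tee 293 true 536]⟩,
  ⟨6, 3582, 1, 6, 3583, 5, 4, [.mul 4, .mul 73, .tee 291 false 537, .mul 2285, .mul 2286, .use 233 true 3577, .use 231 true 3578, .use 244 true 3579, .use 236 true 3580, .use 231 true 3581, .tee 292 false 538, .mul 2287]⟩,
  ⟨6, 2299, 1, 6, 3586, 5, 0, [.mul 4, .mul 2272, .use 284 true 3584, .use 286 true 3585, .tee 289 false 539, .mul 2273, .mul 2274, .tee 290 false 540, .mul 2274]⟩,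
  ⟨4, 5, 1, 6, 3595, 5, 13, [.mul 4, .mul 2308, .use 236 true 3587, .use 236 true 3588, .use 244 true 3589, .use 236 true 3590, .use 233 true 3591, .use 231 true 3592, .tee 292 false 541, .mul 2309, .mul 2310, .use 286 true 3593, .use 284 true 3594, .tee 287 false 542, .mul 2311]⟩,
  ⟨6, 3597, 1, 4, 3598, 4, 0, [.use 284 false 3596, .tee 297 true 543]⟩,
  ⟨4, 3229, 1, 4, 3602, 5, 2, [.mul 4, .mul 2273, .tee 297 false 3, .mul 2272, .mul 2279, .use 284 true 3599, .use 286 true 3600, .use 284 true 3601, .tee 291 false 544, .mul 2280]⟩,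
  ⟨4, 3042, 1, 4, 3607, 5, 0, [.mul 4, .mul 2272, .use 233 true 3603, .use 231 true 3604, .use 236 true 3605, .use 229 true 3606, .tee 294 false 545, .mul 2273, .mul 2274, .tee 291 false 546, .mul 2274]⟩,
  ⟨5, 3618, 1, 6, 3619, 5, 12, [.mul 4, .mul 2299, .use 269 true 3608, .use 275 true 3609, .use 253 true 3610, .use 265 true 3611, .tee 276 false 547, .mul 2300, .mul 2297, .use 244 true 3612, .use 244 true 3613, .use 231 true 3614, .use 244 true 3615, .use 236 true 3616, .use 233 true 3617, .tee 294 false 548, .mul 2298]⟩,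
  ⟨6, 2909, 1, 5, 3620, 4, 0, [.tee 301 true 549]⟩,
  ⟨5, 3597, 1, 3, 3625, 5, 1, [.mul 4, .mul 2275, .use 253 true 3621, .use 272 true 3622, .use 269 true 3623, .use 275 true 3624, .tee 301 false 550, .mul 2276, .mul 2277, .tee 49 true 551, .mul 2278]⟩,
  ⟨3, 3629, 1, 5, 3630, 4, 0, [.use 220 false 3626, .use 220 false 3627, .use 196 false 3628, .tee 303 true 552]⟩,
  ⟨5, 3636, 1, 4, 3637, 5, 0, [.mul 4, .mul 2272, .use 267 true 3631, .use 251 true 3632, .use 275 true 3633, .use 251 true 3634, .tee 301 false 553, .mul 2273, .mul 2274, .use 284 true 3635, .tee 291 false 554, .mul 2274]⟩,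
  ⟨4, 2369, 1, 5, 3642, 4, 0, [.use 236 false 3638, .use 244 false 3639, .use 231 false 3640, .use 236 false 3641, .tee 305 true 555]⟩,
  ⟨6, 3, 1, 6, 3644, 5, 2, [.mul 4, .mul 2273, .tee 289 false 431, .mul 2272, .mul 2279, .use 286 true 3643, .tee 289 false 556, .mul 2280]⟩,
  ⟨3, 3229, 1, 3, 3651, 5, 5, [.mul 4, .mul 2288, .use 220 true 3645, .use 217 true 3646, .use 205 true 3647, .use 202 true 3648, .tee 304 false 557, .mul 2289, .mul 2290, .use 269 true 3649, .use 269 true 3650, .tee 303 false 558, .mul 2290]⟩,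
  ⟨3, 2906, 1, 4, 3658, 5, 1, [.mul 4, .mul 2275, .use 202 true 3652, .use 220 true 3653, .use 200 true 3654, .tee 308 false 559, .mul 2276, .mul 2277, .use 220 true 3655, .use 220 true 3656, .use 205 true 3657, .tee 238 false 560, .mul 2278]⟩,
  ⟨4, 3658, 0, 4, 3298, 3, 0, [.tee 309 true 3, .tee 238 false 3]⟩,
  ⟨4, 3660, 0, 4, 4, 2, 0, [.use 310 false 3659]⟩,
  ⟨4, 3575, 1, 6, 3669, 5, 2, [.mul 4, .mul 2273, .use 244 true 3661, .use 231 true 3662, .use 233 true 3663, .use 236 true 3664, .tee 300 false 561, .mul 2272, .mul 2279, .use 236 true 3665, .use 311 true 3666, .use 231 true 3667, .use 244 true 3668, .tee 292 false 562, .mul 2280]⟩,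
  ⟨6, 3669, 0, 6, 3576, 3, 0, [.tee 312 true 3, .tee 294 false 3]⟩,
  ⟨6, 3671, 0, 6, 4, 2, 0, [.use 313 false 3670]⟩,
  ⟨6, 2589, 1, 6, 3679, 4, 0, [.use 314 false 3672, .use 286 false 3673, .use 314 false 3674, .use 284 false 3675, .use 286 false 3676, .use 314 false 3677, .use 284 false 3678, .tee 287 false 563]⟩,
  ⟨6, 2, 1, 6, 3690, 4, 0, [.use 284 false 3680, .use 284 false 3681, .use 284 false 3682, .use 286 false 3683, .use 314 false 3684, .use 286 false 3685, .use 314 false 3686, .use 284 false 3687, .use 286 false 3688, .use 314 false 3689, .tee 288 false 564]⟩,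
  ⟨6, 3697, 1, 6, 3698, 4, 0, [.use 286 false 3691, .use 314 false 3692, .use 286 false 3693, .use 314 false 3694, .use 286 false 3695, .use 284 false 3696, .tee 290 false 565]⟩,
  ⟨6, 3704, 1, 4, 3705, 4, 0, [.use 286 false 3699, .use 284 false 3700, .use 284 false 3701, .use 314 false 3702, .use 286 false 3703, .tee 291 false 566]⟩,
  ⟨6, 6, 1, 4, 3714, 4, 0, [.use 284 false 3706, .use 314 false 3707, .use 284 false 3708, .use 284 false 3709, .use 284 false 3710, .use 286 false 3711, .use 314 false 3712, .use 314 false 3713, .tee 293 false 567]⟩]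

/-- Part of `facts`. -/
def facts8 : List DFact := [
  ⟨6, 3721, 1, 6, 3722, 4, 0, [.use 314 false 3715, .use 286 false 3716, .use 284 false 3717, .use 284 false 3718, .use 314 false 3719, .use 314 false 3720, .tee 295 false 568]⟩,
  ⟨6, 9, 1, 6, 3727, 4, 0, [.use 284 false 3723, .use 284 false 3724, .use 286 false 3725, .use 314 false 3726, .tee 296 false 569]⟩,
  ⟨6, 3735, 1, 4, 3736, 4, 0, [.use 284 false 3728, .use 284 false 3729, .use 314 false 3730, .use 286 false 3731, .use 314 false 3732, .use 314 false 3733, .use 314 false 3734, .tee 298 false 570]⟩,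
  ⟨6, 5, 1, 5, 3745, 4, 0, [.use 286 false 3737, .use 314 false 3738, .use 286 false 3739, .use 314 false 3740, .use 284 false 3741, .use 286 false 3742, .use 314 false 3743, .use 314 false 3744, .tee 302 false 571]⟩,
  ⟨4, 9, 1, 5, 3760, 5, 9, [.mul 4, .mul 2297, .use 231 true 3746, .use 233 true 3747, .use 231 true 3748, .use 311 true 3749, .use 244 true 3750, .use 311 true 3751, .use 231 true 3752, .tee 297 false 572, .mul 2298, .mul 2299, .use 284 true 3753, .use 314 true 3754, .use 284 true 3755, .use 284 true 3756, .use 286 true 3757, .use 314 true 3758, .use 284 true 3759, .tee 323 false 573, .mul 2300]⟩,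
  ⟨5, 3721, 1, 4, 3763, 4, 0, [.use 251 false 3761, .use 272 false 3762, .tee 324 true 574]⟩,
  ⟨4, 3618, 1, 4, 3787, 5, 24, [.mul 2335, .mul 2331, .use 233 true 3764, .use 233 true 3765, .use 311 true 3766, .use 236 true 3767, .use 233 true 3768, .use 229 true 3769, .tee 297 false 575, .mul 2332, .mul 4, .use 284 true 3770, .use 314 true 3771, .use 286 true 3772, .use 284 true 3773, .use 284 true 3774, .use 314 true 3775, .use 284 true 3776, .use 284 true 3777, .use 284 true 3778, .tee 316 false 576, .mul 4, .mul 2333, .use 314 true 3779, .use 286 true 3780, .use 314 true 3781, .use 286 true 3782, .use 314 true 3783, .use 314 true 3784, .use 284 true 3785, .use 284 true 3786, .tee 322 false 577, .mul 2334]⟩,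
  ⟨4, 3799, 1, 5, 3800, 5, 9, [.mul 4, .mul 2297, .use 311 true 3788, .use 311 true 3789, .use 311 true 3790, .use 244 true 3791, .use 231 true 3792, .tee 300 false 578, .mul 2298, .mul 2299, .use 236 true 3793, .use 233 true 3794, .use 244 true 3795, .use 236 true 3796, .use 236 true 3797, .use 231 true 3798, .tee 324 false 579, .mul 2300]⟩,
  ⟨5, 1, 1, 4, 3803, 4, 0, [.use 267 false 3801, .use 265 false 3802, .tee 327 true 580]⟩,
  ⟨5, 2, 1, 6, 3812, 5, 13, [.mul 4, .mul 2308, .use 269 true 3804, .use 251 true 3805, .use 265 true 3806, .use 275 true 3807, .tee 325 false 581, .mul 2309, .mul 2310, .use 244 true 3808, .use 244 true 3809, .use 236 true 3810, .use 244 true 3811, .tee 292 false 582, .mul 2311]⟩,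
  ⟨6, 3822, 1, 5, 3823, 4, 0, [.use 284 false 3813, .use 286 false 3814, .use 286 false 3815, .use 314 false 3816, .use 286 false 3817, .use 314 false 3818, .use 314 false 3819, .use 314 false 3820, .use 286 false 3821, .tee 329 true 583]⟩,
  ⟨5, 6, 1, 6, 3833, 5, 3, [.mul 4, .mul 2281, .use 267 true 3824, .use 269 true 3825, .use 251 true 3826, .use 272 true 3827, .tee 325 false 584, .mul 2282, .mul 2283, .use 233 true 3828, .use 244 true 3829, .use 231 true 3830, .use 233 true 3831, .use 231 true 3832, .tee 297 false 585, .mul 2284]⟩,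
  ⟨6, 3843, 1, 5, 3844, 4, 0, [.use 284 false 3834, .use 284 false 3835, .use 314 false 3836, .use 284 false 3837, .use 284 false 3838, .use 314 false 3839, .use 314 false 3840, .use 314 false 3841, .use 286 false 3842, .tee 331 true 586]⟩,
  ⟨5, 10, 1, 5, 3857, 5, 1, [.mul 4, .mul 2275, .use 275 true 3845, .use 253 true 3846, .use 272 true 3847, .use 253 true 3848, .use 251 true 3849, .use 251 true 3850, .tee 331 false 587, .mul 2276, .mul 2277, .use 284 true 3851, .use 286 true 3852, .use 284 true 3853, .use 314 true 3854, .use 284 true 3855, .use 284 true 3856, .tee 332 false 588, .mul 2278]⟩,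
  ⟨5, 5, 1, 5, 3866, 5, 1, [.mul 4, .mul 2275, .use 275 true 39, .use 251 true 3858, .use 253 true 3859, .tee 329 false 589, .mul 2276, .mul 2277, .use 284 true 3860, .use 284 true 3861, .use 314 true 3862, .use 314 true 3863, .use 314 true 3864, .use 314 true 3865, .tee 332 false 590, .mul 2278]⟩,
  ⟨5, 9, 1, 5, 3877, 5, 1, [.mul 4, .mul 2275, .use 272 true 3867, .use 265 true 3868, .use 253 true 3869, .use 275 true 3870, .use 251 true 3871, .tee 329 false 591, .mul 2276, .mul 2277, .use 314 true 3872, .use 314 true 3873, .use 286 true 3874, .use 284 true 3875, .use 284 true 3876, .tee 330 false 592, .mul 2278]⟩,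
  ⟨5, 3175, 1, 3, 3888, 5, 1, [.mul 4, .mul 2275, .use 275 true 3878, .use 267 true 3879, .use 251 true 3880, .tee 329 false 593, .mul 2276, .mul 2277, .use 284 true 3881, .use 314 true 3882, .use 286 true 3883, .use 284 true 3884, .use 284 true 3885, .use 314 true 3886, .use 314 true 3887, .tee 49 true 594, .mul 2278]⟩,
  ⟨3, 2, 1, 5, 3896, 4, 0, [.use 196 false 3889, .use 217 false 3890, .use 196 false 3891, .use 200 false 3892, .use 202 false 3893, .use 217 false 3894, .use 200 false 3895, .tee 336 true 595]⟩,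
  ⟨5, 3903, 1, 3, 3904, 5, 0, [.mul 4, .mul 2272, .use 267 true 3897, .use 275 true 3898, .tee 328 false 596, .mul 2273, .mul 2274, .use 244 true 3899, .use 244 true 3900, .use 311 true 3901, .use 231 true 3902, .tee 245 false 597, .mul 2274]⟩,
  ⟨3, 3908, 1, 5, 3909, 4, 0, [.use 196 false 3905, .use 202 false 3906, .use 217 false 3907, .tee 338 true 598]⟩,
  ⟨5, 3799, 1, 5, 3917, 5, 0, [.mul 4, .mul 2272, .use 267 true 3735, .use 251 true 3910, .use 272 true 3911, .use 251 true 3912, .tee 331 false 599, .mul 2273, .mul 2274, .use 286 true 3913, .use 284 true 3914, .use 314 true 3915, .use 284 true 3916, .tee 332 false 600, .mul 2274]⟩,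
  ⟨4, 2, 1, 4, 3928, 5, 0, [.mul 4, .mul 2272, .use 233 true 3918, .use 244 true 3919, .use 236 true 3920, .use 244 true 3921, .use 229 true 3922, .tee 324 false 601, .mul 2273, .mul 2274, .use 265 true 3923, .use 269 true 3924, .use 269 true 3925, .use 267 true 3926, .use 253 true 3927, .tee 325 false 602, .mul 2274]⟩]

/-- Data. -/
def facts : List DFact := facts0 ++ facts1 ++ facts2 ++ facts3 ++ facts4 ++ facts5 ++ facts6 ++ facts7 ++ facts8

/-- The facts defining the representatives. -/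
def trees : List ℕ := [2, 14, 21, 47, 48, 49, 50, 147, 148]

/-- The relator forms as words of the enumeration. -/
def rels : List (ℕ × List (ℕ × ℕ)) := [
  (4, [(2272, 2273), (2274, 2274)]),
  (4, [(2275, 2276), (2277, 2278)]),
  (4, [(2273, 2272), (2279, 2280)]),
  (4, [(2281, 2282), (2283, 2284)]),
  (4, [(73, 2285), (2286, 2287)]),
  (4, [(2288, 2289), (2290, 2290)]),
  (4, [(257, 2291), (2292, 2293)]),
  (4, [(2279, 2280), (2273, 2272)]),
  (4, [(2294, 2294), (2295, 2296)]),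
  (4, [(2297, 2298), (2299, 2300)]),
  (4, [(2301, 2302), (403, 2303)]),
  (4, [(2304, 2305), (2306, 2307)]),
  (4, [(2299, 2300), (2297, 2298)]),
  (4, [(2308, 2309), (2310, 2311)]),
  (4, [(2306, 2307), (2304, 2305)]),
  (4, [(403, 2303), (2301, 2302)]),
  (4, [(2312, 2313), (669, 2314)]),
  (4, [(669, 2314), (2312, 2313)]),
  (4, [(2315, 2316), (2317, 2318)]),
  (4, [(2319, 2320), (2321, 2322)]),
  (4, [(2323, 2324), (2325, 2326)]),
  (4, [(2277, 2278), (2275, 2276)]),
  (4, [(2310, 2311), (2308, 2309)]),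
  (4, [(2327, 2328), (2329, 2330)]),
  (2335, [(2331, 2332), (4, 4), (2333, 2334)])]

end Cfsg.Agent.Lib.J4Pres19
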