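import Cfsg.Agent.Lib.J4Pres19.HModel
import Cfsg.Agent.Lib.J4Pres19.DataL
import Cfsg.Agent.Lib.J4Pres19.DataF

/-!
Derived equations between cosets of `<x, y, w>`: the pairs of elements exchanged by `t`, the relator
forms, and the soundness of the checker.
-/

set_option autoImplicit false
set_option maxRecDepth 20000
set_option Elab.async false

namespace Cfsg.Agent.Lib.J4Pres19

open Cfsg.Agent.Lib.CosetEnum

/-- The number of pairs. -/
noncomputable def nLT : ℕ := 3 + LTdefs.length

theorem LT_ok : checkTable LT 3 LTdefs = true ∧ checkTable LI 3 LTdefs = true := by decide +kernel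

theorem LT_gens : getWord LT 0 = mX ∧ getWord LI 0 = mX ∧
    getWord LT 1 = getWord MT (chTGens.getD 1 0) ∧ getWord LI 1 = getWord MT (chTGens.getD 1 0) ∧
    getWord MT (chTGens.getD 0 0) = mX ∧ chTGens.length = 2 ∧
    (chTGens.all fun i => Nat.blt i nMT) = true ∧
    mul mW (getWord MT (thetaData.getD 0 0)) =
      mul (getWord MT (thetaData.getD 0 0)) (getWord LT 2) ∧
    mul mW (getWord MT (thetaData.getD 1 0)) =
      mul (getWord MT (thetaData.getD 1 0)) (getWord wQ (thetaEndIdx)) ∧
    getWord LI 2 = mul (getWord MT (thetaData.getD 2 0)) (getWord wQ (thetaEndIdx)) ∧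
    (thetaData.all fun i => Nat.blt i nMT) = true := by decide +kernel

/-- A relator form agrees with its derivation. -/
noncomputable def checkRelForm (k : ℕ) : Bool :=
  match relSteps[k]?, rels[k]? with
  | some s, some r =>
    Nat.blt r.1 nHT && Nat.beq r.2.length s.2.1.length && Nat.beq r.2.length s.2.2.length &&
      (match runSteps tRuleB tConjB [s.1] one [tBase.getD 0 0] with
        | some q => Nat.beq q.1 (getWord HT r.1) && decide (q.2 = s.2.1)
        | none => false) &&
      ((List.range r.2.length).all fun m =>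
        let p := r.2.getD m (0, 0)
        Nat.blt p.1 nHT && Nat.blt p.2 nHT && Nat.blt (s.2.2.getD m 0) nMT &&
          Nat.beq (getWord MT (s.2.2.getD m 0)) (getWord HT p.2) &&
          Nat.beq (mul (getWord HT p.1) (getWord HT p.2)) one &&
          tImgB (getWord HT p.2) (s.2.1.getD m 0))
  | _, _ => false

theorem rels_ok : Nat.beq rels.length relSteps.length = true ∧
    ((List.range rels.length).all checkRelForm) = true := by decide +kernel

namespace TRel

variable {G : Type*} [Group G] (R : TRel G)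

/-- The model on `x, y, w`. -/
noncomputable abbrev HM : Model G := R.toWRel.H

/-- The element of a table entry. -/
noncomputable abbrev hel (i : ℕ) : G := R.HM.el (getWord HT i)

/-- The subgroup of `x, y, w`. -/
noncomputable def P : Subgroup G := R.toWRel.DH.map (MonoidHom.snd GL12 G)

theorem el_mem_P {c : ℕ} (h : R.HM.Mem c) : R.HM.el c ∈ R.P := by
  obtain ⟨p, hp, e⟩ := h
  exact ⟨p, hp, (R.HM.el_eq hp e).symm⟩

/-- Two codes exchanged by `t`. -/
def TPair (a b : ℕ) : Prop :=
  R.HM.Mem a ∧ R.HM.Mem b ∧ R.t * R.HM.el a = R.HM.el b * R.t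

theorem TPair.mul {a a' b b' : ℕ} {R : TRel G} (h : R.TPair a b) (h' : R.TPair a' b') :
    R.TPair (J4Pres19.mul a a') (J4Pres19.mul b b') := by
  refine ⟨h.1.mul h'.1, h.2.1.mul h'.2.1, ?_⟩
  rw [Model.el_mul h.1 h'.1, Model.el_mul h.2.1 h'.2.1, ← mul_assoc, h.2.2, mul_assoc, h'.2.2,
    mul_assoc]

theorem conj_code {g c : ℕ} (hg : R.toGens.M.Mem g)
    (h : J4Pres19.mul mW g = J4Pres19.mul g c) :
    R.HM.Mem c ∧ R.HM.el c = conjEl R.toGens R.w g := by
  obtain ⟨p, hp, e⟩ := hg
  have hpH : p ∈ R.toWRel.DH := R.toWRel.M_le_H hp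
  have hw : R.toWRel.pW ∈ R.toWRel.DH := Subgroup.subset_closure (by simp)
  have hq : p⁻¹ * R.toWRel.pW * p ∈ R.toWRel.DH := mul_mem (mul_mem (inv_mem hpH) hw) hpH
  have h1 : ((p⁻¹ * R.toWRel.pW * p).1 : Mat12) = val c := by
    have e' := congrArg val h
    rw [val_mul, val_mul, ← e] at e'
    rw [Prod.fst_mul, Prod.fst_mul, Prod.fst_inv, Units.val_mul, Units.val_mul, mul_assoc,
      show ((R.toWRel.pW).1 : Mat12) = val mW from rfl, e', ← mul_assoc, Units.inv_mul, one_mul]
  refine ⟨⟨_, hq, h1⟩, ?_⟩
  rw [R.HM.el_eq hq h1, conjEl, R.toGens.M.el_eq hp e]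
  rfl

theorem LT_pair : ∀ i < nLT, R.TPair (getWord LT i) (getWord LI i) := by
  obtain ⟨h0, h0', h1, h1', hx, hlen, hT, h2, hk, h2', hth⟩ := LT_gens
  have hone : R.TPair one one := ⟨R.HM.mem_one, R.HM.mem_one, by simp [Model.el_one]⟩
  have hcomm : ∀ i ∈ chTGens, R.TPair (getWord MT i) (getWord MT i) := by
    intro i hi
    obtain ⟨hm, he⟩ := R.toWRel.mem_of_M
      (R.toGens.mem_MT (by simpa [Nat.blt_eq] using List.all_eq_true.1 hT i hi))
    exact ⟨hm, hm, by rw [he]; exact R.comm i hi⟩
  have hmem : ∀ k < 2, chTGens.getD k 0 ∈ chTGens := fun k hk => by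
    rw [List.getD_eq_getElem _ _ (by omega)]; exact List.getElem_mem _
  have hgen : ∀ i < 3, R.TPair (getWord LT i) (getWord LI i) := by
    intro i hi
    interval_cases i
    · rw [h0, h0', ← hx]; exact hcomm _ (hmem 0 (by omega))
    · rw [h1, h1']; exact hcomm _ (hmem 1 (by omega))
    · obtain ⟨ha, ea⟩ := R.conj_code (R.mem_nMT hth 0) h2
      obtain ⟨hb, eb⟩ := R.conj_code (R.mem_nMT hth 1) hk
      obtain ⟨hp, ep⟩ := R.toWRel.mem_of_M (R.mem_nMT hth 2)
      rw [h2']
      refine ⟨ha, hp.mul hb, ?_⟩
      rw [Model.el_mul hp hb, ea, eb, ep]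
      have h3 := R.theta
      rw [mtEl] at h3
      show R.t * conjEl R.toGens R.w _ = R.toGens.M.el _ * conjEl R.toGens R.w _ * R.t
      rw [← h3]
      simp [mul_assoc, R.tt]
  -- pairs are built in step
  intro i hi
  suffices ∀ (ds : List (List ℕ)) (n : ℕ), checkTable LT n ds = true → checkTable LI n ds = true →
      (∀ j < n, R.TPair (getWord LT j) (getWord LI j)) →
      ∀ j < n + ds.length, R.TPair (getWord LT j) (getWord LI j) from
    this LTdefs 3 LT_ok.1 LT_ok.2 hgen i hi
  intro ds
  induction ds with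
  | nil => intro n _ _ h j hj; exact h j (by simpa using hj)
  | cons d ds ih =>
    intro n hA hB h j hj
    simp only [checkTable, Bool.and_eq_true, Nat.beq_eq] at hA hB
    refine ih (n + 1) hA.2 hB.2 ?_ j (by simp only [List.length_cons] at hj; omega)
    intro m hm
    rcases Nat.lt_succ_iff_lt_or_eq.1 hm with hm | rfl
    · exact h m hm
    · rw [hA.1.2, hB.1.2]
      have key : ∀ l, below m l = true → R.TPair (evalW LT l) (evalW LI l) := by
        intro l
        induction l with
        | nil => intro _; exact hone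
        | cons a l ih' =>
          intro hl
          simp only [below, List.all_cons, Bool.and_eq_true, Nat.blt_eq] at hl
          exact (h a hl.1).mul (ih' hl.2)
      exact key d hA.1.1

/-- The value of a list of letters. -/
noncomputable def wordVal : List (Option ℕ) → G
  | [] => 1
  | none :: l => R.t * wordVal l
  | some c :: l => R.HM.el c * wordVal l

theorem wordVal_append : ∀ u v, R.wordVal (u ++ v) = R.wordVal u * R.wordVal v
  | [], v => by simp [wordVal]
  | none :: u, v => by simp [wordVal, wordVal_append u v, mul_assoc]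
  | some c :: u, v => by simp [wordVal, wordVal_append u v, mul_assoc]

theorem rel_word {k : ℕ} {r : ℕ × List (ℕ × ℕ)} (h : rels[k]? = some r) :
    R.wordVal (relTokens HT r) = R.t := by
  obtain ⟨hlen, hall⟩ := rels_ok
  obtain ⟨hk, hr⟩ := List.getElem?_eq_some_iff.1 h
  have hc := List.all_eq_true.1 hall k (List.mem_range.2 hk)
  simp only [checkRelForm, h, List.getElem?_eq_getElem (Nat.eq_of_beq_eq_true hlen ▸ hk :
    k < relSteps.length), Bool.and_eq_true, Nat.blt_eq, Nat.beq_eq, List.all_eq_true,
    List.mem_range] at hc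
  obtain ⟨⟨⟨⟨hπ, hl1⟩, hl2⟩, hrun⟩, hm⟩ := hc
  generalize hs : relSteps[k]'(Nat.eq_of_beq_eq_true hlen ▸ hk) = s at hl1 hl2 hrun hm
  cases hq : runSteps tRuleB tConjB [s.1] one [tBase.getD 0 0] with
  | none => rw [hq] at hrun; simp at hrun
  | some q =>
    rw [hq] at hrun
    simp only [Bool.and_eq_true, Nat.beq_eq, decide_eq_true_eq] at hrun
    obtain ⟨hqm, e⟩ := R.derives hq
    have et : R.t = R.T (tBase.getD 0 0) := by
      have := R.conj_eq_T R.toGens.M.mem_one tBase_ok.2.1
      rwa [R.toGens.conjEl_one] at this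
    rw [fprod, List.map_singleton, List.prod_singleton, ← et, hrun.2] at e
    obtain ⟨-, eπ⟩ := R.toWRel.mem_of_M hqm
    rw [relTokens, wordVal, ← hrun.1, eπ]
    refine Eq.trans ?_ e.symm
    refine congrArg (_ * ·) ?_
    suffices ∀ (l : List (ℕ × ℕ)) (ps is : List ℕ), l.length = ps.length → l.length = is.length →
        (∀ m < l.length, ((((l.getD m (0, 0)).1 < nHT ∧ (l.getD m (0, 0)).2 < nHT) ∧ is.getD m 0 < nMT) ∧
          getWord MT (is.getD m 0) = getWord HT (l.getD m (0, 0)).2) ∧
          J4Pres19.mul (getWord HT (l.getD m (0, 0)).1) (getWord HT (l.getD m (0, 0)).2) = one ∧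
          tImgB (getWord HT (l.getD m (0, 0)).2) (ps.getD m 0) = true) →
        R.wordVal (l.flatMap fun p => [some (getWord HT p.1), none, some (getWord HT p.2)]) =
          fprod R.T ps from
      this r.2 s.2.1 s.2.2 hl1 hl2 (fun m hm' => by
        obtain ⟨⟨⟨⟨⟨a, b⟩, c⟩, d⟩, e⟩, f⟩ := hm m hm'
        exact ⟨⟨⟨⟨a, b⟩, c⟩, d⟩, e, f⟩)
    intro l
    induction l with
    | nil =>
      intro ps is h1 _ _
      rw [List.length_eq_zero_iff.1 h1.symm]
      simp [wordVal, fprod]
    | cons p l ih =>
      intro ps is h1 h2 hall'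
      match ps, is, h1, h2 with
      | b :: ps, c :: is, h1, h2 =>
        obtain ⟨⟨⟨⟨ha, hb⟩, hc'⟩, hg⟩, hinv, himg⟩ := hall' 0 (by simp)
        simp only [List.getD_cons_zero] at ha hb hc' hg hinv himg
        have hgM : R.toGens.M.Mem (getWord HT p.2) := hg ▸ R.toGens.mem_MT hc'
        obtain ⟨hgH, eg⟩ := R.toWRel.mem_of_M hgM
        rw [List.flatMap_cons, wordVal_append, fprod_cons,
          ih ps is (by simpa using h1) (by simpa using h2) fun m hm' => by
            simpa using hall' (m + 1) (by simpa using hm')]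
        refine congrArg (· * _) ?_
        have hinv' := Model.el_inv (R.toWRel.mem_H ha) hgH hinv
        rw [← R.conj_eq_T hgM himg, conjEl,
          show R.toGens.M.el (getWord HT p.2) = R.HM.el (getWord HT p.2) from eg.symm, hinv', inv_inv]
        simp [wordVal, mul_assoc, hinv']

/-- The representatives of the nodes. -/
noncomputable def node : ℕ → G
  | 0 => 1
  | k + 1 =>
    if (facts.getD (trees.getD k 0) ⟨0, 0, 0, 0, 0, 0, 0, []⟩).i ≤ k then
      node (facts.getD (trees.getD k 0) ⟨0, 0, 0, 0, 0, 0, 0, []⟩).i *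
        R.hel (facts.getD (trees.getD k 0) ⟨0, 0, 0, 0, 0, 0, 0, []⟩).a * R.t
    else 1
termination_by k => k

/-- The meaning of an equation. -/
def Rel (f : DFact) : Prop :=
  R.node f.i * R.hel f.a * R.t ^ f.e * (R.node f.j * R.hel f.b)⁻¹ ∈ R.P ∧ f.e < 2 ∧ f.a < nHT ∧
    f.b < nHT

theorem tinv : R.t⁻¹ = R.t := inv_eq_of_mul_eq_one_right R.tt

theorem rel_orient {f : DFact} (h : R.Rel f) (rev : Bool) :
    let src := bif rev then (f.j, f.b) else (f.i, f.a)
    let dst := bif rev then (f.i, f.a) else (f.j, f.b)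
    R.node src.1 * R.hel src.2 * R.t ^ f.e * (R.node dst.1 * R.hel dst.2)⁻¹ ∈ R.P ∧
      src.2 < nHT ∧ dst.2 < nHT := by
  obtain ⟨h, he, ha, hb⟩ := h
  cases rev
  · exact ⟨h, ha, hb⟩
  · refine ⟨?_, hb, ha⟩
    have h' := R.P.inv_mem h
    simp only [cond_true]
    rw [show R.t ^ f.e = (R.t ^ f.e)⁻¹ by
      interval_cases f.e <;> simp [R.tinv]]
    simpa [mul_inv_rev, mul_assoc] using h'

theorem runWalk_sound {acc : List DFact} (hacc : ∀ f ∈ acc, R.Rel f) :
    ∀ (ms : List Move) (i h : ℕ) (w : List (Option ℕ)) (X : G), R.HM.Mem h →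
      X * R.wordVal w * (R.node i * R.HM.el h)⁻¹ ∈ R.P →
      ∀ j b r, runWalk HT LT LI nHT nLT acc ms i h w = some (j, b, r) →
        R.HM.Mem b ∧ X * R.wordVal r * (R.node j * R.HM.el b)⁻¹ ∈ R.P
  | [], i, h, w, X, hm, hP, j, b, r, e => by
    simp only [runWalk, Option.some.injEq, Prod.mk.injEq] at e
    obtain ⟨rfl, rfl, rfl⟩ := e
    exact ⟨hm, hP⟩
  | .mul k :: ms, i, h, w, X, hm, hP, j, b, r, e => by
    rw [runWalk] at e
    cases hc : Nat.blt k nHT with
    | false => simp [hc] at e
    | true =>
      rw [hc, cond_true] at e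
      have hk := R.toWRel.mem_H (by simpa [Nat.blt_eq] using hc : k < nHT)
      refine runWalk_sound hacc ms _ _ _ X (hm.mul hk) ?_ j b r e
      rw [wordVal_append, Model.el_mul hm hk]
      simpa [wordVal, mul_assoc] using hP
  | .use f rev k :: ms, i, h, w, X, hm, hP, j, b, r, e => by
    rw [runWalk] at e
    cases hf : acc[f]? with
    | none => simp [hf] at e
    | some x =>
      simp only [hf] at e
      obtain ⟨ho, hs, hd⟩ := R.rel_orient (hacc x (List.mem_of_getElem? hf)) rev
      generalize (bif rev then (x.j, x.b) else (x.i, x.a)) = src at e ho hs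
      generalize (bif rev then (x.i, x.a) else (x.j, x.b)) = dst at e ho hd
      cases hc : (Nat.beq x.e 0 && Nat.beq src.1 i && Nat.blt k nHT &&
          Nat.beq (J4Pres19.mul (getWord HT src.2) (getWord HT k)) h) with
      | false => simp [hc] at e
      | true =>
        rw [hc, cond_true] at e
        simp only [Bool.and_eq_true, Nat.beq_eq, Nat.blt_eq] at hc
        obtain ⟨⟨⟨he, hi⟩, hk⟩, heq⟩ := hc
        subst hi
        have hkm := R.toWRel.mem_H hk
        have hdm := R.toWRel.mem_H hd
        refine runWalk_sound hacc ms _ _ _ X (hdm.mul hkm) ?_ j b r e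
        rw [he, pow_zero, mul_one] at ho
        rw [← heq, Model.el_mul (R.toWRel.mem_H hs) hkm] at hP
        rw [Model.el_mul hdm hkm]
        have := R.P.mul_mem hP ho
        simpa [mul_inv_rev, mul_assoc] using this
  | .tee f rev l :: ms, i, h, w, X, hm, hP, j, b, r, e => by
    rw [runWalk] at e
    cases hf : acc[f]? with
    | none => simp [hf] at e
    | some x =>
      simp only [hf] at e
      obtain ⟨ho, hs, hd⟩ := R.rel_orient (hacc x (List.mem_of_getElem? hf)) rev
      generalize (bif rev then (x.j, x.b) else (x.i, x.a)) = src at e ho hs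
      generalize (bif rev then (x.i, x.a) else (x.j, x.b)) = dst at e ho hd
      cases hc : (Nat.beq x.e 1 && Nat.beq src.1 i && Nat.blt l nLT &&
          Nat.beq (J4Pres19.mul (getWord HT src.2) (getWord LT l)) h) with
      | false => simp [hc] at e
      | true =>
        rw [hc, cond_true] at e
        simp only [Bool.and_eq_true, Nat.beq_eq, Nat.blt_eq] at hc
        obtain ⟨⟨⟨he, hi⟩, hl⟩, heq⟩ := hc
        subst hi
        obtain ⟨hlm, hlm', hlt⟩ := R.LT_pair l hl
        have hdm := R.toWRel.mem_H hd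
        refine runWalk_sound hacc ms _ _ _ X (hdm.mul hlm') ?_ j b r e
        rw [he, pow_one] at ho
        rw [← heq, Model.el_mul (R.toWRel.mem_H hs) hlm] at hP
        rw [Model.el_mul hdm hlm', wordVal_append, show R.wordVal [none] = R.t by simp [wordVal]]
        have hl2 : R.t = (R.HM.el (getWord LT l))⁻¹ * R.t * R.HM.el (getWord LI l) := by
          have h2 : R.t * R.HM.el (getWord LI l) = R.HM.el (getWord LT l) * R.t := by
            have := congrArg (fun z => R.t * z * R.t) hlt
            simp only [← mul_assoc, R.tt, one_mul] at this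
            simpa [mul_assoc, R.tt] using this.symm
          rw [mul_assoc, h2, inv_mul_cancel_left]
        conv => arg 2; rw [hl2]
        have := R.P.mul_mem hP ho
        simpa [mul_inv_rev, mul_assoc] using this

theorem checkFacts_sound : ∀ (fs acc : List DFact) (n : ℕ),
    checkFacts HT LT LI nHT nLT rels trees n acc fs = true → n = acc.length →
    facts = acc ++ fs → (∀ f ∈ acc, R.Rel f) → ∀ f ∈ facts, R.Rel f
  | [], acc, n, _, _, heq, hacc, f, hf => hacc f (by simpa [heq] using hf)
  | x :: fs, acc, n, h, hn, heq, hacc, f, hf => by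
    simp only [checkFacts, Bool.and_eq_true] at h
    obtain ⟨h1, h2⟩ := h
    refine checkFacts_sound fs (acc ++ [x]) (n + 1) h2 (by simp [hn]) (by simp [heq])
      (fun g hg => ?_) f hf
    rcases List.mem_append.1 hg with hg | hg
    · exact hacc g hg
    rw [List.mem_singleton] at hg
    subst hg
    simp only [checkFact, Bool.and_eq_true, Nat.blt_eq] at h1
    obtain ⟨⟨ha, hb⟩, h1⟩ := h1
    have hma := R.toWRel.mem_H ha
    have hmb := R.toWRel.mem_H hb
    cases h0 : Nat.beq g.kind 0 with
    | true =>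
      rw [h0, cond_true] at h1
      simp only [Bool.and_eq_true, Nat.beq_eq] at h1
      obtain ⟨⟨hi, hj⟩, he⟩ := h1
      refine ⟨?_, by omega, ha, hb⟩
      rw [hi, hj, he, node, pow_zero, mul_one, one_mul, one_mul]
      exact R.P.mul_mem (R.el_mem_P hma) (R.P.inv_mem (R.el_mem_P hmb))
    | false =>
      rw [h0, cond_false] at h1
      cases hk1 : Nat.beq g.kind 1 with
      | true =>
        rw [hk1, cond_true] at h1
        simp only [Bool.and_eq_true, Nat.blt_eq, Nat.beq_eq, decide_eq_true_eq] at h1
        obtain ⟨⟨⟨⟨hj0, hij⟩, he⟩, hb1⟩, htr⟩ := h1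
        refine ⟨?_, by omega, ha, hb⟩
        obtain ⟨hlt, hget⟩ := List.getElem?_eq_some_iff.1 htr
        have hd : facts.getD (trees.getD (g.j - 1) 0) ⟨0, 0, 0, 0, 0, 0, 0, []⟩ = g := by
          rw [List.getD_eq_getElem _ _ hlt, hget, heq, hn]
          simp
        have hnode : R.node g.j = R.node g.i * R.hel g.a * R.t := by
          conv_lhs => rw [show g.j = g.j - 1 + 1 by omega, node, hd, if_pos (by omega : g.i ≤ g.j - 1)]
        rw [he, pow_one, hnode, show R.hel g.b = 1 by rw [hel, hb1, Model.el_one], mul_one,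
          mul_inv_cancel]
        exact one_mem _
      | false =>
        rw [hk1, cond_false] at h1
        cases hr : runWalk HT LT LI nHT nLT acc g.steps g.i (getWord HT g.a) [] with
        | none => simp [hr] at h1
        | some q =>
          cases hw : kindWord HT rels g.kind g.arg with
          | none => simp [hr, hw] at h1
          | some w =>
            simp only [hr, hw, Bool.and_eq_true, Nat.beq_eq, decide_eq_true_eq] at h1
            obtain ⟨⟨⟨hj, hbq⟩, hwq⟩, he⟩ := h1
            obtain ⟨-, hs⟩ := R.runWalk_sound hacc g.steps g.i _ [] (R.node g.i * R.hel g.a) hma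
              (by simp [wordVal]) q.1 q.2.1 q.2.2 hr
            rw [hj, hbq, hwq] at hs
            have hv : R.wordVal w = R.t ^ g.e := by
              unfold kindWord at hw
              split at hw <;> try simp only [Option.some.injEq, reduceCtorEq] at hw
              · subst hw; simp_all [wordVal, Nat.blt]; exact (pow_zero _).symm
              · subst hw; simp_all [wordVal, R.tt, Nat.blt]; exact (pow_zero _).symm
              · subst hw; simp_all [wordVal, Nat.blt]; exact (pow_one _).symm
              · obtain ⟨r, hr', rfl⟩ := Option.map_eq_some_iff.1 hw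
                rw [R.rel_word hr']
                simp_all [Nat.blt]; exact (pow_one _).symm
            refine ⟨by rw [← hv]; exact hs, ?_, ha, hb⟩
            rw [he]
            cases Nat.blt g.kind 4 <;> simp

end TRel

end Cfsg.Agent.Lib.J4Pres19
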