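import Cfsg.Agent.Lib.J4Pres19.Cover

/-!
When the order reaches the bound everything is exact: the seven double cosets are disjoint, their sizes
are the suborbit sizes, and `<x, y, w>` is maximal.
-/

set_option autoImplicit false
set_option maxRecDepth 20000
set_option Elab.async false

namespace Cfsg.Agent.Lib.J4Pres19

open Cfsg.Agent.Lib.CosetEnum

theorem eq_of_mul_bounds {a b A B : ℕ} (ha : a ≤ A) (hb : b ≤ B) (hA : 0 < A) (hB : 0 < B)
    (h : A * B ≤ a * b) : a = A ∧ b = B := by
  constructor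
  · by_contra hne
    have : a * b < A * B :=
      lt_of_le_of_lt (Nat.mul_le_mul_left a hb) (Nat.mul_lt_mul_of_pos_right (by omega) hB)
    omega
  · by_contra hne
    have : a * b < A * B :=
      lt_of_le_of_lt (Nat.mul_le_mul_right b ha) (Nat.mul_lt_mul_of_pos_left (by omega) hA)
    omega

theorem subsums_ok : ∀ S : Finset (Fin 7), (0 : Fin 7) ∈ S →
    (∑ i ∈ S, subSize i) ∣ 173067389 → S = {0} ∨ S = Finset.univ := by decide +kernel

namespace TRel

variable {G : Type*} [Group G] (R : TRel G)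

/-- The order is the expected one. -/
def Full : Prop := R.Gen ∧ 86775571046077562880 ≤ Nat.card G

variable {R} (hR : R.Full)
include hR

theorem Full.card : Nat.card G = 86775571046077562880 := le_antisymm (R.card_le hR.1) hR.2

theorem Full.parts : Nat.card R.P = 501397585920 ∧ ∀ i, (R.nodeStab i).index = subSize i := by
  haveI := R.finite_DH
  haveI := R.finite_P
  have h1 : 501397585920 * 173067389 ≤ Nat.card R.P * ∑ i, (R.nodeStab i).index := by
    rw [← R.card_piece]
    exact le_trans (by rw [hR.card]) (Nat.card_le_card_of_surjective _ (R.pieceVal_surj hR.1))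
  have hs : ∑ i, (R.nodeStab i).index ≤ 173067389 := by
    rw [← subSize_spec.2]; exact Finset.sum_le_sum fun i _ => R.index_nodeStab i
  obtain ⟨hP, hsum⟩ := eq_of_mul_bounds R.card_P_le hs (by norm_num) (by norm_num) h1
  refine ⟨hP, fun i => ?_⟩
  rw [← subSize_spec.2] at hsum
  exact (Finset.sum_eq_sum_iff_of_le fun i _ => R.index_nodeStab i).1 hsum i (Finset.mem_univ i)

theorem Full.piece_bij : Function.Bijective R.pieceVal := by
  haveI := R.finite_DH
  haveI := R.finite_P
  refine (Nat.bijective_iff_surjective_and_card _).2 ⟨R.pieceVal_surj hR.1, ?_⟩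
  obtain ⟨hP, hi⟩ := hR.parts
  rw [R.card_piece, hP, Finset.sum_congr rfl (fun i _ => hi i), subSize_spec.2, hR.card]

theorem Full.snd_inj {a b : R.toWRel.DH} (h : a.1.2 = b.1.2) : a = b := by
  haveI := R.finite_DH
  have hb : Function.Bijective (fun a : R.toWRel.DH => (⟨a.1.2, R.snd_mem_P a⟩ : R.P)) :=
    (Nat.bijective_iff_surjective_and_card _).2
      ⟨fun ⟨_, a, ha, e⟩ => ⟨⟨a, ha⟩, Subtype.ext e⟩, by rw [hR.parts.1, R.toWRel.card_DH_eq.1]⟩
  exact hb.1 (Subtype.ext h)

theorem Full.stab_iff (a : R.toWRel.DH) : R.pAct phiMs a = phiMs ↔ R.t * a.1.2 * R.t ∈ R.P := by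
  haveI := R.finite_DH
  refine ⟨R.stab_le a, fun h => ?_⟩
  have hle : R.Kfix ≤ R.nodeStab 1 := fun b hb => R.mem_nodeStab.2 (by
    rw [show ((1 : Fin 7).1) = 1 from rfl, R.node_one, R.tinv]; exact (R.mem_Kfix.1 hb).2)
  have hc : Nat.card (R.nodeStab 1) ≤ Nat.card R.Kfix := by
    have h1 := (R.nodeStab 1).card_mul_index
    rw [hR.parts.2 1, R.toWRel.card_DH_eq.1, show subSize 1 = 15180 from rfl] at h1
    have h2 := R.card_Kfix
    omega
  have : a ∈ R.Kfix := by
    rw [Subgroup.eq_of_le_of_card_ge hle hc]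
    exact R.mem_nodeStab.2 (by rw [show ((1 : Fin 7).1) = 1 from rfl, R.node_one, R.tinv]; exact h)
  exact (R.mem_Kfix.1 this).1

/-- `<x, y, w>` is maximal. -/
theorem Full.maximal (M : Subgroup G) (hM : R.P ≤ M) : M = R.P ∨ M = ⊤ := by
  classical
  haveI := R.finite_DH
  haveI := R.finite_P
  haveI := R.finite_G hR.1
  let S : Finset (Fin 7) := Finset.univ.filter fun i : Fin 7 => R.node i.1 ∈ M
  have hb := hR.piece_bij
  have hmem : ∀ x : R.Piece, R.pieceVal x ∈ M ↔ x.1 ∈ S := by
    intro x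
    rw [pieceVal, M.mul_mem_cancel_right (M.inv_mem (hM (R.snd_mem_P _))),
      M.mul_mem_cancel_left (hM x.2.1.2)]
    simp [S]
  let e1 : {x : R.Piece // x.1 ∈ S} ≃ M :=
    (Equiv.ofBijective _ hb).subtypeEquiv fun x => (hmem x).symm
  let e2 : ((i : S) × (R.P × (R.toWRel.DH ⧸ R.nodeStab i.1))) ≃ {x : R.Piece // x.1 ∈ S} :=
    { toFun := fun x => ⟨⟨x.1.1, x.2⟩, x.1.2⟩
      invFun := fun x => ⟨⟨x.1.1, x.2⟩, x.1.2⟩
      left_inv := fun _ => rfl
      right_inv := fun _ => rfl }
  have hcard : Nat.card M = Nat.card R.P * ∑ i ∈ S, subSize i := by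
    rw [← Nat.card_congr (e2.trans e1), Nat.card_sigma, ← Finset.sum_coe_sort S, Finset.mul_sum]
    refine Finset.sum_congr rfl fun i _ => ?_
    rw [Nat.card_prod]
    exact congrArg _ (hR.parts.2 i.1)
  have hd : (∑ i ∈ S, subSize i) ∣ 173067389 := by
    have h := Subgroup.card_subgroup_dvd_card M
    rw [hcard, hR.card, hR.parts.1, show (86775571046077562880 : ℕ) = 501397585920 * 173067389 by norm_num] at h
    exact (Nat.mul_dvd_mul_iff_left (by norm_num)).1 h
  have h0 : (0 : Fin 7) ∈ S := by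
    simp only [S, Finset.mem_filter_univ]
    rw [show ((0 : Fin 7).1) = 0 from rfl, R.node_zero]; exact M.one_mem
  rcases subsums_ok S h0 hd with h | h
  · left
    refine (Subgroup.eq_of_le_of_card_ge hM ?_).symm
    rw [hcard, h, Finset.sum_singleton, show subSize 0 = 1 from rfl, mul_one]
  · right
    refine Subgroup.eq_top_of_card_eq M ?_
    rw [hcard, h, subSize_spec.2, hR.parts.1, hR.card]

end TRel

end Cfsg.Agent.Lib.J4Pres19
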