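import Cfsg.Agent.Lib.J4Pres19.TRel
import Cfsg.Agent.Lib.J4Pres19.DataH

/-!
An involution with the sextet relations gives, with `x` and `y`, a group named by codes: the pairs of
a matrix and an element form a group no larger than the group of matrices.
-/

set_option autoImplicit false
set_option maxRecDepth 20000
set_option Elab.async false
set_option maxHeartbeats 200000

namespace Cfsg.Agent.Lib.J4Pres19

open Cfsg Cfsg.Agent.Lib.CosetEnum Cfsg.Agent.Lib.M24Pres

theorem glRel : ∀ r ∈ R7, wval uX uY r = 1 := by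
  intro r hr
  apply Units.ext
  rw [val_wordCode, Nat.eq_of_beq_eq_true (List.all_eq_true.1 R7_code r hr), val_one, Units.val_one]

/-- The matrices as a group with two generators. -/
def glGens : Gens GL12 := ⟨uX, uY, glRel⟩

theorem gl_el {c : ℕ} (h : glGens.M.Mem c) : ((glGens.M.el c : GL12) : Mat12) = val c := by
  obtain ⟨p, hp, e⟩ := h
  let d : Subgroup (GL12 × GL12) :=
    ((MonoidHom.id GL12).prod (MonoidHom.id GL12)).range
  have hd : glGens.D ≤ d := by
    show Subgroup.closure {glGens.pX, glGens.pY} ≤ d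
    rw [Subgroup.closure_le, Set.insert_subset_iff, Set.singleton_subset_iff]
    exact ⟨⟨uX, rfl⟩, ⟨uY, rfl⟩⟩
  obtain ⟨u, rfl⟩ := hd hp
  rw [glGens.M.el_eq hp e]
  exact e

theorem gl_checks : (chSGens.all fun i => Nat.blt i nMT &&
      Nat.beq (mul mW (getWord MT i)) (mul (getWord MT i) mW)) = true ∧
    (lineIdx.all fun i => Nat.blt i nMT) = true ∧ lineIdx.length = 3 ∧
    Nat.beq (mul (mul (getWord wQ (uBase.getD 2 0)) (getWord wQ (uBase.getD 3 0)))
      (getWord wQ (uBase.getD 4 0))) one = true := by decide +kernel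

theorem gl_conj {a c : ℕ} (ha : glGens.M.Mem a) (h : mul mW a = mul a c) :
    ((conjEl glGens uW a : GL12) : Mat12) = val c := by
  have e := congrArg val h
  rw [val_mul, val_mul, ← gl_el ha] at e
  rw [conjEl, Units.val_mul, Units.val_mul, mul_assoc, show (uW : Mat12) = val mW from rfl, e,
    ← mul_assoc, Units.inv_mul, one_mul]

/-- The matrices satisfy the sextet relations. -/
noncomputable def glW : WRel GL12 where
  toGens := glGens
  w := uW
  ww := Units.ext (by
    rw [Units.val_mul, show (uW : Mat12) = val mW from rfl, ← val_mul, gens_inv.2.2.2, val_one,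
      Units.val_one])
  comm := fun i hi => by
    have h := List.all_eq_true.1 gl_checks.1 i hi
    simp only [Bool.and_eq_true, Nat.blt_eq, Nat.beq_eq] at h
    apply Units.ext
    rw [Units.val_mul, Units.val_mul, show (uW : Mat12) = val mW from rfl, mtEl,
      gl_el (glGens.mem_MT h.1), ← val_mul, ← val_mul, h.2]
  line := by
    obtain ⟨-, hl, hlen, hprod⟩ := gl_checks
    obtain ⟨-, -, -, hb, -⟩ := wBase_ok
    have hk : ∀ k < 3, ((conjEl glGens uW (getWord MT (lineIdx.getD k 0)) : GL12) : Mat12) =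
        val (getWord wQ (uBase.getD (k + 2) 0)) := by
      intro k hk
      have hm : lineIdx.getD k 0 < nMT := by
        rw [List.getD_eq_getElem _ _ (by omega)]
        simpa [Nat.blt_eq] using List.all_eq_true.1 hl _ (List.getElem_mem _)
      have := List.all_eq_true.1 hb k (List.mem_range.2 hk)
      simp only [Bool.and_eq_true, Nat.blt_eq, Nat.beq_eq] at this
      exact gl_conj (glGens.mem_MT hm) this.2
    apply Units.ext
    rw [Units.val_mul, Units.val_mul, hk 0 (by omega), hk 1 (by omega), hk 2 (by omega), ← val_mul,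
      ← val_mul, Nat.eq_of_beq_eq_true hprod, val_one, Units.val_one]

namespace Gens

variable {G : Type*} [Group G] (g : Gens G)

/-- The pairs as a group with two generators. -/
def pairGens : Gens (GL12 × G) := ⟨g.pX, g.pY, g.pair_rel⟩

theorem pair_el {c : ℕ} (h : g.pairGens.M.Mem c) :
    g.pairGens.M.el c = (glGens.M.el c, g.M.el c) := by
  obtain ⟨p, hp, e⟩ := h
  let K : Subgroup (GL12 × (GL12 × G)) :=
    Subgroup.comap ((MonoidHom.fst GL12 (GL12 × G)).prod
        ((MonoidHom.fst GL12 G).comp (MonoidHom.snd GL12 (GL12 × G)))) glGens.D ⊓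
      Subgroup.comap ((MonoidHom.fst GL12 (GL12 × G)).prod
        ((MonoidHom.snd GL12 G).comp (MonoidHom.snd GL12 (GL12 × G)))) g.D
  have hK : g.pairGens.D ≤ K := by
    show Subgroup.closure {g.pairGens.pX, g.pairGens.pY} ≤ K
    rw [Subgroup.closure_le, Set.insert_subset_iff, Set.singleton_subset_iff]
    have ex : g.pairGens.pX = (uX, (uX, g.x)) := rfl
    have ey : g.pairGens.pY = (uY, (uY, g.y)) := rfl
    rw [ex, ey]
    refine ⟨Subgroup.mem_inf.2 ⟨?_, ?_⟩, Subgroup.mem_inf.2 ⟨?_, ?_⟩⟩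
    · exact glGens.pX_mem
    · exact g.pX_mem
    · exact glGens.pY_mem
    · exact g.pY_mem
  have hmap : ∀ q ∈ g.pairGens.D, (q.1, q.2.1) ∈ glGens.D ∧ (q.1, q.2.2) ∈ g.D :=
    fun q hq => hK hq
  obtain ⟨h1, h2⟩ := hmap p hp
  rw [g.pairGens.M.el_eq hp e, glGens.M.el_eq h1 e, g.M.el_eq h2 e]

end Gens

theorem conjEl_pair {G : Type*} [Group G] (g : Gens G) (u : GL12) (z : G) {c : ℕ}
    (h : g.pairGens.M.Mem c) :
    conjEl g.pairGens (u, z) c = (conjEl glGens u c, conjEl g z c) := by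
  rw [conjEl, g.pair_el h]; rfl

/-- The number of entries of the table. -/
noncomputable def nHT : ℕ := 4 + HTdefs.length

theorem HT_ok : checkTable HT 4 HTdefs = true ∧ getWord HT 0 = mX ∧ getWord HT 1 = mY ∧
    getWord HT 2 = mYi ∧ getWord HT 3 = mW ∧ checkLevels HT nHT [] HTlevels = true ∧
    (HTlevels.map fun L => L.2.length).prod = 501397585920 := by decide +kernel

namespace WRel

variable {G : Type*} [Group G] (R : WRel G)

/-- `w` with its matrix. -/
def pW : GL12 × G := (uW, R.w)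

/-- The pairs with their relations. -/
noncomputable def pairRel : WRel (GL12 × G) where
  toGens := R.toGens.pairGens
  w := R.pW
  ww := Prod.ext glW.ww R.ww
  comm := fun i hi => by
    have h := List.all_eq_true.1 gl_checks.1 i hi
    simp only [Bool.and_eq_true, Nat.blt_eq, Nat.beq_eq] at h
    rw [mtEl, R.toGens.pair_el (R.toGens.pairGens.mem_MT h.1)]
    exact Prod.ext (glW.comm i hi) (R.comm i hi)
  line := by
    obtain ⟨-, hl, hlen, -⟩ := gl_checks
    have hm : ∀ k < 3, R.toGens.pairGens.M.Mem (getWord MT (lineIdx.getD k 0)) := by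
      intro k hk
      refine R.toGens.pairGens.mem_MT ?_
      rw [List.getD_eq_getElem _ _ (by omega)]
      simpa [Nat.blt_eq] using List.all_eq_true.1 hl _ (List.getElem_mem _)
    show conjEl _ (uW, R.w) _ * conjEl _ (uW, R.w) _ * conjEl _ (uW, R.w) _ = 1
    rw [conjEl_pair _ _ _ (hm 0 (by omega)), conjEl_pair _ _ _ (hm 1 (by omega)),
      conjEl_pair _ _ _ (hm 2 (by omega))]
    exact Prod.ext glW.line R.line

/-- The pairs generated by `x, y, w`. -/
def DH : Subgroup (GL12 × G) := Subgroup.closure {R.pX, R.pY, R.pW}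

theorem card_DH : Nat.card R.DH ≠ 0 ∧ Nat.card R.DH ≤ 501397585920 := R.pairRel.card_closure_le

theorem gen_mem : ∀ i < 4, ∃ p ∈ R.DH, (p.1 : Mat12) = val (getWord HT i) := by
  obtain ⟨-, h0, h1, h2, h3, -⟩ := HT_ok
  have hx : R.pX ∈ R.DH := Subgroup.subset_closure (by simp)
  have hy : R.pY ∈ R.DH := Subgroup.subset_closure (by simp)
  have hw : R.pW ∈ R.DH := Subgroup.subset_closure (by simp)
  intro i hi
  interval_cases i
  · exact ⟨_, hx, by rw [h0]; rfl⟩
  · exact ⟨_, hy, by rw [h1]; rfl⟩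
  · exact ⟨_, inv_mem hy, by rw [h2]; rfl⟩
  · exact ⟨_, hw, by rw [h3]; rfl⟩

theorem HT_image : ∀ i < nHT, ∃ p ∈ R.DH, (p.1 : Mat12) = val (getWord HT i) :=
  checkTable_ind (P := fun c => ∃ p ∈ R.DH, (p.1 : Mat12) = val c) ⟨1, one_mem _, by simp [val_one]⟩
    (fun _ _ ⟨p, hp, e⟩ ⟨q, hq, e'⟩ => ⟨p * q, mul_mem hp hq, by simp [val_mul, e, e']⟩)
    HTdefs 4 HT_ok.1 R.gen_mem

theorem card_DH_eq : Nat.card R.DH = 501397585920 ∧
    ∀ p ∈ R.DH, p.1 = 1 → p.2 = 1 := by
  haveI : Finite R.DH := Nat.finite_of_card_ne_zero R.card_DH.1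
  let f : R.DH →* GL12 := (MonoidHom.fst GL12 G).comp R.DH.subtype
  have hlow : 501397585920 ≤ Nat.card f.range := by
    rw [← HT_ok.2.2.2.2.2.2]
    refine card_ge_of_levels f.range HT nHT HTlevels (fun i hi => ?_) HT_ok.2.2.2.2.2.1
    obtain ⟨p, hp, e⟩ := R.HT_image i hi
    exact ⟨f ⟨p, hp⟩, ⟨_, rfl⟩, e⟩
  have hs : Function.Surjective f.rangeRestrict := f.rangeRestrict_surjective
  have h1 : Nat.card f.range ≤ Nat.card R.DH := Nat.card_le_card_of_surjective _ hs
  have heq : Nat.card R.DH = 501397585920 := le_antisymm R.card_DH.2 (hlow.trans h1)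
  refine ⟨heq, fun p hp h => ?_⟩
  have hb : Function.Bijective f.rangeRestrict :=
    (Nat.bijective_iff_surjective_and_card _).2 ⟨hs, le_antisymm (heq ▸ hlow) h1⟩
  have : (⟨p, hp⟩ : R.DH) = 1 := hb.1 (Subtype.ext (by rw [map_one]; exact h))
  exact congrArg (fun q : R.DH => q.1.2) this

/-- The model on `x, y, w`. -/
def H : Model G := ⟨R.DH, R.card_DH_eq.2⟩

theorem mem_H {i : ℕ} (h : i < nHT) : R.H.Mem (getWord HT i) := R.HT_image i h

theorem M_le_H : R.toGens.D ≤ R.DH := Subgroup.closure_mono (by intro p hp; simp at hp ⊢; tauto)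

theorem mem_of_M {c : ℕ} (h : R.toGens.M.Mem c) : R.H.Mem c ∧ R.H.el c = R.toGens.M.el c := by
  obtain ⟨p, hp, e⟩ := h
  exact ⟨⟨p, R.M_le_H hp, e⟩, by rw [R.H.el_eq (R.M_le_H hp) e, R.toGens.M.el_eq hp e]⟩

theorem el_mW : R.H.el mW = R.w :=
  R.H.el_eq (Subgroup.subset_closure (by simp) : R.pW ∈ R.DH) rfl

end WRel

end Cfsg.Agent.Lib.J4Pres19
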