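import Cfsg.Agent.Lib.J4Pres19.Cover
import Cfsg.Agent.Lib.J4Cons78.Basic
import Cfsg.Agent.S1711

/-!
The presented group J4 satisfies the hypotheses of the enumeration.
-/

set_option autoImplicit false
set_option maxRecDepth 20000
set_option Elab.async false

namespace Cfsg.Agent.Lib.J4Pres19

open Cfsg Cfsg.Spor Cfsg.Agent.Lib.M24Pres Cfsg.Agent.Lib.CosetEnum

/-- The quotient map. -/
abbrev mkJ : FreeGroup J4.Gen →* Spor.J4 :=
  PresentedGroup.mk (coxRelators J4.edges ∪ {r | r ∈ J4.extra})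

theorem mkJ_extra {r : FreeGroup J4.Gen} (h : r ∈ J4.extra) : mkJ r = 1 :=
  PresentedGroup.one_of_mem (Or.inr h)

open Cfsg.Agent.S1711 in
theorem j4_R7 : ∀ r ∈ R7, wval (mkJ J4.x) (mkJ J4.y) r = 1 := by
  obtain ⟨hsrc, hlen, hx2⟩ := src_ok
  have hXX : mkJ J4.x * mkJ J4.x = 1 := by
    rw [← map_mul, ← pow_two]
    exact mkJ_extra hx2
  intro r hr
  obtain ⟨j, hj, rfl⟩ := List.mem_iff_getElem.1 hr
  have h := List.all_eq_true.1 hsrc j (List.mem_range.2 (hlen ▸ hj))
  simp only [Bool.and_eq_true, decide_eq_true_eq, List.all_eq_true, Nat.blt_eq] at h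
  obtain ⟨⟨hred, hlt⟩, hmem⟩ := h
  set w := J4.extra.getD (src.getD j 0) 1 with hw
  have hwe : w ∈ J4.extra := by
    rw [hw, List.getD_eq_getElem _ _ hmem]; exact List.getElem_mem _
  rw [← List.getD_eq_getElem R7 [] hj, wval, ← prod_red iv3 _ (lval_iv3 hXX _), hred,
    prod_red iv3 _ (lval_iv3 hXX _), List.map_map, ← mkJ_extra hwe]
  conv_rhs => rw [← FreeGroup.mk_toWord (x := w)]
  clear_value w
  clear hred hmem hw hwe
  revert hlt
  induction w.toWord with
  | nil => intro _; simp [← FreeGroup.one_eq_mk]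
  | cons p l ih =>
    intro hlt
    rw [List.map_cons, List.prod_cons, ih (fun q hq => hlt q (List.mem_cons_of_mem _ hq)),
      show FreeGroup.mk (p :: l) = FreeGroup.mk [p] * FreeGroup.mk l by simp, map_mul]
    congr 1
    have hp := hlt p List.mem_cons_self
    obtain ⟨g, b⟩ := p
    cases g <;> cases b
    · show mkJ J4.x = mkJ (FreeGroup.mk [(J4.Gen.x, false)])
      rw [show FreeGroup.mk [(J4.Gen.x, false)] = (J4.x)⁻¹ from rfl, map_inv]
      exact mul_eq_one_iff_eq_inv.1 hXX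
    · rfl
    · show (mkJ J4.y)⁻¹ = mkJ (FreeGroup.mk [(J4.Gen.y, false)])
      rw [show FreeGroup.mk [(J4.Gen.y, false)] = (J4.y)⁻¹ from rfl, map_inv]
    · rfl
    · exact absurd hp (by simp [lt])
    · exact absurd hp (by simp [lt])

/-- The generators `x` and `y` of the presented group. -/
noncomputable def j4Gens : Gens Spor.J4 := ⟨mkJ J4.x, mkJ J4.y, j4_R7⟩

theorem j4_tt : mkJ J4.t * mkJ J4.t = 1 := by
  rw [← map_mul, ← pow_two]
  exact mkJ_extra (by simp [J4.extra])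

theorem MT_tri : getWord MT 5 = wordCode [1, 0, 1, 0, 2, 0, 2, 0, 1, 0, 1, 0, 1] ∧
    getWord MT 0 = wordCode [0] ∧ chTGens = [0, 5] := by decide +kernel

theorem mtEl_word {i : ℕ} {l : List ℕ} (h : getWord MT i = wordCode l) :
    mtEl j4Gens i = wval (mkJ J4.x) (mkJ J4.y) l := by
  rw [mtEl, h]
  exact (j4Gens.mem_wordCode l).2

theorem commute_of_comm {G : Type*} [Group G] {t u : G} (h : t⁻¹ * u⁻¹ * t * u = 1) : Commute t u := by
  have h2 : t * u = u * t := by
    have := congrArg (fun z => u * t * z) h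
    simpa [mul_assoc] using this
  exact h2

theorem j4_comm : ∀ i ∈ chTGens, Commute (mkJ J4.t) (mtEl j4Gens i) := by
  obtain ⟨h5, h0, hl⟩ := MT_tri
  intro i hi
  rw [hl] at hi
  simp only [List.mem_cons, List.not_mem_nil, or_false] at hi
  rcases hi with rfl | rfl
  · rw [mtEl_word h0]
    apply commute_of_comm
    have := mkJ_extra (r := J4.t⁻¹ * J4.x⁻¹ * J4.t * J4.x) (by simp [J4.extra])
    simpa [wval, lval, map_mul, map_inv] using this
  · rw [mtEl_word h5]
    apply commute_of_comm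
    have e : mkJ (J4.y * J4.x * J4.y * ((J4.x * (J4.y⁻¹)) ^ 2) * ((J4.x * J4.y) ^ 3)) =
        wval (mkJ J4.x) (mkJ J4.y) [1, 0, 1, 0, 2, 0, 2, 0, 1, 0, 1, 0, 1] := by
      simp [wval, lval, map_mul, map_inv, map_pow, pow_succ, mul_assoc]
    rw [← e, ← map_inv, ← map_inv, ← map_mul, ← map_mul, ← map_mul]
    exact mkJ_extra (by simp [J4.extra])

theorem conjEl_word (z : Spor.J4) (l : List ℕ) :
    conjEl j4Gens z (wordCode l) =
      (wval (mkJ J4.x) (mkJ J4.y) l)⁻¹ * z * wval (mkJ J4.x) (mkJ J4.y) l := by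
  rw [conjEl, (j4Gens.mem_wordCode l).2]
  rfl

theorem j4_r1 : (j4Gens.y * conjEl j4Gens (mkJ J4.t) (wordCode wordU1)) ^ 3 = 1 := by
  rw [conjEl_word]
  have e : mkJ (J4.y * J4.x * (J4.y⁻¹) * J4.x * J4.y * J4.x * (J4.y⁻¹) * J4.x) =
      wval (mkJ J4.x) (mkJ J4.y) wordU1 := by
    simp [wordU1, wval, lval, map_mul, map_inv, mul_assoc]
  rw [← e, ← map_inv, ← map_mul, ← map_mul, show j4Gens.y = mkJ J4.y from rfl, ← map_mul, ← map_pow]
  exact mkJ_extra (by simp [J4.extra])

theorem wval_rep {G : Type*} [Group G] (x y : G) (l : List ℕ) (n : ℕ) :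
    wval x y (List.replicate n l).flatten = wval x y l ^ n := by
  induction n with
  | zero => simp [wval]
  | succ n ih =>
    rw [List.replicate_succ, List.flatten_cons, pow_succ', ← ih]
    simp [wval]

theorem wval_app {G : Type*} [Group G] (x y : G) (l l' : List ℕ) :
    wval x y (l ++ l') = wval x y l * wval x y l' := by simp [wval]

theorem j4_r2 : (j4Gens.M.el (wordCode wordS) * mkJ J4.t * conjEl j4Gens (mkJ J4.t) (wordCode wordU2)) ^ 2 = 1 := by
  rw [conjEl_word, (j4Gens.mem_wordCode wordS).2]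
  have e1 : mkJ ((J4.y * J4.x * J4.y * J4.x * J4.y * J4.x * J4.y) ^ 3) =
      wval (mkJ J4.x) (mkJ J4.y) wordS := by
    rw [wordS, wval_rep, map_pow]
    simp [wval, lval, map_mul, mul_assoc]
  have e2 : mkJ (((J4.x * J4.y) ^ 3) * J4.y * ((J4.x * J4.y) ^ 6) * J4.y) =
      wval (mkJ J4.x) (mkJ J4.y) wordU2 := by
    rw [wordU2, wval_app, wval_app, wval_app, wval_rep, wval_rep]
    simp [wval, lval, map_mul, map_pow, mul_assoc]
  show (wval (mkJ J4.x) (mkJ J4.y) wordS * _ * _) ^ 2 = 1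
  rw [← e1, ← e2, ← map_inv, ← map_mul, ← map_mul, ← map_mul, ← map_mul, ← map_pow]
  exact mkJ_extra (by simp [J4.extra])

/-- The presented group with the data of the enumeration. -/
noncomputable def j4R : TRel Spor.J4 where
  toGens := j4Gens
  t := mkJ J4.t
  tt := j4_tt
  comm := j4_comm
  r1 := j4_r1
  r2 := j4_r2

theorem j4_gen : j4R.Gen := by
  rw [TRel.Gen, eq_top_iff, ← PresentedGroup.closure_range_of, Subgroup.closure_le]
  rintro _ ⟨g, rfl⟩
  refine Subgroup.subset_closure ?_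
  cases g
  · exact Or.inl rfl
  · exact Or.inr (Or.inl rfl)
  · exact Or.inr (Or.inr rfl)

theorem finite_j4 : Finite Spor.J4 := j4R.finite_G j4_gen

theorem card_j4_le : Nat.card Spor.J4 ≤ 86775571046077562880 := j4R.card_le j4_gen

end Cfsg.Agent.Lib.J4Pres19
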