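import Cfsg.Agent.Lib.J4Pres19.Exact

/-!
Simplicity from maximality, trivial core, an abelian normal subgroup and perfectness.
-/

set_option autoImplicit false
set_option maxRecDepth 20000
set_option Elab.async false

namespace Cfsg.Agent.Lib.J4Pres19

open Cfsg Cfsg.Agent.Lib.CosetEnum Cfsg.Agent.Lib.M24Pres

/-- Pairs of keys with one common vector. -/
def coreData : List (ℕ × ℕ × ℕ) :=
  [(1, 2, 1), (5, 53, 2), (32, 52, 4), (21, 75, 8), (40, 68, 19), (13, 51, 32), (33, 59, 67),
    (48, 116, 128), (51, 58, 259), (211, 305, 515), (921, 935, 1030), (3798, 3799, 2049)]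

/-- The unit vectors as sums of the common vectors. -/
def coreSpan : List (List ℕ) :=
  [[0], [1], [2], [3], [0, 1, 4], [5], [0, 1, 6], [7], [0, 1, 8], [0, 1, 9], [1, 2, 10], [0, 11]]

theorem core_ok : (coreData.all fun q => Nat.blt q.1 15180 && Nat.blt q.2.1 15180 &&
      decide ((keyList (keyAt q.1)).filter (fun u => (keyList (keyAt q.2.1)).contains u) = [q.2.2]) &&
      (keyList (keyAt q.1)).all fun u => Nat.blt u 4096) = true ∧
    ((List.range 12).all fun i =>
      Nat.beq (((coreSpan.getD i []).map fun j => (coreData.getD j (0, 0, 0)).2.2).foldr Nat.xor 0)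
        (2 ^ i) && (coreSpan.getD i []).all fun j => Nat.blt j 12) = true := by decide +kernel

theorem vec_xor (a b : ℕ) : vec (a ^^^ b) = vec a + vec b := by
  funext j
  simp only [vec, Pi.add_apply, Nat.testBit_xor]
  cases a.testBit j.1 <;> cases b.testBit j.1 <;> simp [bit, ZModModule.add_self]

theorem vec_zero : vec 0 = 0 := by
  funext j; simp [vec, bit]

theorem vec_two_pow (i : Fin 12) : vec (2 ^ i.1) = Pi.single i 1 := by
  funext j
  simp only [vec, Nat.testBit_two_pow]
  by_cases h : i = j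
  · subst h; simp [bit]
  · rw [Pi.single_eq_of_ne (Ne.symm h), decide_eq_false (fun e => h (Fin.ext e))]; rfl

theorem vec_surj : Function.Surjective (fun v : Fin 4096 => vec v.1) := by
  have hi : Function.Injective (fun v : Fin 4096 => vec v.1) := fun a b h =>
    Fin.ext (vec_inj (by simpa using a.2) (by simpa using b.2) h)
  exact ((Fintype.bijective_iff_injective_and_card _).2 ⟨hi, by simp⟩).2

/-- The vector fixed by `<x, y, w>`. -/
noncomputable def eVec : Vec12 := vec 2048

theorem trans_ok : allBelow 4096 (fun v => Nat.beq (vmul v mW) v || Nat.beq (vmul v mW) (v ^^^ 2048)) = true ∧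
    Nat.beq (vmul 2048 mX) 2048 = true ∧ Nat.beq (vmul 2048 mY) 2048 = true ∧
    Nat.beq (vmul 2048 mW) 2048 = true := by decide +kernel

theorem mW_ne : ¬ vmul 1 mW = 1 ∧ ¬ getWord MT (thetaData.getD 2 0) = one := by decide +kernel

theorem R7_small : R7.getD 0 [] = [1, 1, 1] ∧ R7.getD 6 [] = [0, 0] ∧
    R7.getD 1 [] = (List.replicate 23 [0, 1]).flatten ∧ R7.length = 7 := by decide +kernel

theorem Gens.abelian_image {G H : Type*} [Group G] [Group H] (g : Gens G) (f : G →* H)
    (hc : Commute (f g.x) (f g.y)) : f g.x = 1 ∧ f g.y = 1 := by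
  obtain ⟨h0, h6, h1, hlen⟩ := R7_small
  have hr : ∀ k < 7, wval g.x g.y (R7.getD k []) = 1 := fun k hk => g.rel _ (by
    rw [List.getD_eq_getElem _ _ (by omega)]; exact List.getElem_mem _)
  have ey : f g.y ^ 3 = 1 := by
    have := congrArg f (hr 0 (by omega))
    rw [h0] at this
    simpa [wval, lval, pow_succ, mul_assoc] using this
  have ex : f g.x ^ 2 = 1 := by
    have := congrArg f (hr 6 (by omega))
    rw [h6] at this
    simpa [wval, lval, pow_succ] using this
  have exy : (f g.x * f g.y) ^ 23 = 1 := by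
    have := congrArg f (hr 1 (by omega))
    rw [h1] at this
    simpa [wval, lval, List.replicate, pow_succ, mul_assoc] using this
  rw [hc.mul_pow, show (23 : ℕ) = 2 * 11 + 1 from rfl, pow_succ, pow_mul, ex, one_pow, one_mul,
    show (2 * 11 + 1 : ℕ) = 3 * 7 + 2 from rfl, pow_add, pow_mul, ey, one_pow, one_mul] at exy
  have hx : f g.x = (f g.y ^ 2)⁻¹ := eq_inv_of_mul_eq_one_left exy
  have hy : f g.y = f g.x := by
    rw [hx]; exact eq_inv_of_mul_eq_one_left (by rw [← pow_succ']; exact ey)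
  have hy1 : f g.y = 1 := by
    have h3 := ey
    rw [pow_succ, hy, ex, one_mul] at h3
    exact hy.trans h3
  exact ⟨by rw [← hy]; exact hy1, hy1⟩

namespace TRel

variable {G : Type*} [Group G] (R : TRel G)

theorem r1_quot {H : Type*} [Group H] (f : G →* H) (hx : f R.x = 1) (hy : f R.y = 1) : f R.t = 1 := by
  have hw : ∀ l : List ℕ, f (wval R.x R.y l) = 1 := by
    intro l
    rw [wval_map]
    induction l with
    | nil => rfl
    | cons a l ih =>
      rw [show wval (f R.x) (f R.y) (a :: l) = lval (f R.x) (f R.y) a * wval (f R.x) (f R.y) l by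
        simp [wval], ih, mul_one, hx, hy]
      match a with
      | 0 => rfl
      | 1 => rfl
      | 2 => simp [lval]
      | _ + 3 => simp [lval]
  have h := congrArg f R.r1
  rw [map_pow, map_mul, hy, conjEl, (R.toGens.mem_wordCode wordU1).2, map_mul, map_mul, map_inv,
    hw, inv_one, one_mul, one_mul, mul_one, map_one, pow_succ, pow_two, ← map_mul f R.t R.t, R.tt,
    map_one, one_mul] at h
  exact h

/-- The translations. -/
noncomputable def V : Subgroup R.toWRel.DH where
  carrier := {a | vecAct eVec a.1.1 = eVec ∧ ∀ v, vecAct v a.1.1 = v ∨ vecAct v a.1.1 = v + eVec}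
  one_mem' := ⟨vecAct_one _, fun v => Or.inl (vecAct_one v)⟩
  mul_mem' := by
    rintro a b ⟨ha, ha'⟩ ⟨hb, hb'⟩
    refine ⟨by rw [show (a * b).1.1 = a.1.1 * b.1.1 from rfl, vecAct_mul, ha, hb], fun v => ?_⟩
    rw [show (a * b).1.1 = a.1.1 * b.1.1 from rfl, vecAct_mul]
    rcases ha' v with h | h <;> rw [h]
    · exact hb' v
    · rw [show vecAct (v + eVec) b.1.1 = vecAct v b.1.1 + eVec by
        rw [vecAct, Matrix.add_vecMul]; exact congrArg _ hb]
      rcases hb' v with h' | h' <;> rw [h']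
      · exact Or.inr rfl
      · exact Or.inl (by rw [add_assoc, ZModModule.add_self, add_zero])
  inv_mem' := by
    rintro a ⟨ha, ha'⟩
    have e : ∀ v, vecAct (vecAct v (a⁻¹).1.1) a.1.1 = v := fun v => by
      rw [← vecAct_mul, show (a⁻¹).1.1 * a.1.1 = 1 from inv_mul_cancel a.1.1, vecAct_one]
    refine ⟨?_, fun v => ?_⟩
    · conv_lhs => rw [← ha]
      rw [← vecAct_mul, show a.1.1 * (a⁻¹).1.1 = 1 from mul_inv_cancel a.1.1, vecAct_one]
    · rcases ha' (vecAct v (a⁻¹).1.1) with h | h <;> rw [e v] at h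
      · exact Or.inl h.symm
      · refine Or.inr ?_
        conv_rhs => rw [h, add_assoc, ZModModule.add_self, add_zero]

theorem DH_fix (a : R.toWRel.DH) : vecAct eVec a.1.1 = eVec := by
  obtain ⟨-, hx, hy, hw⟩ := trans_ok
  let K : Subgroup (GL12 × G) := (fixPt vecAct vecAct_one vecAct_mul eVec).comap (MonoidHom.fst GL12 G)
  have hK : R.toWRel.DH ≤ K := by
    rw [WRel.DH, Subgroup.closure_le]
    intro p hp
    simp only [Set.mem_insert_iff, Set.mem_singleton_iff] at hp
    rcases hp with rfl | rfl | rfl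
    · show vecAct (vec 2048) uX = vec 2048
      rw [vecAct_code (u := uX) rfl, Nat.eq_of_beq_eq_true hx]
    · show vecAct (vec 2048) uY = vec 2048
      rw [vecAct_code (u := uY) rfl, Nat.eq_of_beq_eq_true hy]
    · show vecAct (vec 2048) uW = vec 2048
      rw [vecAct_code (u := uW) rfl, Nat.eq_of_beq_eq_true hw]
  exact hK a.2

theorem V_normal : R.V.Normal := by
  refine ⟨fun a ⟨ha, ha'⟩ b => ⟨R.DH_fix _, fun v => ?_⟩⟩
  have e : (b * a * b⁻¹).1.1 = b.1.1 * a.1.1 * (b⁻¹).1.1 := rfl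
  have hv : vecAct (vecAct v b.1.1) (b⁻¹).1.1 = v := by
    rw [← vecAct_mul, show b.1.1 * (b⁻¹).1.1 = 1 from mul_inv_cancel b.1.1, vecAct_one]
  rw [e, vecAct_mul, vecAct_mul]
  rcases ha' (vecAct v b.1.1) with h | h <;> rw [h]
  · exact Or.inl hv
  · refine Or.inr ?_
    rw [vecAct, Matrix.add_vecMul]
    show vecAct _ _ + vecAct _ _ = _
    rw [hv, R.DH_fix b⁻¹]

theorem V_comm {a b : R.toWRel.DH} (ha : a ∈ R.V) (hb : b ∈ R.V) : Commute a b := by
  have h : ∀ v, vecAct v (a * b).1.1 = vecAct v (b * a).1.1 := by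
    intro v
    rw [show (a * b).1.1 = a.1.1 * b.1.1 from rfl, show (b * a).1.1 = b.1.1 * a.1.1 from rfl,
      vecAct_mul, vecAct_mul]
    have sh : ∀ c : R.toWRel.DH, c ∈ R.V → ∀ u,
        vecAct (u + eVec) c.1.1 = vecAct u c.1.1 + eVec := fun c hc u => by
      rw [vecAct, Matrix.add_vecMul]; exact congrArg _ hc.1
    rcases ha.2 v with h | h <;> rcases hb.2 v with h' | h' <;> simp [h, h', sh a ha, sh b hb, add_assoc]
  have e1 : (a * b).1.1 = (b * a).1.1 := by
    apply Units.ext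
    exact Matrix.ext_of_single_vecMul fun i => h _
  exact Subtype.ext (Prod.ext e1 (R.HM.eq_of_fst (a * b).2 (b * a).2 (congrArg Units.val e1)))

/-- The pair of `w`. -/
noncomputable def wPair : R.toWRel.DH := ⟨R.toWRel.pW, Subgroup.subset_closure (by simp)⟩

theorem w_mem_V : R.wPair ∈ R.V := by
  refine ⟨R.DH_fix _, fun v => ?_⟩
  obtain ⟨⟨k, hk⟩, rfl⟩ := vec_surj v
  show vecAct (vec k) uW = _ ∨ vecAct (vec k) uW = _
  rw [vecAct_code (u := uW) rfl]
  have h := allBelow_iff.1 trans_ok.1 k hk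
  rw [Bool.or_eq_true, Nat.beq_eq, Nat.beq_eq] at h
  rcases h with h | h
  · exact Or.inl (by rw [h])
  · exact Or.inr (by rw [h, vec_xor]; rfl)

/-- Their image in the group. -/
noncomputable def Vg : Subgroup G := R.V.map ((MonoidHom.snd GL12 G).comp R.toWRel.DH.subtype)

theorem Vg_le : R.Vg ≤ R.P := by
  rintro _ ⟨a, -, rfl⟩; exact R.snd_mem_P a

theorem Vg_conj {p v : G} (hp : p ∈ R.P) (hv : v ∈ R.Vg) : p * v * p⁻¹ ∈ R.Vg := by
  rw [Vg, Subgroup.mem_map] at hv ⊢
  obtain ⟨a, ha, rfl⟩ := hv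
  rw [P, Subgroup.mem_map] at hp
  obtain ⟨b, hb, rfl⟩ := hp
  obtain ⟨B, hB⟩ : ∃ B : R.toWRel.DH, B.1.2 = b.2 := ⟨⟨b, hb⟩, rfl⟩
  refine ⟨B * a * B⁻¹, R.V_normal.conj_mem a ha B, ?_⟩
  simp only [map_mul, map_inv, MonoidHom.comp_apply, Subgroup.coe_subtype, MonoidHom.coe_snd, hB]

variable {R} (hR : R.Full)
include hR

/-- No normal subgroup except the trivial one lies in `<x, y, w>`. -/
theorem Full.core {N : Subgroup G} [hN : N.Normal] (hle : N ≤ R.P) : N = ⊥ := by
  obtain ⟨hcd, hspan⟩ := core_ok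
  rw [Subgroup.eq_bot_iff_forall]
  intro n hn
  obtain ⟨p, hp, rfl⟩ := hle hn
  let a : R.toWRel.DH := ⟨p, hp⟩
  have hall : ∀ c < 15180, msAct (keyMs (keyAt c)) a.1.1 = keyMs (keyAt c) := by
    intro c hc
    obtain ⟨b, hb⟩ := R.orbit_lt c hc
    have hfix : R.pAct phiMs (b * a * b⁻¹) = phiMs := by
      refine (hR.stab_iff _).2 (hle ?_)
      have h := hN.conj_mem _ (hN.conj_mem _ hn b.1.2) R.t
      rw [R.tinv] at h
      exact h
    have h2 := congrArg (fun z => R.pAct z b) hfix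
    simp only [R.pAct_mul, hb] at h2
    rw [← R.pAct_mul (R.pAct (keyMs (keyAt c)) a), inv_mul_cancel, R.pAct_one] at h2
    exact h2
  let F : AddSubgroup Vec12 :=
    { carrier := {v | vecAct v a.1.1 = v}
      zero_mem' := Matrix.zero_vecMul _
      add_mem' := fun {u v} hu hv => by
        show vecAct (u + v) a.1.1 = u + v
        rw [vecAct, Matrix.add_vecMul]
        exact congrArg₂ _ hu hv
      neg_mem' := fun {u} hu => by
        show vecAct (-u) a.1.1 = -u
        rw [vecAct, Matrix.neg_vecMul]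
        exact congrArg _ hu }
  have hv : ∀ q ∈ coreData, vec q.2.2 ∈ F := by
    intro q hq
    have h := List.all_eq_true.1 hcd q hq
    simp only [Bool.and_eq_true, Nat.blt_eq, decide_eq_true_eq, List.all_eq_true] at h
    obtain ⟨⟨⟨hc, hd⟩, hfil⟩, hb⟩ := h
    have hmem : q.2.2 ∈ keyList (keyAt q.1) ∧ q.2.2 ∈ keyList (keyAt q.2.1) := by
      have := List.mem_filter.1 (hfil ▸ List.mem_singleton_self q.2.2)
      exact ⟨this.1, by simpa using this.2⟩
    have him : ∀ c, c < 15180 → q.2.2 ∈ keyList (keyAt c) →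
        ∃ u ∈ keyList (keyAt c), vec u = vecAct (vec q.2.2) a.1.1 := by
      intro c hc' hm
      have h1 : vecAct (vec q.2.2) a.1.1 ∈ msAct (keyMs (keyAt c)) a.1.1 :=
        Multiset.mem_map_of_mem _ (Multiset.mem_coe.2 (List.mem_map_of_mem hm))
      rw [hall c hc', keyMs, Multiset.mem_coe, List.mem_map] at h1
      exact h1
    obtain ⟨u, hu, eu⟩ := him q.1 hc hmem.1
    obtain ⟨u', hu', eu'⟩ := him q.2.1 hd hmem.2
    have hk' := allBelow_iff.1 keys_ok.2 q.2.1 hd
    simp only [keyOK, Bool.and_eq_true, List.all_eq_true, Nat.blt_eq] at hk'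
    have : u = u' := vec_inj (by simpa using hb u hu) (by simpa using hk'.1.2 u' hu') (eu.trans eu'.symm)
    have h2 : u ∈ (keyList (keyAt q.1)).filter (fun u => (keyList (keyAt q.2.1)).contains u) :=
      List.mem_filter.2 ⟨hu, by simpa [this] using hu'⟩
    rw [hfil, List.mem_singleton] at h2
    show vecAct (vec q.2.2) a.1.1 = vec q.2.2
    rw [← eu, h2]
  have hF : ∀ l : List ℕ, (∀ v ∈ l, vec v ∈ F) → vec (l.foldr Nat.xor 0) ∈ F := by
    intro l
    induction l with
    | nil => intro _; rw [List.foldr_nil, vec_zero]; exact F.zero_mem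
    | cons v l ih =>
      intro h
      show vec (v ^^^ l.foldr Nat.xor 0) ∈ F
      rw [vec_xor]
      exact F.add_mem (h v List.mem_cons_self) (ih fun u hu => h u (List.mem_cons_of_mem _ hu))
  have h1 : a.1.1 = 1 := by
    apply Units.ext
    refine Matrix.ext_of_single_vecMul fun i => ?_
    have h := List.all_eq_true.1 hspan i.1 (List.mem_range.2 i.2)
    simp only [Bool.and_eq_true, Nat.beq_eq, List.all_eq_true, Nat.blt_eq] at h
    have hm := hF ((coreSpan.getD i.1 []).map fun j => (coreData.getD j (0, 0, 0)).2.2) fun v hv' => by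
      obtain ⟨j, hj, rfl⟩ := List.mem_map.1 hv'
      have hjl : j < coreData.length := h.2 j hj
      rw [List.getD_eq_getElem _ _ hjl]
      exact hv _ (List.getElem_mem _)
    rw [h.1, vec_two_pow] at hm
    rw [Units.val_one, Matrix.vecMul_one]
    exact hm
  exact R.toWRel.card_DH_eq.2 p hp h1

theorem Full.top_of_w {W : Subgroup G} [hW : W.Normal] (hw : R.toWRel.w ∈ W) : W = ⊤ := by
  let f := QuotientGroup.mk' W
  have fw : f R.toWRel.w = 1 := (QuotientGroup.eq_one_iff _).2 hw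
  let m := getWord MT (thetaData.getD 2 0)
  obtain ⟨-, -, -, -, -, -, -, -, -, -, hth⟩ := LT_gens
  have hmM : R.toGens.M.Mem m := R.mem_nMT hth 2
  have hfm : f (R.toGens.M.el m) = 1 := by
    have hc : ∀ c, f (conjEl R.toGens R.w c) = 1 := fun c => by
      rw [conjEl, map_mul, map_mul, show f R.w = 1 from fw, mul_one, map_inv, inv_mul_cancel]
    have h := congrArg f R.theta
    rw [map_mul, map_mul, hc, mul_one, ← map_mul, R.tt, map_one, map_mul, hc, mul_one, mtEl] at h
    exact h.symm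
  obtain ⟨p, hp, hpe⟩ := hmM
  haveI : IsSimpleGroup M24 := Cfsg.Agent.Lib.Golay.isSimple_M24
  obtain ⟨e⟩ := R.toGens.equiv
  haveI : Nontrivial R.toGens.D :=
    ⟨⟨R.toGens.pX, R.toGens.pX_mem⟩, 1, fun h => R.toGens.pX_ne (congrArg Subtype.val h)⟩
  haveI : IsSimpleGroup R.toGens.D :=
    IsSimpleGroup.isSimpleGroup_of_surjective e.symm.toMonoidHom e.symm.surjective
  let g : R.toGens.D →* G ⧸ W := (f.comp (MonoidHom.snd GL12 G)).comp R.toGens.D.subtype
  have hmem : (⟨p, hp⟩ : R.toGens.D) ∈ g.ker := by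
    show f p.2 = 1
    rw [← R.toGens.M.el_eq hp hpe]
    exact hfm
  have hker : g.ker = ⊤ := ((inferInstance : g.ker.Normal).eq_bot_or_eq_top).resolve_left fun hbot => by
    rw [hbot, Subgroup.mem_bot] at hmem
    have h1 : p.1 = 1 := congrArg (fun q : R.toGens.D => q.1.1) hmem
    rw [h1, Units.val_one, ← val_one] at hpe
    exact mW_ne.2 (code_inj (by decide +kernel) (by decide +kernel) hpe).symm
  have hone : ∀ q, g q = 1 := fun q => MonoidHom.mem_ker.1 (by rw [hker]; exact Subgroup.mem_top q)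
  have fx : f R.x = 1 := hone ⟨R.toGens.pX, R.toGens.pX_mem⟩
  have fy : f R.y = 1 := hone ⟨R.toGens.pY, R.toGens.pY_mem⟩
  have ft := R.r1_quot f fx fy
  refine top_unique ?_
  rw [← hR.1, Subgroup.closure_le]
  intro z hz
  simp only [Set.mem_insert_iff, Set.mem_singleton_iff] at hz
  rcases hz with rfl | rfl | rfl
  · exact (QuotientGroup.eq_one_iff _).1 fx
  · exact (QuotientGroup.eq_one_iff _).1 fy
  · exact (QuotientGroup.eq_one_iff _).1 ft

theorem Full.w_ne : R.toWRel.w ≠ 1 := by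
  intro h
  have h' : R.wPair = 1 := hR.snd_inj h
  have hm : (uW : Mat12) = 1 := congrArg (fun a : R.toWRel.DH => (a.1.1 : Mat12)) h'
  have := vec_vmul 1 mW
  rw [show val mW = (uW : Mat12) from rfl, hm, Matrix.vecMul_one] at this
  exact mW_ne.1 (vec_inj (vmul_lt _ _) (by norm_num) this)

theorem Full.simple : IsSimpleGroup G := by
  haveI : Nontrivial G := ⟨R.toWRel.w, 1, hR.w_ne⟩
  refine { eq_bot_or_eq_top_of_normal := fun N hN => ?_ }
  rcases eq_or_ne N ⊥ with h | h
  · exact Or.inl h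
  right
  have hNP : ¬ N ≤ R.P := fun hle => h (hR.core hle)
  have htop : N ⊔ R.P = ⊤ := by
    rcases hR.maximal (N ⊔ R.P) le_sup_right with h' | h'
    · exact absurd (h' ▸ le_sup_left : N ≤ R.P) hNP
    · exact h'
  have hW : (N ⊔ R.Vg).Normal := by
    rw [← Subgroup.normalizer_eq_top_iff, eq_top_iff, ← htop, sup_le_iff]
    refine ⟨le_trans le_sup_left Subgroup.le_normalizer, fun p hp => ?_⟩
    rw [Subgroup.mem_normalizer_iff]
    have key : ∀ p ∈ R.P, ∀ z ∈ N ⊔ R.Vg, p * z * p⁻¹ ∈ N ⊔ R.Vg := by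
      intro p hp z hz
      have hle : N ⊔ R.Vg ≤ (N ⊔ R.Vg).comap (MulAut.conj p).toMonoidHom :=
        sup_le (fun n hn => Subgroup.mem_sup_left (hN.conj_mem n hn p))
          (fun v hv => Subgroup.mem_sup_right (R.Vg_conj hp hv))
      exact hle hz
    intro z
    refine ⟨key p hp z, fun hz => ?_⟩
    have := key p⁻¹ (inv_mem hp) _ hz
    simpa [mul_assoc] using this
  have hwW : R.toWRel.w ∈ N ⊔ R.Vg :=
    Subgroup.mem_sup_right ⟨R.wPair, R.w_mem_V, rfl⟩
  have hall : N ⊔ R.Vg = ⊤ := hR.top_of_w hwW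
  let f := QuotientGroup.mk' N
  have hcov : ∀ z : G, ∃ v ∈ R.Vg, f z = f v := by
    intro z
    obtain ⟨n, hn, v, hv, rfl⟩ := Subgroup.mem_sup_of_normal_left.1 (hall ▸ Subgroup.mem_top z)
    exact ⟨v, hv, by rw [map_mul, show f n = 1 from (QuotientGroup.eq_one_iff _).2 hn, one_mul]⟩
  have hc : Commute (f R.x) (f R.y) := by
    obtain ⟨_, ⟨a, ha, rfl⟩, e⟩ := hcov R.x
    obtain ⟨_, ⟨b, hb, rfl⟩, e'⟩ := hcov R.y
    rw [e, e']
    exact ((R.V_comm ha hb).map ((MonoidHom.snd GL12 G).comp R.toWRel.DH.subtype)).map f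
  obtain ⟨fx, fy⟩ := R.toGens.abelian_image f hc
  have ft := R.r1_quot f fx fy
  refine top_unique ?_
  rw [← hR.1, Subgroup.closure_le]
  intro z hz
  simp only [Set.mem_insert_iff, Set.mem_singleton_iff] at hz
  rcases hz with rfl | rfl | rfl
  · exact (QuotientGroup.eq_one_iff _).1 fx
  · exact (QuotientGroup.eq_one_iff _).1 fy
  · exact (QuotientGroup.eq_one_iff _).1 ft

end TRel

end Cfsg.Agent.Lib.J4Pres19
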