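import Cfsg.Agent.Lib.J4Pres19.Inst
import Cfsg.Agent.Lib.J4Pres19.Simple
import Cfsg.Agent.Lib.J4Rep.Lower
import Cfsg.Prelude.Def_Sporadic

/-!
The presented group J4 has order 86775571046077562880 and is simple, and its representation of
dimension 112 modulo 2 is faithful.
-/

set_option autoImplicit false

namespace Cfsg.Agent.Lib.J4Pres19

open Cfsg

theorem card_J4_ge : 86775571046077562880 ≤ Nat.card Spor.J4 := by
  haveI := finite_j4
  refine le_trans (Nat.le_of_dvd ?_ J4Rep.dvd_card_range)
    (Nat.card_le_card_of_surjective _ (J4Cons78.rep).rangeRestrict_surjective)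
  haveI : Finite (J4Cons78.rep).range := Finite.of_surjective _ (J4Cons78.rep).rangeRestrict_surjective
  exact Nat.card_pos

theorem j4_full : j4R.Full := ⟨j4_gen, card_J4_ge⟩

theorem card_J4 : Nat.card Spor.J4 = 86775571046077562880 := j4_full.card

theorem isSimple_J4 : IsSimpleGroup Spor.J4 := j4_full.simple

theorem isJ4_J4 : IsJ4 Spor.J4 := ⟨isSimple_J4, card_J4⟩

theorem rep_injective : Function.Injective J4Cons78.rep := J4Cons78.rep_injective isSimple_J4

/-- The group as a group of matrices of size 112 modulo 2. -/
noncomputable def equivRange : Spor.J4 ≃* (J4Cons78.rep).range :=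
  MonoidHom.ofInjective rep_injective

theorem card_range : Nat.card (J4Cons78.rep).range = 86775571046077562880 := by
  rw [← Nat.card_congr equivRange.toEquiv, card_J4]

theorem isJ4_range : IsJ4 (J4Cons78.rep).range := by
  haveI := isSimple_J4
  haveI : Nontrivial (J4Cons78.rep).range := equivRange.symm.toEquiv.nontrivial
  exact ⟨IsSimpleGroup.isSimpleGroup_of_surjective equivRange.toMonoidHom equivRange.surjective,
    card_range⟩

end Cfsg.Agent.Lib.J4Pres19
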