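import Cfsg.Agent.Lib.J4Pres19.Code
import Cfsg.Agent.Lib.CosetEnum.Prim

/-!
A subgroup of pairs (matrix, element) on which the matrix determines the element: elements of a group
named by matrix codes, and tables of codes built as products of earlier ones.
-/

set_option autoImplicit false

namespace Cfsg.Agent.Lib.J4Pres19

open Cfsg.Agent.Lib.CosetEnum

abbrev GL12 : Type := Mat12ˣ

/-- A group with its model. -/
structure Model (G : Type*) [Group G] where
  D : Subgroup (GL12 × G)
  inj : ∀ p ∈ D, p.1 = 1 → p.2 = 1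

namespace Model

variable {G : Type*} [Group G] (S : Model G)

/-- The code stands for an element. -/
def Mem (c : ℕ) : Prop := ∃ p ∈ S.D, (p.1 : Mat12) = val c

open Classical in
/-- The element with the given code. -/
noncomputable def el (c : ℕ) : G := if h : S.Mem c then h.choose.2 else 1

theorem eq_of_fst {p q : GL12 × G} (hp : p ∈ S.D) (hq : q ∈ S.D) (h : (p.1 : Mat12) = q.1) :
    p.2 = q.2 := by
  have h1 : p.1 = q.1 := Units.ext h
  have := S.inj (p * q⁻¹) (S.D.mul_mem hp (S.D.inv_mem hq)) (by simp [h1])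
  exact mul_inv_eq_one.1 (by simpa using this)

theorem el_eq {c : ℕ} {p : GL12 × G} (hp : p ∈ S.D) (h : (p.1 : Mat12) = val c) :
    S.el c = p.2 := by
  have hc : S.Mem c := ⟨p, hp, h⟩
  rw [el, dif_pos hc]
  exact S.eq_of_fst hc.choose_spec.1 hp (hc.choose_spec.2.trans h.symm)

theorem mem_one : S.Mem one := ⟨1, S.D.one_mem, by simp [val_one]⟩

theorem el_one : S.el one = 1 := S.el_eq S.D.one_mem (by simp [val_one])

variable {S}

theorem Mem.mul {a b : ℕ} (ha : S.Mem a) (hb : S.Mem b) : S.Mem (J4Pres19.mul a b) := by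
  obtain ⟨p, hp, h1⟩ := ha
  obtain ⟨q, hq, h2⟩ := hb
  exact ⟨p * q, S.D.mul_mem hp hq, by simp [val_mul, h1, h2]⟩

theorem el_mul {a b : ℕ} (ha : S.Mem a) (hb : S.Mem b) :
    S.el (J4Pres19.mul a b) = S.el a * S.el b := by
  obtain ⟨p, hp, h1⟩ := ha
  obtain ⟨q, hq, h2⟩ := hb
  rw [S.el_eq hp h1, S.el_eq hq h2, S.el_eq (S.D.mul_mem hp hq) (by simp [val_mul, h1, h2])]
  rfl

/-- The unit of a code. -/
theorem Mem.unit {a : ℕ} (ha : S.Mem a) : ∃ u : GL12, (u : Mat12) = val a := by
  obtain ⟨p, -, h⟩ := ha
  exact ⟨p.1, h⟩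

theorem el_inv {a b : ℕ} (ha : S.Mem a) (hb : S.Mem b) (h : J4Pres19.mul a b = one) :
    S.el b = (S.el a)⁻¹ :=
  eq_inv_of_mul_eq_one_right (by rw [← el_mul ha hb, h, el_one])

end Model

/-- The product of a list of entries of a table. -/
noncomputable def evalW (C : PTree) : List ℕ → ℕ
  | [] => one
  | a :: l => mul (getWord C a) (evalW C l)

/-- All entries of a word are below a bound. -/
noncomputable def below (n : ℕ) (l : List ℕ) : Bool := l.all fun a => Nat.blt a n

/-- Each entry of the table from `n` on is the product of the given earlier entries. -/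
noncomputable def checkTable (C : PTree) : ℕ → List (List ℕ) → Bool
  | _, [] => true
  | n, d :: ds => below n d && Nat.beq (getWord C n) (evalW C d) && checkTable C (n + 1) ds

theorem evalW_ind {C : PTree} {P : ℕ → Prop} (h1 : P one)
    (hm : ∀ a b, P a → P b → P (mul a b)) {n : ℕ} (h : ∀ i < n, P (getWord C i)) :
    ∀ l, below n l = true → P (evalW C l) := by
  intro l
  induction l with
  | nil => intro _; exact h1
  | cons a l ih =>
    intro hl
    simp only [below, List.all_cons, Bool.and_eq_true, Nat.blt_eq] at hl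
    exact hm _ _ (h a hl.1) (ih hl.2)

theorem checkTable_ind {C : PTree} {P : ℕ → Prop} (h1 : P one)
    (hm : ∀ a b, P a → P b → P (mul a b)) :
    ∀ (ds : List (List ℕ)) (n : ℕ), checkTable C n ds = true → (∀ i < n, P (getWord C i)) →
      ∀ i < n + ds.length, P (getWord C i) := by
  intro ds
  induction ds with
  | nil => intro n _ h i hi; exact h i (by simpa using hi)
  | cons d ds ih =>
    intro n hc h i hi
    simp only [checkTable, Bool.and_eq_true, Nat.beq_eq] at hc
    refine ih (n + 1) hc.2 ?_ i (by simp only [List.length_cons] at hi; omega)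
    intro j hj
    rcases Nat.lt_succ_iff_lt_or_eq.1 hj with hj | rfl
    · exact h j hj
    · rw [hc.1.2]; exact evalW_ind h1 hm h d hc.1.1

theorem Model.mem_table {G : Type*} [Group G] {S : Model G} {C : PTree} {n : ℕ} {ds : List (List ℕ)}
    (hc : checkTable C n ds = true) (h : ∀ i < n, S.Mem (getWord C i)) :
    ∀ i < n + ds.length, S.Mem (getWord C i) :=
  checkTable_ind S.mem_one (fun _ _ => Model.Mem.mul) ds n hc h

theorem Model.mem_evalW {G : Type*} [Group G] {S : Model G} {C : PTree} {n : ℕ}
    (h : ∀ i < n, S.Mem (getWord C i)) {l : List ℕ} (hl : below n l = true) : S.Mem (evalW C l) :=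
  evalW_ind S.mem_one (fun _ _ => Model.Mem.mul) h l hl

/-- The unit with a code and the code of its inverse. -/
def unitOf (a b : ℕ) (h : mul a b = one) (h' : mul b a = one) : GL12 :=
  ⟨val a, val b, by rw [← val_mul, h, val_one], by rw [← val_mul, h', val_one]⟩

end Cfsg.Agent.Lib.J4Pres19
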