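import Cfsg.Agent.Lib.J4Pres19.Pts

/-!
The checks of a node: its stabiliser and the splitting of the orbit of keys into its suborbits.
-/

set_option autoImplicit false
set_option maxRecDepth 20000
set_option Elab.async false

namespace Cfsg.Agent.Lib.J4Pres19

open Cfsg.Agent.Lib.CosetEnum

/-- A generator of the stabiliser of a node. -/
noncomputable def checkNodeGen (i : ℕ) (d : NData) (k : ℕ) : Bool :=
  Nat.blt (d.gens.getD k 0) nHT &&
  Nat.beq (getWord d.T k) (getWord HT (d.gens.getD k 0)) &&
  match facts[d.gfact.getD k 0]? with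
  | some x => Nat.beq x.i i && Nat.beq x.a (d.gens.getD k 0) && Nat.beq x.e 0 && Nat.beq x.j i &&
      Nat.beq (getWord HT x.b) one
  | none => false

/-- The source and the target of a case. -/
noncomputable def caseEnds (x : DFact) (rev : Bool) : (ℕ × ℕ) × (ℕ × ℕ) :=
  (bif rev then (x.j, x.b) else (x.i, x.a), bif rev then (x.i, x.a) else (x.j, x.b))

/-- A case: a key moved to the trio functionals, and the coset it leads to. -/
noncomputable def checkCase (i : ℕ) (c : ℕ × ℕ × Bool) : Bool :=
  match facts[c.2.1]? with
  | some x => Nat.beq x.e 1 && Nat.beq (caseEnds x c.2.2).1.1 i && Nat.blt (caseEnds x c.2.2).2.1 7 &&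
      ((keyList (keyAt c.1)).map fun v => vmul v (getWord HT (caseEnds x c.2.2).1.2)).isPerm phi0
  | none => false

/-- A link of a node. -/
noncomputable def nodeOK (d : NData) (c p k : ℕ) : Bool :=
  bif Nat.beq p 0 then Nat.blt k d.cases.length && Nat.beq (d.cases.getD k (0, 0, false)).1 c
  else Nat.blt k d.gens.length &&
    keyImg (keyAt (p - 1)) (getWord HT (d.gens.getD k 0)) (keyAt c)

/-- A node. -/
noncomputable def checkNode (i : ℕ) (d : NData) : Bool :=
  ((List.range d.gens.length).all (checkNodeGen i d)) &&
  checkTable d.T d.gens.length d.defs &&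
  checkLevels d.T (d.gens.length + d.defs.length) [] d.levels &&
  Nat.beq ((d.levels.map fun L => L.2.length).prod) d.size && Nat.blt 0 d.size &&
  d.cases.all (checkCase i) &&
  linksFull (nodeOK d) d.links 15180

end Cfsg.Agent.Lib.J4Pres19
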