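import Cfsg.Agent.Lib.J4Pres19.DataN5
import Cfsg.Agent.Lib.J4Pres19.NodeCheck

/-!
Node 5 passes its checks.
-/

set_option autoImplicit false
set_option maxRecDepth 20000
set_option Elab.async false

namespace Cfsg.Agent.Lib.J4Pres19

open Cfsg.Agent.Lib.CosetEnum

theorem node5_ok : checkNode 5 nodeData5 = true := by decide +kernel

end Cfsg.Agent.Lib.J4Pres19
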