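import Cfsg.Agent.Lib.J4Pres19.NodeChk0
import Cfsg.Agent.Lib.J4Pres19.NodeChk1
import Cfsg.Agent.Lib.J4Pres19.NodeChk2
import Cfsg.Agent.Lib.J4Pres19.NodeChk3
import Cfsg.Agent.Lib.J4Pres19.NodeChk4
import Cfsg.Agent.Lib.J4Pres19.NodeChk5
import Cfsg.Agent.Lib.J4Pres19.NodeChk6
import Cfsg.Agent.Lib.J4Pres19.FactsChk

/-!
The certificate passes its checks.
-/

set_option autoImplicit false
set_option maxRecDepth 20000
set_option Elab.async false

namespace Cfsg.Agent.Lib.J4Pres19

open Cfsg.Agent.Lib.CosetEnum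

/-- The nodes. -/
noncomputable def nodeDatas : List NData :=
  [nodeData0, nodeData1, nodeData2, nodeData3, nodeData4, nodeData5, nodeData6]

theorem nodes_ok : ∀ i, ∀ h : i < nodeDatas.length, checkNode i nodeDatas[i] = true := by
  intro i h
  rcases i with _ | _ | _ | _ | _ | _ | _ | i
  · exact node0_ok
  · exact node1_ok
  · exact node2_ok
  · exact node3_ok
  · exact node4_ok
  · exact node5_ok
  · exact node6_ok
  · exact absurd h (by simp only [nodeDatas, List.length_cons, List.length_nil]; omega)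

theorem sizes_ok : nodeDatas.map (fun d => d.size) =
    [501397585920, 33030144, 17694720, 147456, 15360, 9216, 6072] ∧
    (facts.getD (trees.getD 0 0) ⟨0, 0, 0, 0, 0, 0, 0, []⟩).i = 0 ∧
    (facts.getD (trees.getD 0 0) ⟨0, 0, 0, 0, 0, 0, 0, []⟩).a = 4 := by decide +kernel

end Cfsg.Agent.Lib.J4Pres19
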