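import Cfsg.Agent.Lib.J4Pres19.Chain

/-!
Conjugates of an element centralised by a point stabiliser are named by the points.
-/

set_option autoImplicit false

namespace Cfsg.Agent.Lib.J4Pres19

open Cfsg.Agent.Lib.CosetEnum

theorem code_inj {a b : ℕ} (ha : a < 2 ^ 144) (hb : b < 2 ^ 144) (h : val a = val b) : a = b := by
  apply Nat.eq_of_testBit_eq
  intro j
  rcases lt_or_ge j 144 with hj | hj
  · have e := congrArg (fun n => n.testBit (j % 12)) (lane_congr h (show j / 12 < 12 by omega))
    simpa only [testBit_lane, decide_eq_true (Nat.mod_lt j (show 12 > 0 by norm_num)), Bool.true_and,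
      Nat.div_add_mod] using e
  · rw [Nat.testBit_lt_two_pow (lt_of_lt_of_le ha (Nat.pow_le_pow_right (by norm_num) hj)),
      Nat.testBit_lt_two_pow (lt_of_lt_of_le hb (Nat.pow_le_pow_right (by norm_num) hj))]

/-- The values increase. -/
noncomputable def incrT (T : PTree) (n : ℕ) : Bool :=
  allBelow (n - 1) fun i => Nat.blt (getWord T i) (getWord T (i + 1))

theorem incrT_lt {T : PTree} {n : ℕ} (h : incrT T n = true) {i j : ℕ} (hij : i < j) (hj : j < n) :
    getWord T i < getWord T j := by
  rw [incrT, allBelow_iff] at h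
  induction j with
  | zero => omega
  | succ j ih =>
    have h1 : getWord T j < getWord T (j + 1) := by simpa [Nat.blt_eq] using h j (by omega)
    rcases Nat.lt_succ_iff_lt_or_eq.1 hij with h2 | rfl
    · exact (ih h2 (by omega)).trans h1
    · exact h1

variable {G : Type*} [Group G] (g : Gens G) {P : Type*} (act : P → GL12 → P)
  (hone : ∀ p, act p 1 = p) (hmul : ∀ p a b, act p (a * b) = act (act p a) b)

/-- A conjugate. -/
noncomputable def conjEl (z : G) (c : ℕ) : G := (g.M.el c)⁻¹ * z * g.M.el c

/-- The pair named by a code. -/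
theorem exists_pair {c : ℕ} (h : g.M.Mem c) :
    ∃ p : g.D, (p.1.1 : Mat12) = val c ∧ p.1.2 = g.M.el c := by
  obtain ⟨p, hp, he⟩ := h
  exact ⟨⟨p, hp⟩, he, (g.M.el_eq hp he).symm⟩

/-- What the orbit check gives. -/
structure OrbitFacts (z : G) (p0 : P) (n : ℕ) (T : PTree) : Prop where
  congr : ∀ a b, g.M.Mem a → g.M.Mem b → ∀ u v : GL12, (u : Mat12) = val a → (v : Mat12) = val b →
    act p0 u = act p0 v → conjEl g z a = conjEl g z b
  cover : ∀ a, g.M.Mem a → ∃ i < n, ∀ u v : GL12, (u : Mat12) = val a →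
    (v : Mat12) = val (getWord T i) → act p0 u = act p0 v

include hone hmul in
theorem orbitFacts (z : G) (p0 : P) (gens : List ℕ) (hmem : ∀ c ∈ gens, g.M.Mem c)
    (hfix : ∀ c ∈ gens, ∀ u : GL12, (u : Mat12) = val c → act p0 u = p0)
    (hcomm : ∀ c ∈ gens, Commute z (g.M.el c))
    (C : PTree) (ds : List (List ℕ)) (ls : List (ℕ × List ℕ))
    (hgen : ((List.range gens.length).all fun i => Nat.beq (getWord C i) (gens.getD i 0)) = true)
    (hC : checkTable C gens.length ds = true)
    (hls : checkLevels C (gens.length + ds.length) [] ls = true)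
    (N : ℕ) (hN : N ≤ (ls.map fun L => L.2.length).prod)
    (n : ℕ) (T : PTree) (hn : 0 < n) (hnN : 244823040 ≤ n * N)
    (hT : ∀ i < n, g.M.Mem (getWord T i))
    (hd : ∀ i j, i < j → j < n → ∀ u v : GL12, (u : Mat12) = val (getWord T i) →
      (v : Mat12) = val (getWord T j) → act p0 u ≠ act p0 v) :
    OrbitFacts g act z p0 n T := by
  classical
  haveI : Finite g.D := g.finite_D
  let act' : P → g.D → P := fun p a => act p a.1.1
  have h1 : ∀ p, act' p 1 = p := fun p => hone p
  have h2 : ∀ p a b, act' p (a * b) = act' (act' p a) b := fun p a b => hmul p a.1.1 b.1.1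
  let π : g.D →* G := (MonoidHom.snd GL12 G).comp g.D.subtype
  let φ : g.D →* GL12 := (MonoidHom.fst GL12 G).comp g.D.subtype
  let K : Subgroup g.D := Subgroup.closure {a | ∃ c ∈ gens, (a.1.1 : Mat12) = val c}
  have hKfix : ∀ a ∈ K, act' p0 a = p0 := by
    intro a ha
    have : K ≤ fixPt act' h1 h2 p0 := by
      rw [Subgroup.closure_le]
      rintro a ⟨c, hc, e⟩
      exact hfix c hc _ e
    exact this ha
  have hKz : ∀ a ∈ K, Commute z (π a) := by
    intro a ha
    induction ha using Subgroup.closure_induction with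
    | mem a ha =>
      obtain ⟨c, hc, e⟩ := ha
      have : π a = g.M.el c := (g.M.el_eq a.2 e).symm
      rw [this]; exact hcomm c hc
    | one => simp
    | mul a b _ _ ha hb => rw [map_mul]; exact ha.mul_right hb
    | inv a _ ha => rw [map_inv]; exact ha.inv_right
  have hNK : N ≤ Nat.card K := by
    refine hN.trans (le_trans (card_ge_of_levels (K.map φ) C (gens.length + ds.length) ls ?_ hls) ?_)
    · refine checkTable_ind (P := fun c => ∃ u ∈ K.map φ, (u : Mat12) = val c) ⟨1, one_mem _, by simp [val_one]⟩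
        (fun a b ha hb => ?_) ds gens.length hC ?_
      · obtain ⟨u, hu, e1⟩ := ha
        obtain ⟨v, hv, e2⟩ := hb
        exact ⟨u * v, mul_mem hu hv, by rw [Units.val_mul, e1, e2, val_mul]⟩
      · intro i hi
        rw [Nat.eq_of_beq_eq_true (List.all_eq_true.1 hgen i (List.mem_range.2 hi)),
          List.getD_eq_getElem _ _ hi]
        obtain ⟨p, he, -⟩ := exists_pair g (hmem _ (List.getElem_mem hi))
        exact ⟨φ p, Subgroup.mem_map_of_mem φ (Subgroup.subset_closure ⟨_, List.getElem_mem hi, he⟩), he⟩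
    · exact Nat.card_le_card_of_surjective (fun a : K => (⟨φ a.1, Subgroup.mem_map_of_mem φ a.2⟩ : K.map φ))
        (fun ⟨u, hu⟩ => by obtain ⟨a, ha, rfl⟩ := hu; exact ⟨⟨a, ha⟩, rfl⟩)
  -- orbit elements
  have hex : ∀ i : Fin n, ∃ a : g.D, (a.1.1 : Mat12) = val (getWord T i.1) := fun i => by
    obtain ⟨p, he, -⟩ := exists_pair g (hT i.1 i.2)
    exact ⟨p, he⟩
  let l : List g.D := List.ofFn fun i : Fin n => (hex i).choose
  have hlen : l.length = n := by simp [l]
  have hinj : Function.Injective (fun i : Fin n => act' p0 (hex i).choose) := by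
    intro i j e
    by_contra hne
    rcases lt_or_gt_of_ne (fun h => hne (Fin.ext h)) with h | h
    · exact hd _ _ h j.2 _ _ (hex i).choose_spec (hex j).choose_spec e
    · exact hd _ _ h i.2 _ _ (hex j).choose_spec (hex i).choose_spec e.symm
  have hnd : (l.map fun a => act' p0 a).Nodup := by
    simp only [l, List.map_ofFn]
    exact List.nodup_ofFn.2 hinj
  have hcard : Nat.card g.D ≤ l.length * Nat.card K := by
    rw [hlen, g.card_D]
    exact hnN.trans (Nat.mul_le_mul_left n hNK)
  have hle : fixPt act' h1 h2 p0 ≤ K := fixPt_le act' h1 h2 K p0 hKfix l hnd hcard (by omega)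
  constructor
  · intro a b ha hb u v hu hv e
    obtain ⟨p, hp1, hp2⟩ := exists_pair g ha
    obtain ⟨q, hq1, hq2⟩ := exists_pair g hb
    obtain rfl : u = p.1.1 := Units.ext (hu.trans hp1.symm)
    obtain rfl : v = q.1.1 := Units.ext (hv.trans hq1.symm)
    have := conj_eq_of_act_eq act' h1 h2 π z K p0 hle hKz (g := p) (h := q) e
    simpa only [conjEl, π, MonoidHom.comp_apply, Subgroup.coe_subtype, MonoidHom.coe_snd, hp2, hq2]
      using this
  · intro a ha
    obtain ⟨p, hp1, -⟩ := exists_pair g ha
    by_contra hno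
    push Not at hno
    have hnd' : ((p :: l).map fun a => id (act' p0 a)).Nodup := by
      simp only [id_eq, List.map_cons, List.nodup_cons]
      refine ⟨?_, hnd⟩
      intro hm
      simp only [List.mem_map, l, List.mem_ofFn] at hm
      obtain ⟨x, ⟨i, rfl⟩, e⟩ := hm
      obtain ⟨u, v, hu, hv, hne⟩ := hno i.1 i.2
      apply hne
      obtain rfl : u = p.1.1 := Units.ext (hu.trans hp1.symm)
      obtain rfl : v = (hex i).choose.1.1 := Units.ext (hv.trans (hex i).choose_spec.symm)
      exact e.symm
    have h3 := card_step act' h1 h2 ⊤ K p0 id le_top hKfix (p :: l) (fun _ _ => trivial) hnd'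
    rw [Subgroup.card_top, List.length_cons] at h3
    have h4 : 0 < Nat.card K := Nat.card_pos
    have := h3.trans hcard
    rw [Nat.add_mul] at this
    omega

end Cfsg.Agent.Lib.J4Pres19
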