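import Cfsg.Agent.Lib.J4Pres19.Tables

/-!
The actions: conjugation of units, and images of multisets of vectors.
-/

set_option autoImplicit false

namespace Cfsg.Agent.Lib.J4Pres19

open Cfsg.Agent.Lib.CosetEnum

/-- Conjugation as a right action. -/
def conjAct (p u : GL12) : GL12 := u⁻¹ * p * u

theorem conjAct_one (p : GL12) : conjAct p 1 = p := by simp [conjAct]

theorem conjAct_mul (p a b : GL12) : conjAct p (a * b) = conjAct (conjAct p a) b := by
  simp [conjAct, mul_assoc]

/-- The action on multisets of vectors. -/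
def msAct (p : Multiset Vec12) (u : GL12) : Multiset Vec12 := p.map fun v => vecAct v u

theorem msAct_one (p : Multiset Vec12) : msAct p 1 = p := by simp [msAct, vecAct_one]

theorem msAct_mul (p : Multiset Vec12) (a b : GL12) : msAct p (a * b) = msAct (msAct p a) b := by
  simp [msAct, vecAct_mul, Multiset.map_map]

theorem conjAct_eq {p u q : GL12} {z a c : ℕ} (hp : (p : Mat12) = val z) (hu : (u : Mat12) = val a)
    (hq : (q : Mat12) = val c) (h : mul z a = mul a c) : conjAct p u = q := by
  have : p * u = u * q := Units.ext (by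
    rw [Units.val_mul, Units.val_mul, hp, hu, hq, ← val_mul, ← val_mul, h])
  rw [conjAct, mul_assoc, this, inv_mul_cancel_left]

/-- Different coded targets give different conjugates. -/
theorem checkConj_spec {z : ℕ} {T Q : PTree} {n : ℕ} (h : checkConj z T Q n = true) {p : GL12}
    (hp : (p : Mat12) = val z) :
    (∀ i < n, mul z (getWord T i) = mul (getWord T i) (getWord Q i)) ∧
    ∀ i j, i < j → j < n → ∀ u v : GL12, (u : Mat12) = val (getWord T i) →
      (v : Mat12) = val (getWord T j) → conjAct p u ≠ conjAct p v := by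
  simp only [checkConj, Bool.and_eq_true, allBelow_iff, Nat.blt_eq, Nat.beq_eq] at h
  obtain ⟨hinc, hall⟩ := h
  refine ⟨fun i hi => (hall i hi).2, fun i j hij hj u v hu hv e => ?_⟩
  have hQ : ∀ k, k < n → ∀ w : GL12, (w : Mat12) = val (getWord T k) →
      ((conjAct p w : GL12) : Mat12) = val (getWord Q k) := by
    intro k hk w hw
    have h1 := congrArg val (hall k hk).2
    rw [val_mul, val_mul, ← hp, ← hw] at h1
    rw [conjAct, Units.val_mul, Units.val_mul, mul_assoc, h1, ← mul_assoc, ← Units.val_mul,
      inv_mul_cancel, Units.val_one, one_mul]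
  have h1 := hQ i (hij.trans hj) u hu
  rw [e, hQ j hj v hv] at h1
  have := code_inj (hall j hj).1 (hall i (hij.trans hj)).1 h1
  have := incrT_lt hinc hij hj
  omega

/-- The multiset of a key. -/
def keyMs (k : ℕ) : Multiset Vec12 := ((keyList k).map vec : List Vec12)

theorem msAct_phi0 {u : GL12} {c : ℕ} (h : (u : Mat12) = val c) :
    msAct ((phi0.map vec : List Vec12)) u = ((phi0.map fun v => vmul v c).map vec : List Vec12) := by
  rw [msAct, Multiset.map_coe, List.map_map, List.map_map]
  congr 1
  refine List.map_congr_left fun v _ => ?_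
  exact vecAct_code h v

theorem checkTrio_spec {T Q : PTree} {n : ℕ} (h : checkTrio T Q n = true) :
    (∀ i < n, ∀ u : GL12, (u : Mat12) = val (getWord T i) →
      msAct ((phi0.map vec : List Vec12)) u = keyMs (getWord Q i)) ∧
    ∀ i j, i < j → j < n → keyMs (getWord Q i) ≠ keyMs (getWord Q j) := by
  simp only [checkTrio, Bool.and_eq_true, allBelow_iff, List.all_eq_true, Nat.blt_eq, Nat.beq_eq] at h
  obtain ⟨hinc, hall⟩ := h
  refine ⟨fun i hi u hu => ?_, fun i j hij hj e => ?_⟩
  · rw [msAct_phi0 hu, keyMs, Multiset.coe_eq_coe]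
    exact (List.isPerm_iff.1 (hall i hi).2).map vec
  · obtain ⟨⟨⟨si, bi⟩, ki⟩, -⟩ := hall i (hij.trans hj)
    obtain ⟨⟨⟨sj, bj⟩, kj⟩, -⟩ := hall j hj
    have hp : ((keyList (getWord Q i)).map vec).Perm ((keyList (getWord Q j)).map vec) :=
      Multiset.coe_eq_coe.1 e
    have hperm : (keyList (getWord Q i)).Perm (keyList (getWord Q j)) := by
      refine (List.perm_ext_iff_of_nodup (incr_nodup _ si).1 (incr_nodup _ sj).1).2 fun a => ?_
      constructor
      · intro ha
        obtain ⟨b, hb, eb⟩ := List.mem_map.1 (hp.mem_iff.1 (List.mem_map_of_mem ha))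
        rwa [vec_inj (by simpa using bi a ha) (by simpa using bj b hb) eb.symm]
      · intro ha
        obtain ⟨b, hb, eb⟩ := List.mem_map.1 (hp.mem_iff.2 (List.mem_map_of_mem ha))
        rwa [vec_inj (by simpa using bj a ha) (by simpa using bi b hb) eb.symm]
    have heq : keyList (getWord Q i) = keyList (getWord Q j) := by
      have sorted : ∀ k, incr (keyList k) = true → (keyList k).Pairwise (· ≤ ·) := by
        intro k hk
        simp only [keyList, incr, Bool.and_eq_true, Nat.blt_eq] at hk ⊢
        simp only [List.pairwise_cons, List.mem_cons, List.not_mem_nil, or_false, List.Pairwise.nil]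
        refine ⟨fun a ha => ?_, fun a ha => ?_, fun a ha => absurd ha (by simp), trivial⟩
        · rcases ha with rfl | rfl <;> omega
        · subst ha; omega
      exact List.Perm.eq_of_sortedLE (List.sortedLE_iff_pairwise.2 (sorted _ si))
        (List.sortedLE_iff_pairwise.2 (sorted _ sj)) hperm
    rw [heq] at ki
    have := incrT_lt hinc hij hj
    omega

end Cfsg.Agent.Lib.J4Pres19
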