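import Cfsg.Agent.Lib.J4Pres19.Dce
import Cfsg.Agent.Lib.J4Pres19.DataPts

/-!
The orbit of the trio functionals under `<x, y, w>` and its stabiliser.
-/

set_option autoImplicit false
set_option maxRecDepth 20000
set_option Elab.async false

namespace Cfsg.Agent.Lib.J4Pres19

open Cfsg.Agent.Lib.CosetEnum

/-- The key at a place. -/
noncomputable def keyAt (c : ℕ) : ℕ := getWord keys c

/-- Three numbers are three others in some order. -/
noncomputable def permB (a b c A B C : ℕ) : Bool :=
  (Nat.beq a A && (Nat.beq b B && Nat.beq c C || Nat.beq b C && Nat.beq c B)) ||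
  (Nat.beq a B && (Nat.beq b A && Nat.beq c C || Nat.beq b C && Nat.beq c A)) ||
  (Nat.beq a C && (Nat.beq b A && Nat.beq c B || Nat.beq b B && Nat.beq c A))

theorem permB_perm {a b c A B C : ℕ} (h : permB a b c A B C = true) :
    List.Perm [a, b, c] [A, B, C] := by
  simp only [permB, Bool.or_eq_true, Bool.and_eq_true, Nat.beq_eq] at h
  rw [← List.isPerm_iff]
  rcases h with (⟨rfl, ⟨rfl, rfl⟩ | ⟨rfl, rfl⟩⟩ | ⟨rfl, ⟨rfl, rfl⟩ | ⟨rfl, rfl⟩⟩) |
    ⟨rfl, ⟨rfl, rfl⟩ | ⟨rfl, rfl⟩⟩ <;> rw [List.isPerm_iff]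
  · exact List.Perm.cons _ (List.Perm.swap _ _ _)
  · exact List.Perm.swap _ _ _
  · exact List.Perm.trans (List.Perm.cons _ (List.Perm.swap _ _ _)) (List.Perm.swap _ _ _)
  · exact List.Perm.trans (List.Perm.swap _ _ _) (List.Perm.cons _ (List.Perm.swap _ _ _))
  · exact List.Perm.trans (List.Perm.cons _ (List.Perm.swap _ _ _))
      (List.Perm.trans (List.Perm.swap _ _ _) (List.Perm.cons _ (List.Perm.swap _ _ _)))

/-- The row times a matrix, without recursion. -/
noncomputable def vmulF (v N : ℕ) : ℕ :=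
  force v fun v => force N fun N =>
  Nat.xor (Nat.xor (Nat.xor (Nat.xor (Nat.xor (Nat.xor (Nat.xor (Nat.xor (Nat.xor (Nat.xor (Nat.xor (Nat.mul (Nat.land (Nat.shiftRight v 0) 1) (Nat.land (Nat.shiftRight N 0) 4095))
    (Nat.mul (Nat.land (Nat.shiftRight v 1) 1) (Nat.land (Nat.shiftRight N 12) 4095)))
    (Nat.mul (Nat.land (Nat.shiftRight v 2) 1) (Nat.land (Nat.shiftRight N 24) 4095)))
    (Nat.mul (Nat.land (Nat.shiftRight v 3) 1) (Nat.land (Nat.shiftRight N 36) 4095)))
    (Nat.mul (Nat.land (Nat.shiftRight v 4) 1) (Nat.land (Nat.shiftRight N 48) 4095)))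
    (Nat.mul (Nat.land (Nat.shiftRight v 5) 1) (Nat.land (Nat.shiftRight N 60) 4095)))
    (Nat.mul (Nat.land (Nat.shiftRight v 6) 1) (Nat.land (Nat.shiftRight N 72) 4095)))
    (Nat.mul (Nat.land (Nat.shiftRight v 7) 1) (Nat.land (Nat.shiftRight N 84) 4095)))
    (Nat.mul (Nat.land (Nat.shiftRight v 8) 1) (Nat.land (Nat.shiftRight N 96) 4095)))
    (Nat.mul (Nat.land (Nat.shiftRight v 9) 1) (Nat.land (Nat.shiftRight N 108) 4095)))
    (Nat.mul (Nat.land (Nat.shiftRight v 10) 1) (Nat.land (Nat.shiftRight N 120) 4095)))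
    (Nat.mul (Nat.land (Nat.shiftRight v 11) 1) (Nat.land (Nat.shiftRight N 132) 4095))

theorem vmulF_eq (v N : ℕ) : vmulF v N = vmul v N := by
  simp only [vmulF, force_eq]
  simp [vmul, vmulAux, lane]

/-- An image of a key. -/
noncomputable def keyImg (k g k' : ℕ) : Bool :=
  force g fun g => force k fun k => force k' fun k' =>
  force (vmulF (Nat.land k 4095) g) fun a =>
  force (vmulF (Nat.land (Nat.shiftRight k 12) 4095) g) fun b =>
  force (vmulF (Nat.shiftRight k 24) g) fun c =>
  permB a b c (Nat.land k' 4095) (Nat.land (Nat.shiftRight k' 12) 4095) (Nat.shiftRight k' 24)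

theorem keyImg_perm {k g k' : ℕ} (h : keyImg k g k' = true) :
    ((keyList k).map fun v => vmul v g).Perm (keyList k') := by
  simp only [keyImg, force_eq, vmulF_eq] at h
  exact permB_perm h

theorem keyImg_sound {k g k' : ℕ} (h : keyImg k g k' = true) {u : GL12} (hu : (u : Mat12) = val g) :
    msAct (keyMs k) u = keyMs k' := by
  have h := keyImg_perm h
  rw [keyMs, keyMs, msAct, Multiset.map_coe, Multiset.coe_eq_coe, List.map_map]
  refine List.Perm.trans (List.Perm.of_eq ?_) (h.map vec)
  rw [List.map_map]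
  exact List.map_congr_left fun v _ => vecAct_code hu v

/-- A key is sorted. -/
noncomputable def keyOK (k : ℕ) : Bool :=
  incr (keyList k) && ((keyList k).all fun v => Nat.blt v 4096) &&
    Nat.beq ((keyList k).getD 0 0 + 4096 * (keyList k).getD 1 0 + 16777216 * (keyList k).getD 2 0) k

theorem keyMs_inj {a b : ℕ} (ha : keyOK a = true) (hb : keyOK b = true) (e : keyMs a = keyMs b) :
    a = b := by
  simp only [keyOK, Bool.and_eq_true, List.all_eq_true, Nat.blt_eq, Nat.beq_eq] at ha hb
  obtain ⟨⟨si, bi⟩, ki⟩ := ha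
  obtain ⟨⟨sj, bj⟩, kj⟩ := hb
  have hp : ((keyList a).map vec).Perm ((keyList b).map vec) := Multiset.coe_eq_coe.1 e
  have hperm : (keyList a).Perm (keyList b) := by
    refine (List.perm_ext_iff_of_nodup (incr_nodup _ si).1 (incr_nodup _ sj).1).2 fun u => ?_
    constructor
    · intro hu
      obtain ⟨v, hv, ev⟩ := List.mem_map.1 (hp.mem_iff.1 (List.mem_map_of_mem hu))
      rwa [vec_inj (by simpa using bi u hu) (by simpa using bj v hv) ev.symm]
    · intro hu
      obtain ⟨v, hv, ev⟩ := List.mem_map.1 (hp.mem_iff.2 (List.mem_map_of_mem hu))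
      rwa [vec_inj (by simpa using bj u hu) (by simpa using bi v hv) ev.symm]
  have sorted : ∀ k, incr (keyList k) = true → (keyList k).Pairwise (· ≤ ·) := by
    intro k hk
    simp only [keyList, incr, Bool.and_eq_true, Nat.blt_eq] at hk ⊢
    simp only [List.pairwise_cons, List.mem_cons, List.not_mem_nil, or_false, List.Pairwise.nil]
    refine ⟨fun u hu => ?_, fun u hu => ?_, fun u hu => absurd hu (by simp), trivial⟩
    · rcases hu with rfl | rfl <;> omega
    · subst hu; omega
  have heq : keyList a = keyList b :=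
    List.Perm.eq_of_sortedLE (List.sortedLE_iff_pairwise.2 (sorted _ si))
      (List.sortedLE_iff_pairwise.2 (sorted _ sj)) hperm
  rw [heq] at ki
  exact ki.symm.trans kj

/-- One link. -/
noncomputable def stepLink (ok : ℕ → ℕ → ℕ → Bool) (acc x : ℕ) : Option ℕ :=
  bif Nat.beq x 0 then some acc else
  bif ok (linkParts x).1 (linkParts x).2.1 (linkParts x).2.2 &&
      (Nat.beq (linkParts x).2.1 0 || acc.testBit ((linkParts x).2.1 - 1)) then
    some (Nat.lor acc (Nat.shiftLeft 1 (linkParts x).1))
  else none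

/-- Some links. -/
noncomputable def runLinks (ok : ℕ → ℕ → ℕ → Bool) : List ℕ → ℕ → Option ℕ
  | [], acc => some acc
  | x :: xs, acc => match stepLink ok acc x with
    | none => none
    | some a => runLinks ok xs a

/-- Packed links. -/
noncomputable def runPacked (ok : ℕ → ℕ → ℕ → Bool) : List ℕ → ℕ → Option ℕ
  | [], acc => some acc
  | v :: vs, acc => match runLinks ok ((List.range 64).map (unpackOne v)) acc with
    | none => none
    | some a => runPacked ok vs a

/-- The packed links reach everything below `n`. -/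
noncomputable def linksFull (ok : ℕ → ℕ → ℕ → Bool) (L : List ℕ) (n : ℕ) : Bool :=
  match runPacked ok L 0 with
  | some r => Nat.beq r (2 ^ n - 1)
  | none => false

theorem linksFull_sound {ok : ℕ → ℕ → ℕ → Bool} {Q : ℕ → Prop} {L : List ℕ} {n : ℕ}
    (hQ : ∀ c p k, ok c p k = true → (p = 0 ∨ Q (p - 1)) → Q c) (h : linksFull ok L n = true) :
    ∀ c < n, Q c := by
  let Inv : ℕ → Prop := fun acc => ∀ c, acc.testBit c = true → Q c
  have h1 : ∀ acc x r, Inv acc → stepLink ok acc x = some r → Inv r := by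
    intro acc x r hi e
    unfold stepLink at e
    cases hx : Nat.beq x 0 with
    | true => rw [hx, cond_true, Option.some.injEq] at e; exact e ▸ hi
    | false =>
      rw [hx, cond_false] at e
      cases hc : (ok (linkParts x).1 (linkParts x).2.1 (linkParts x).2.2 &&
          (Nat.beq (linkParts x).2.1 0 || acc.testBit ((linkParts x).2.1 - 1))) with
      | false => rw [hc, cond_false] at e; simp at e
      | true =>
        rw [hc, cond_true, Option.some.injEq] at e
        simp only [Bool.and_eq_true, Bool.or_eq_true, Nat.beq_eq] at hc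
        intro c hcb
        rw [← e, show Nat.lor acc (Nat.shiftLeft 1 (linkParts x).1) = acc ||| 1 <<< (linkParts x).1 from
          rfl, Nat.testBit_or, Bool.or_eq_true] at hcb
        rcases hcb with hcb | hcb
        · exact hi c hcb
        · rw [Nat.shiftLeft_eq, one_mul, Nat.testBit_two_pow, decide_eq_true_eq] at hcb
          exact hcb ▸ hQ _ _ _ hc.1 (hc.2.imp id fun h => hi _ h)
  have h2 : ∀ xs acc r, Inv acc → runLinks ok xs acc = some r → Inv r := by
    intro xs
    induction xs with
    | nil => intro acc r hi e; simp only [runLinks, Option.some.injEq] at e; exact e ▸ hi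
    | cons x xs ih =>
      intro acc r hi e
      rw [runLinks] at e
      cases hs : stepLink ok acc x with
      | none => rw [hs] at e; simp at e
      | some a => rw [hs] at e; exact ih a r (h1 acc x a hi hs) e
  have h3 : ∀ vs acc r, Inv acc → runPacked ok vs acc = some r → Inv r := by
    intro vs
    induction vs with
    | nil => intro acc r hi e; simp only [runPacked, Option.some.injEq] at e; exact e ▸ hi
    | cons v vs ih =>
      intro acc r hi e
      rw [runPacked] at e
      cases hs : runLinks ok ((List.range 64).map (unpackOne v)) acc with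
      | none => rw [hs] at e; simp at e
      | some a => rw [hs] at e; exact ih a r (h2 _ acc a hi hs) e
  intro c hc
  unfold linksFull at h
  cases hr : runPacked ok L 0 with
  | none => rw [hr] at h; simp at h
  | some r =>
    rw [hr] at h
    have he : r = 2 ^ n - 1 := Nat.eq_of_beq_eq_true h
    refine h3 L 0 r (fun c h => by simp at h) hr c ?_
    rw [he, Nat.testBit_two_pow_sub_one]
    simpa using hc

/-- A link of the orbit. -/
noncomputable def orbOK (c p k : ℕ) : Bool :=
  bif Nat.beq p 0 then phi0.isPerm (keyList (keyAt c))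
  else Nat.blt k 4 && keyImg (keyAt (p - 1)) (getWord HT k) (keyAt c)

theorem orb_ok : linksFull orbOK orbLinks 15180 = true := by decide +kernel

theorem keys_ok : incrT keys 15180 = true ∧ allBelow 15180 (fun c => keyOK (keyAt c)) = true := by
  decide +kernel

theorem LT_fix : allBelow nLT (fun i => (phi0.map fun v => vmul v (getWord LT i)).isPerm phi0) = true ∧
    checkLevels LT nLT [] LTlevels = true ∧
    (LTlevels.map fun L => L.2.length).prod = 33030144 ∧
    Nat.blt 4 nHT = true ∧ getWord HT 4 = one := by decide +kernel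

theorem keyMs_ne {c d : ℕ} (hcd : c < d) (hd : d < 15180) : keyMs (keyAt c) ≠ keyMs (keyAt d) := by
  intro e
  have hk := allBelow_iff.1 keys_ok.2
  have := keyMs_inj (hk c (hcd.trans hd)) (hk d hd) e
  exact absurd this (incrT_lt keys_ok.1 hcd hd).ne

/-- The trio functionals. -/
noncomputable abbrev phiMs : Multiset Vec12 := ((phi0.map vec : List Vec12))

namespace TRel

variable {G : Type*} [Group G] (R : TRel G)

/-- The action on pairs. -/
noncomputable def pAct (p : Multiset Vec12) (a : R.toWRel.DH) : Multiset Vec12 := msAct p a.1.1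

theorem pAct_one (p : Multiset Vec12) : R.pAct p 1 = p := msAct_one p

theorem pAct_mul (p : Multiset Vec12) (a b : R.toWRel.DH) :
    R.pAct p (a * b) = R.pAct (R.pAct p a) b := msAct_mul p a.1.1 b.1.1

theorem finite_DH : Finite R.toWRel.DH :=
  Nat.finite_of_card_ne_zero (by rw [R.toWRel.card_DH_eq.1]; norm_num)

theorem el_of_pair {a : R.toWRel.DH} {c : ℕ} (h : (a.1.1 : Mat12) = val c) : R.HM.el c = a.1.2 :=
  R.HM.el_eq a.2 h

theorem snd_mem_P (a : R.toWRel.DH) : a.1.2 ∈ R.P := ⟨a.1, a.2, rfl⟩

theorem exists_of_mem {c : ℕ} (h : R.HM.Mem c) :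
    ∃ a : R.toWRel.DH, (a.1.1 : Mat12) = val c ∧ a.1.2 = R.HM.el c := by
  obtain ⟨p, hp, e⟩ := h
  exact ⟨⟨p, hp⟩, e, (R.HM.el_eq hp e).symm⟩

theorem orbit_lt : ∀ c < 15180, ∃ a : R.toWRel.DH, R.pAct phiMs a = keyMs (keyAt c) := by
  refine linksFull_sound (fun c p k h hp => ?_) orb_ok
  unfold orbOK at h
  cases h0 : Nat.beq p 0 with
  | true =>
    rw [h0, cond_true, List.isPerm_iff] at h
    refine ⟨1, ?_⟩
    rw [R.pAct_one, phiMs, keyMs, Multiset.coe_eq_coe]
    exact h.map vec
  | false =>
    rw [h0, cond_false] at h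
    simp only [Bool.and_eq_true, Nat.blt_eq] at h
    obtain ⟨a, ha⟩ := hp.resolve_left (Nat.ne_of_beq_eq_false h0)
    have hk : R.HM.Mem (getWord HT k) :=
      R.toWRel.mem_H (h.1.trans_le (by simp [nHT]))
    obtain ⟨g, hg, -⟩ := R.exists_of_mem hk
    exact ⟨a * g, by rw [R.pAct_mul, ha]; exact keyImg_sound h.2 hg⟩

/-- The stabiliser of the trio functionals, moved into `P` by `t`. -/
noncomputable def Kfix : Subgroup R.toWRel.DH :=
  fixPt R.pAct R.pAct_one R.pAct_mul phiMs ⊓
    (R.P.comap (MulAut.conj R.t).toMonoidHom).comap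
      ((MonoidHom.snd GL12 G).comp R.toWRel.DH.subtype)

theorem mem_Kfix {a : R.toWRel.DH} :
    a ∈ R.Kfix ↔ R.pAct phiMs a = phiMs ∧ R.t * a.1.2 * R.t ∈ R.P := by
  rw [Kfix, Subgroup.mem_inf, mem_fixPt]
  simp [Subgroup.mem_comap, R.tinv]

theorem LT_mem {i : ℕ} (hi : i < nLT) :
    ∃ a ∈ R.Kfix, (a.1.1 : Mat12) = val (getWord LT i) := by
  obtain ⟨h1, h2, h3⟩ := R.LT_pair i hi
  obtain ⟨a, ha, he⟩ := R.exists_of_mem h1
  refine ⟨a, R.mem_Kfix.2 ⟨?_, ?_⟩, ha⟩
  · rw [pAct, phiMs, msAct_phi0 ha, Multiset.coe_eq_coe]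
    exact (List.isPerm_iff.1 (allBelow_iff.1 LT_fix.1 i hi)).map vec
  · rw [he, h3, mul_assoc, R.tt, mul_one]
    exact R.el_mem_P h2

theorem card_Kfix : 33030144 ≤ Nat.card R.Kfix := by
  haveI := R.finite_DH
  let f : R.Kfix →* GL12 :=
    ((MonoidHom.fst GL12 G).comp R.toWRel.DH.subtype).comp R.Kfix.subtype
  refine le_trans ?_ (Nat.card_le_card_of_surjective f.rangeRestrict f.rangeRestrict_surjective)
  rw [← LT_fix.2.2.1]
  refine card_ge_of_levels f.range LT nLT LTlevels (fun i hi => ?_) LT_fix.2.1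
  obtain ⟨a, ha, e⟩ := R.LT_mem hi
  exact ⟨f ⟨a, ha⟩, ⟨_, rfl⟩, e⟩

/-- Elements with the images named by the keys. -/
noncomputable def orbList : List R.toWRel.DH :=
  (List.range 15180).map fun c => if h : c < 15180 then (R.orbit_lt c h).choose else 1

theorem orbList_spec : R.orbList.map (R.pAct phiMs) = (List.range 15180).map (fun c => keyMs (keyAt c)) := by
  rw [orbList, List.map_map]
  refine List.map_congr_left fun c hc => ?_
  rw [List.mem_range] at hc
  simp only [Function.comp_apply, dif_pos hc]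
  exact (R.orbit_lt c hc).choose_spec

theorem orbList_nodup : (R.orbList.map fun a => R.pAct phiMs a).Nodup := by
  rw [show (R.orbList.map fun a => R.pAct phiMs a) = _ from R.orbList_spec]
  refine List.nodup_range.map_on ?_
  intro c hc d hd e
  rw [List.mem_range] at hc hd
  rcases lt_trichotomy c d with h | h | h
  · exact absurd e (keyMs_ne h hd)
  · exact h
  · exact absurd e.symm (keyMs_ne h hc)

theorem stab_le (a : R.toWRel.DH) (h : R.pAct phiMs a = phiMs) : R.t * a.1.2 * R.t ∈ R.P := by
  haveI := R.finite_DH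
  have hlen : R.orbList.length = 15180 := by rw [orbList, List.length_map, List.length_range]
  have := fixPt_le R.pAct R.pAct_one R.pAct_mul R.Kfix phiMs (fun g hg => (R.mem_Kfix.1 hg).1)
    R.orbList R.orbList_nodup (by
      rw [hlen, R.toWRel.card_DH_eq.1]
      calc 501397585920 = 15180 * 33030144 := by norm_num
        _ ≤ 15180 * Nat.card R.Kfix := Nat.mul_le_mul_left _ R.card_Kfix) (by omega)
  exact (R.mem_Kfix.1 (this h)).2

theorem orbit_cover (a : R.toWRel.DH) : ∃ c < 15180, R.pAct phiMs a = keyMs (keyAt c) := by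
  haveI := R.finite_DH
  by_contra hne
  push Not at hne
  have hlen : R.orbList.length = 15180 := by rw [orbList, List.length_map, List.length_range]
  have h := card_step R.pAct R.pAct_one R.pAct_mul ⊤ R.Kfix phiMs id le_top
    (fun g hg => (R.mem_Kfix.1 hg).1) (a :: R.orbList) (fun g _ => trivial) (by
      rw [List.map_cons, List.nodup_cons]
      refine ⟨fun hm => ?_, R.orbList_nodup⟩
      rw [show (R.orbList.map fun g => id (R.pAct phiMs g)) = _ from R.orbList_spec, List.mem_map] at hm
      obtain ⟨c, hc, e⟩ := hm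
      exact hne c (List.mem_range.1 hc) e.symm)
  rw [Subgroup.card_top, R.toWRel.card_DH_eq.1, List.length_cons, hlen] at h
  have := R.card_Kfix
  omega

end TRel

end Cfsg.Agent.Lib.J4Pres19
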