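import Cfsg.Agent.Lib.J4Pres19.Model

/-!
Checked rewriting of words in a family of elements, with a coefficient from a group named by codes.
-/

set_option autoImplicit false

namespace Cfsg.Agent.Lib.J4Pres19

/-- A step: the position, the word found there, the coefficient, the word put there, the images of the
letters before the position, and data for the checker of the rule. -/
structure RStep where
  pos : ℕ
  L : List ℕ
  q : ℕ
  R : List ℕ
  pre : List ℕ
  data : List ℕ

/-- The letters on the left move to their images. -/
noncomputable def conjAll (conjB : ℕ → ℕ → ℕ → Bool) (q : ℕ) : List ℕ → List ℕ → Bool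
  | [], [] => true
  | a :: l, b :: r => conjB a q b && conjAll conjB q l r
  | _, _ => false

/-- Apply the steps. -/
noncomputable def runSteps (ruleB : RStep → Bool) (conjB : ℕ → ℕ → ℕ → Bool) :
    List RStep → ℕ → List ℕ → Option (ℕ × List ℕ)
  | [], c, w => some (c, w)
  | s :: ss, c, w =>
    bif ruleB s && decide ((w.drop s.pos).take s.L.length = s.L) &&
        (bif Nat.beq s.q one then decide (s.pre = w.take s.pos) else conjAll conjB s.q (w.take s.pos) s.pre) then
      runSteps ruleB conjB ss (mul c s.q) (s.pre ++ s.R ++ (w.drop s.pos).drop s.L.length)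
    else none

variable {G : Type*} [Group G] {S : Model G} (F : ℕ → G)

/-- The product of the family along a word. -/
def fprod (w : List ℕ) : G := (w.map F).prod

theorem fprod_nil : fprod F [] = 1 := rfl

theorem fprod_cons (a : ℕ) (w : List ℕ) : fprod F (a :: w) = F a * fprod F w := by simp [fprod]

theorem fprod_append (u v : List ℕ) : fprod F (u ++ v) = fprod F u * fprod F v := by simp [fprod]

variable {F}

theorem conjAll_sound {conjB : ℕ → ℕ → ℕ → Bool}
    (hc : ∀ i q j, S.Mem q → conjB i q j = true → F i * S.el q = S.el q * F j) {q : ℕ}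
    (hq : S.Mem q) :
    ∀ l r : List ℕ, conjAll conjB q l r = true → fprod F l * S.el q = S.el q * fprod F r
  | [], [], _ => by simp [fprod]
  | a :: l, b :: r, h => by
    simp only [conjAll, Bool.and_eq_true] at h
    rw [fprod_cons, fprod_cons, mul_assoc, conjAll_sound hc hq l r h.2, ← mul_assoc, hc _ _ _ hq h.1,
      mul_assoc]
  | [], _ :: _, h => by simp [conjAll] at h
  | _ :: _, [], h => by simp [conjAll] at h

theorem runSteps_sound {ruleB : RStep → Bool} {conjB : ℕ → ℕ → ℕ → Bool}
    (hr : ∀ s, ruleB s = true → S.Mem s.q ∧ fprod F s.L = S.el s.q * fprod F s.R)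
    (hc : ∀ i q j, S.Mem q → conjB i q j = true → F i * S.el q = S.el q * F j) :
    ∀ (ss : List RStep) (c : ℕ) (w : List ℕ) (c' : ℕ) (w' : List ℕ), S.Mem c →
      runSteps ruleB conjB ss c w = some (c', w') →
      S.Mem c' ∧ S.el c * fprod F w = S.el c' * fprod F w'
  | [], c, w, c', w', hm, h => by
    simp only [runSteps, Option.some.injEq, Prod.mk.injEq] at h
    obtain ⟨rfl, rfl⟩ := h
    exact ⟨hm, rfl⟩
  | s :: ss, c, w, c', w', hm, h => by
    rw [runSteps] at h
    cases hb : (ruleB s && decide ((w.drop s.pos).take s.L.length = s.L) &&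
        (bif Nat.beq s.q one then decide (s.pre = w.take s.pos)
          else conjAll conjB s.q (w.take s.pos) s.pre)) with
    | false => simp [hb] at h
    | true =>
      rw [hb, cond_true] at h
      simp only [Bool.and_eq_true, decide_eq_true_eq] at hb
      obtain ⟨⟨h1, h2⟩, h3⟩ := hb
      obtain ⟨hq, he⟩ := hr s h1
      have hpre : fprod F (w.take s.pos) * S.el s.q = S.el s.q * fprod F s.pre := by
        cases hqb : Nat.beq s.q one with
        | true =>
          rw [hqb, cond_true, decide_eq_true_eq] at h3
          rw [Nat.eq_of_beq_eq_true hqb, Model.el_one, mul_one, one_mul, h3]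
        | false =>
          rw [hqb, cond_false] at h3
          exact conjAll_sound hc hq _ _ h3
      obtain ⟨hm', he'⟩ := runSteps_sound hr hc ss _ _ c' w' (hm.mul hq) h
      refine ⟨hm', ?_⟩
      rw [← he', Model.el_mul hm hq]
      conv_lhs => rw [← List.take_append_drop s.pos w,
        ← List.take_append_drop s.L.length (w.drop s.pos), h2]
      simp only [fprod_append]
      rw [he, ← mul_assoc (fprod F (w.take s.pos)), ← mul_assoc (fprod F (w.take s.pos)), hpre]
      simp only [mul_assoc]

end Cfsg.Agent.Lib.J4Pres19
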