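import Cfsg.Agent.Lib.J4Pres19.WRel

/-!
The conjugates of `t` under M24, the rules between them coming from the two long relators, and the
consequences for `w`: an involution with the stabiliser and line relations, and the image of one
element of `L` under `t`.
-/

set_option autoImplicit false
set_option maxRecDepth 20000
set_option Elab.async false

namespace Cfsg.Agent.Lib.J4Pres19

open Cfsg.Agent.Lib.CosetEnum Cfsg.Agent.Lib.M24Pres

/-- The word conjugating `t` in the first long relator. -/
def wordU1 : List ℕ := [1, 0, 2, 0, 1, 0, 2, 0]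

/-- The coefficient of the second long relator. -/
def wordS : List ℕ := (List.replicate 3 [1, 0, 1, 0, 1, 0, 1]).flatten

/-- The word conjugating `t` in the second long relator. -/
def wordU2 : List ℕ :=
  (List.replicate 3 [0, 1]).flatten ++ [1] ++ (List.replicate 6 [0, 1]).flatten ++ [1]

variable {G : Type*} [Group G]

/-- An involution centralised by the trio group and satisfying the two long relators. -/
structure TRel (G : Type*) [Group G] extends Gens G where
  t : G
  tt : t * t = 1
  comm : ∀ i ∈ chTGens, Commute t (mtEl toGens i)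
  r1 : (toGens.y * conjEl toGens t (wordCode wordU1)) ^ 3 = 1
  r2 : (toGens.M.el (wordCode wordS) * t * conjEl toGens t (wordCode wordU2)) ^ 2 = 1

/-- The image of a trio under a code. -/
noncomputable def tConjB (i q j : ℕ) : Bool :=
  Nat.blt i 3795 && Nat.blt j 3795 &&
    ((keyList (getWord tQ i)).map fun v => vmul v q).isPerm (keyList (getWord tQ j))

/-- The code takes trio zero to the trio. -/
noncomputable def tImgB (a j : ℕ) : Bool :=
  Nat.blt j 3795 && (phi0.map fun v => vmul v a).isPerm (keyList (getWord tQ j))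

/-- Cancellations and the rules of the first long relator. -/
noncomputable def tRule0 (s : RStep) : Bool :=
  Nat.beq s.q one &&
  match s.data with
  | [0, _] => (match s.L, s.R with | [a, b], [] => Nat.beq a b | _, _ => false)
  | [1, _] => (match s.L, s.R with | [], [a, b] => Nat.beq a b | _, _ => false)
  | [2, g, p0, p1, p2, _] =>
    Nat.blt g nMT && perms3.contains [p0, p1, p2] &&
      (Nat.beq s.L.length 2 && Nat.beq s.R.length 1 || Nat.beq s.L.length 1 && Nat.beq s.R.length 2) &&
      tConjB (tBase.getD 1 0) (getWord MT g) ((s.L ++ s.R).getD p0 0) &&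
      tConjB (tBase.getD 2 0) (getWord MT g) ((s.L ++ s.R).getD p1 0) &&
      tConjB (tBase.getD 3 0) (getWord MT g) ((s.L ++ s.R).getD p2 0)
  | _ => false

/-- The images of four letters. -/
noncomputable def conj4 (v : List ℕ) (g : ℕ) (u : List ℕ) : Bool := conjAll tConjB g v u

/-- All rules. -/
noncomputable def tRuleB (s : RStep) : Bool :=
  tRule0 s ||
  match s.data with
  | [3, g, _] =>
    Nat.beq s.q one && Nat.blt g nMT &&
      (match s.L, s.R with
        | [i, j], [j', i'] => Nat.beq i i' && Nat.beq j j' &&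
            tConjB (tBase.getD 4 0) (getWord MT g) i && tConjB (tBase.getD 5 0) (getWord MT g) j
        | _, _ => false)
  | [4, vi, g, _, qi] =>
    Nat.blt g nMT && Nat.blt qi nMT && Nat.blt vi 16 && Nat.beq s.q (getWord MT qi) &&
      conj4 ((varData.getD vi []).take 4) (getWord MT g) (s.L ++ s.R.reverse) &&
      Nat.beq (mul (getWord MT g) s.q) (mul (getWord MT ((varData.getD vi []).getD 4 0)) (getWord MT g))
  | _ => false

/-- Check the forms of the last relator. -/
noncomputable def checkVar (k : ℕ) : Bool :=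
  let v := varData.getD k []
  Nat.beq v.length 5 && Nat.blt (v.getD 4 0) nMT &&
  bif Nat.beq k 0 then
    decide (v.take 4 = [tBase.getD 0 0, tBase.getD 10 0, tBase.getD 0 0, tBase.getD 9 0]) &&
      tImgB (wordCode wordS) (tBase.getD 0 0) && tImgB (wordCode wordU2) (tBase.getD 9 0) &&
      tConjB (tBase.getD 9 0) (wordCode wordS) (tBase.getD 10 0) &&
      Nat.beq (mul (getWord MT (v.getD 4 0)) (mul (wordCode wordS) (wordCode wordS))) one
  else bif Nat.blt k 8 then
    let p := varData.getD (k - 1) []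
    Nat.beq (v.getD 0 0) (p.getD 1 0) && Nat.beq (v.getD 1 0) (p.getD 2 0) &&
      Nat.beq (v.getD 2 0) (p.getD 3 0) && Nat.beq (v.getD 4 0) (p.getD 4 0) &&
      tConjB (p.getD 0 0) (getWord MT (p.getD 4 0)) (v.getD 3 0)
  else
    let p := varData.getD (k - 8) []
    decide (v.take 4 = (p.take 4).reverse) &&
      Nat.beq (mul (getWord MT (p.getD 4 0)) (getWord MT (v.getD 4 0))) one

theorem vars_ok : ((List.range 16).all checkVar) = true := by decide +kernel

theorem tBase_ok : Nat.beq (tBase.getD 0 0) (tBase.getD 0 0) = true ∧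
    tImgB one (tBase.getD 0 0) = true ∧
    tImgB (mul (wordCode wordU1) mYi) (tBase.getD 1 0) = true ∧
    tImgB (mul (mul (wordCode wordU1) mYi) mYi) (tBase.getD 2 0) = true ∧
    tImgB (wordCode wordU1) (tBase.getD 3 0) = true := by decide +kernel

theorem tChain_ok :
    ((List.range chTGens.length).all fun i =>
      Nat.beq (getWord chT i) ((chTGens.map (getWord MT)).getD i 0)) = true ∧
    checkTable chT chTGens.length chTDefs = true ∧
    checkLevels chT (chTGens.length + chTDefs.length) [] chTLevels = true ∧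
    (chTLevels.map fun L => L.2.length).prod = 64512 ∧
    (chTGens.all fun i => Nat.blt i nMT && (phi0.map fun v => vmul v (getWord MT i)).isPerm phi0) =
      true := by decide +kernel

namespace TRel

variable (R : TRel G)

/-- The `i`-th conjugate of `t`. -/
noncomputable def T (i : ℕ) : G := conjEl R.toGens R.t (getWord tT i)

theorem tFacts : OrbitFacts R.toGens msAct R.t ((phi0.map vec : List Vec12)) 3795 tT := by
  obtain ⟨h1, h2, h3, h4, h5⟩ := tChain_ok
  have h5' : ∀ i ∈ chTGens, i < nMT ∧ (phi0.map fun v => vmul v (getWord MT i)).Perm phi0 := fun i hi => by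
    simpa [Nat.blt_eq, List.isPerm_iff] using List.all_eq_true.1 h5 i hi
  refine orbitFacts R.toGens msAct msAct_one msAct_mul R.t _ (chTGens.map (getWord MT)) ?_ ?_ ?_
    chT chTDefs chTLevels (by simpa using h1) (by simpa using h2) (by simpa using h3) 64512 h4.ge 3795 tT
    (by norm_num) (by norm_num) (fun i hi => R.toGens.mem_idx tIdx_ok hi) ?_
  · intro c hc
    obtain ⟨i, hi, rfl⟩ := List.mem_map.1 hc
    exact R.toGens.mem_MT (h5' i hi).1
  · intro c hc u hu
    obtain ⟨i, hi, rfl⟩ := List.mem_map.1 hc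
    rw [msAct_phi0 hu, Multiset.coe_eq_coe]
    exact (h5' i hi).2.map vec
  · intro c hc
    obtain ⟨i, hi, rfl⟩ := List.mem_map.1 hc
    exact R.comm i hi
  · intro i j hij hj u v hu hv e
    obtain ⟨hA, hB⟩ := checkTrio_spec tTrio_ok
    rw [hA i (hij.trans hj) u hu, hA j hj v hv] at e
    exact hB i j hij hj e

theorem conj_eq_T {a j : ℕ} (ha : R.toGens.M.Mem a) (h : tImgB a j = true) :
    conjEl R.toGens R.t a = R.T j := by
  simp only [tImgB, Bool.and_eq_true, Nat.blt_eq, List.isPerm_iff] at h
  obtain ⟨hj, hp⟩ := h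
  obtain ⟨p, hp1, -⟩ := exists_pair R.toGens ha
  obtain ⟨q, hq1, -⟩ := exists_pair R.toGens (R.toGens.mem_idx tIdx_ok hj)
  refine R.tFacts.congr a _ ha (R.toGens.mem_idx tIdx_ok hj) _ _ hp1 hq1 ?_
  rw [msAct_phi0 hp1, (checkTrio_spec tTrio_ok).1 j hj _ hq1, keyMs, Multiset.coe_eq_coe]
  exact hp.map vec

theorem tConjB_sound (i q j : ℕ) (hq : R.toGens.M.Mem q) (h : tConjB i q j = true) :
    R.T i * R.toGens.M.el q = R.toGens.M.el q * R.T j := by
  simp only [tConjB, Bool.and_eq_true, Nat.blt_eq, List.isPerm_iff] at h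
  obtain ⟨⟨hi, hj⟩, hp⟩ := h
  have hTi := R.toGens.mem_idx tIdx_ok hi
  obtain ⟨p, hp1, -⟩ := exists_pair R.toGens hTi
  obtain ⟨c, hc1, -⟩ := exists_pair R.toGens (hTi.mul hq)
  obtain ⟨r, hr1, -⟩ := exists_pair R.toGens hq
  obtain ⟨w, hw1, -⟩ := exists_pair R.toGens (R.toGens.mem_idx tIdx_ok hj)
  obtain ⟨hA, -⟩ := checkTrio_spec tTrio_ok
  have hpr : ((p.1.1 * r.1.1 : GL12) : Mat12) = val (mul (getWord tT i) q) := by
    rw [Units.val_mul, hp1, hr1, val_mul]
  have e := R.tFacts.congr _ _ (hTi.mul hq) (R.toGens.mem_idx tIdx_ok hj) _ _ hpr hw1 (by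
    rw [msAct_mul, hA i hi _ hp1, hA j hj _ hw1, keyMs, keyMs, msAct, Multiset.map_coe,
      Multiset.coe_eq_coe, List.map_map]
    refine List.Perm.trans (List.Perm.of_eq ?_) (hp.map vec)
    rw [List.map_map]
    exact List.map_congr_left fun v _ => vecAct_code hr1 v)
  rw [R.toGens.conjEl_mul _ hTi hq] at e
  rw [T, ← show _ = R.T j from e]
  group

theorem TT (i : ℕ) : R.T i * R.T i = 1 := by
  unfold T conjEl
  rw [show ∀ a : G, a⁻¹ * R.t * a * (a⁻¹ * R.t * a) = a⁻¹ * (R.t * R.t) * a from fun a => by group,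
    R.tt]
  simp

theorem T_inv (i : ℕ) : (R.T i)⁻¹ = R.T i := inv_eq_of_mul_eq_one_right (R.TT i)

theorem fprod_reverse : ∀ l : List ℕ, fprod R.T l.reverse = (fprod R.T l)⁻¹
  | [] => by simp [fprod]
  | a :: l => by
    rw [List.reverse_cons, fprod_append, fprod_reverse l]
    simp [fprod, mul_inv_rev, R.T_inv]

theorem y_cube : R.y * R.y * R.y = 1 := by
  have := R.rel [1, 1, 1] (by rw [show ([1, 1, 1] : List ℕ) = R7.getD 0 [] from rfl]; decide)
  simpa [wval, lval, mul_assoc] using this

theorem line_T : R.T (tBase.getD 1 0) * R.T (tBase.getD 2 0) * R.T (tBase.getD 3 0) = 1 := by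
  obtain ⟨-, -, h1, h2, h3⟩ := tBase_ok
  have hu := (R.toGens.mem_wordCode wordU1).1
  have hy := R.toGens.mem_mYi
  rw [← R.conj_eq_T (hu.mul hy) h1, ← R.conj_eq_T ((hu.mul hy).mul hy) h2, ← R.conj_eq_T hu h3,
    R.toGens.conjEl_mul _ (hu.mul hy) hy, R.toGens.conjEl_mul _ hu hy, R.toGens.el_mYi, inv_inv]
  have h := R.r1
  set A := conjEl R.toGens R.t (wordCode wordU1) with hA
  rw [pow_succ, pow_succ, pow_one] at h
  rw [← h]
  have h3' := R.y_cube
  have hy2 : R.y⁻¹ * R.y⁻¹ = R.y := by
    rw [← mul_inv_rev]; exact inv_eq_of_mul_eq_one_right h3'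
  calc R.y * A * R.y⁻¹ * (R.y * (R.y * A * R.y⁻¹) * R.y⁻¹) * A
      = R.y * A * R.y * A * (R.y⁻¹ * R.y⁻¹) * A := by group
    _ = R.y * A * (R.y * A) * (R.y * A) := by rw [hy2]; group

theorem tRule0_sound (s : RStep) (h : tRule0 s = true) :
    R.toGens.M.Mem s.q ∧ fprod R.T s.L = R.toGens.M.el s.q * fprod R.T s.R := by
  simp only [tRule0, Bool.and_eq_true, Nat.beq_eq] at h
  obtain ⟨hq, h⟩ := h
  rw [hq, Model.el_one, one_mul]
  refine ⟨R.toGens.M.mem_one, ?_⟩
  split at h
  · split at h
    · rename_i a b hL hR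
      obtain rfl := Nat.eq_of_beq_eq_true h
      simp [fprod, hL, hR, R.TT]
    · simp at h
  · split at h
    · rename_i a b hL hR
      obtain rfl := Nat.eq_of_beq_eq_true h
      simp [fprod, hL, hR, R.TT]
    · simp at h
  · simp only [Bool.and_eq_true, Bool.or_eq_true, Nat.blt_eq, Nat.beq_eq, List.contains_iff_mem] at h
    obtain ⟨⟨⟨⟨⟨hg, hp⟩, hlen⟩, h0⟩, h1⟩, h2⟩ := h
    refine line_rule R.TT hp hlen ?_
    simp only [List.getD_cons_zero, List.getD_cons_succ]
    have hm := R.toGens.mem_MT hg
    have c0 := R.tConjB_sound _ _ _ hm h0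
    have c1 := R.tConjB_sound _ _ _ hm h1
    have c2 := R.tConjB_sound _ _ _ hm h2
    apply mul_left_cancel (a := R.toGens.M.el (getWord MT _))
    rw [mul_one, ← mul_assoc, ← mul_assoc, ← c0, mul_assoc (R.T _), ← c1, ← mul_assoc, mul_assoc,
      ← c2, ← mul_assoc, R.line_T, one_mul]
  · simp at h

theorem swap_T : R.T (tBase.getD 4 0) * R.T (tBase.getD 5 0) =
    R.T (tBase.getD 5 0) * R.T (tBase.getD 4 0) := by
  have hk : runSteps tRule0 tConjB swapSteps one
      [tBase.getD 4 0, tBase.getD 5 0, tBase.getD 4 0, tBase.getD 5 0] = some (one, []) := by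
    decide +kernel
  obtain ⟨-, e⟩ := runSteps_sound (S := R.toGens.M) (fun s hs => R.tRule0_sound s hs)
    (fun i q j hq hb => R.tConjB_sound i q j hq hb) swapSteps one _ _ _ R.toGens.M.mem_one hk
  simp only [Model.el_one, one_mul, fprod, List.map_cons, List.map_nil, List.prod_cons,
    List.prod_nil, mul_one] at e
  rw [← mul_assoc] at e
  have := eq_inv_of_mul_eq_one_left e
  rw [this, mul_inv_rev, R.T_inv, R.T_inv]

theorem len_five {α : Type*} {l : List α} (h : l.length = 5) : ∃ a b c d e, l = [a, b, c, d, e] := by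
  match l, h with
  | [a, b, c, d, e], _ => exact ⟨a, b, c, d, e, rfl⟩

theorem var_sound : ∀ k < 16, R.toGens.M.Mem (getWord MT ((varData.getD k []).getD 4 0)) ∧
    fprod R.T ((varData.getD k []).take 4) = R.toGens.M.el (getWord MT ((varData.getD k []).getD 4 0)) := by
  intro k hk
  induction k using Nat.strong_induction_on with
  | _ k ih =>
    have h := List.all_eq_true.1 vars_ok k (List.mem_range.2 hk)
    simp only [checkVar, Bool.and_eq_true, Nat.blt_eq, Nat.beq_eq] at h
    obtain ⟨⟨hlen, hlt⟩, h⟩ := h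
    have hm := R.toGens.mem_MT hlt
    refine ⟨hm, ?_⟩
    cases h0 : Nat.beq k 0 with
    | true =>
      rw [h0, cond_true] at h
      simp only [Bool.and_eq_true, decide_eq_true_eq, Nat.beq_eq] at h
      obtain ⟨⟨⟨⟨hv, h1⟩, h2⟩, h3⟩, h4⟩ := h
      have hs := (R.toGens.mem_wordCode wordS).1
      have hu := (R.toGens.mem_wordCode wordU2).1
      have e1 := R.conj_eq_T hs h1
      have e2 := R.conj_eq_T hu h2
      have e3 := R.tConjB_sound _ _ _ hs h3
      have e4 := congrArg R.toGens.M.el h4
      rw [Model.el_mul hm (hs.mul hs), Model.el_mul hs hs, Model.el_one] at e4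
      have hr := R.r2
      rw [pow_two, e2] at hr
      rw [conjEl] at e1
      rw [hv, eq_inv_of_mul_eq_one_left e4]
      simp only [fprod, List.map_cons, List.map_nil, List.prod_cons, List.prod_nil, mul_one]
      set S := R.toGens.M.el (wordCode wordS)
      set T0 := R.T (tBase.getD 0 0)
      set Tb := R.T (tBase.getD 9 0)
      set Tc := R.T (tBase.getD 10 0)
      have et : R.t = T0 := by
        have := R.conj_eq_T R.toGens.M.mem_one tBase_ok.2.1
        rwa [R.toGens.conjEl_one] at this
      rw [et] at e1 hr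
      refine eq_inv_of_mul_eq_one_right ?_
      calc S * S * (T0 * (Tc * (T0 * Tb))) = S * (S * T0) * (Tc * (T0 * Tb)) := by group
        _ = S * (T0 * S) * (Tc * (T0 * Tb)) := by
            rw [show S * T0 = T0 * S by
              conv_lhs => rw [← e1]
              group]
        _ = S * T0 * (S * Tc) * (T0 * Tb) := by group
        _ = S * T0 * (Tb * S) * (T0 * Tb) := by rw [← e3]
        _ = S * T0 * Tb * (S * T0 * Tb) := by group
        _ = 1 := hr
    | false =>
      rw [h0, cond_false] at h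
      have hk0 : k ≠ 0 := fun e => by simp [e] at h0
      cases h8 : Nat.blt k 8 with
      | true =>
        rw [h8, cond_true] at h
        simp only [Bool.and_eq_true, Nat.beq_eq] at h
        obtain ⟨⟨⟨⟨a0, a1⟩, a2⟩, a4⟩, hc⟩ := h
        have hp := List.all_eq_true.1 vars_ok (k - 1) (List.mem_range.2 (by omega))
        simp only [checkVar, Bool.and_eq_true, Nat.beq_eq] at hp
        have hlen' := hp.1.1
        obtain ⟨hm', e⟩ := ih (k - 1) (by omega) (by omega)
        have ec := R.tConjB_sound _ _ _ hm' hc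
        obtain ⟨p0, p1, p2, p3, p4, hp'⟩ := len_five hlen'
        obtain ⟨v0, v1, v2, v3, v4, hv'⟩ := len_five hlen
        simp only [hp', hv', List.getD_cons_zero, List.getD_cons_succ, List.take_succ_cons,
          List.take_zero, fprod, List.map_cons, List.map_nil, List.prod_cons, List.prod_nil,
          mul_one] at a0 a1 a2 a4 e ec ⊢
        subst a0 a1 a2 a4
        set Q := R.toGens.M.el (getWord MT v4)
        calc R.T v0 * (R.T v1 * (R.T v2 * R.T v3))
            = (R.T p0 * R.T p0) * (R.T v0 * (R.T v1 * (R.T v2 * R.T v3))) := by rw [R.TT, one_mul]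
          _ = R.T p0 * (R.T p0 * (R.T v0 * (R.T v1 * R.T v2))) * R.T v3 := by group
          _ = R.T p0 * Q * R.T v3 := by rw [e]
          _ = Q := by rw [ec, mul_assoc, R.TT, mul_one]
      | false =>
        rw [h8, cond_false] at h
        simp only [Bool.and_eq_true, Nat.beq_eq, decide_eq_true_eq] at h
        have hk8 : ¬ k < 8 := fun e => by
          rw [show Nat.blt k 8 = true by simpa [Nat.blt_eq] using e] at h8
          exact Bool.noConfusion h8
        obtain ⟨hm', e⟩ := ih (k - 8) (by omega) (by omega)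
        rw [h.1, R.fprod_reverse, e]
        exact (Model.el_inv hm' hm h.2).symm

theorem tRuleB_sound (s : RStep) (h : tRuleB s = true) :
    R.toGens.M.Mem s.q ∧ fprod R.T s.L = R.toGens.M.el s.q * fprod R.T s.R := by
  simp only [tRuleB, Bool.or_eq_true] at h
  rcases h with h | h
  · exact R.tRule0_sound s h
  split at h
  · simp only [Bool.and_eq_true, Nat.beq_eq, Nat.blt_eq] at h
    obtain ⟨⟨hq, hg⟩, h⟩ := h
    split at h
    · rename_i i j j' i' hL hR
      simp only [Bool.and_eq_true, Nat.beq_eq] at h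
      obtain ⟨⟨⟨rfl, rfl⟩, h1⟩, h2⟩ := h
      rw [hq, Model.el_one, one_mul]
      refine ⟨R.toGens.M.mem_one, ?_⟩
      have hm := R.toGens.mem_MT hg
      have c1 := R.tConjB_sound _ _ _ hm h1
      have c2 := R.tConjB_sound _ _ _ hm h2
      rw [hL, hR]
      simp only [fprod, List.map_cons, List.map_nil, List.prod_cons, List.prod_nil, mul_one]
      apply mul_left_cancel (a := R.toGens.M.el (getWord MT _))
      rw [← mul_assoc, ← mul_assoc, ← c1, ← c2, mul_assoc, ← c2, mul_assoc (R.T (tBase.getD 5 0)), ← c1,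
        ← mul_assoc, ← mul_assoc, R.swap_T]
    · simp at h
  · simp only [Bool.and_eq_true, Nat.beq_eq, Nat.blt_eq] at h
    obtain ⟨⟨⟨⟨⟨hg, hqi⟩, hvi⟩, hq⟩, hc⟩, he⟩ := h
    have hm := R.toGens.mem_MT hg
    have hqm : R.toGens.M.Mem s.q := hq ▸ R.toGens.mem_MT hqi
    refine ⟨hqm, ?_⟩
    obtain ⟨hv, ev⟩ := R.var_sound _ hvi
    have e1 := conjAll_sound (S := R.toGens.M) (fun i q j hq hb => R.tConjB_sound i q j hq hb) hm _ _ hc
    have e2 := congrArg R.toGens.M.el he
    rw [Model.el_mul hm hqm, Model.el_mul hv hm] at e2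
    rw [ev, ← e2] at e1
    have e3 := mul_left_cancel e1
    rw [fprod_append, R.fprod_reverse] at e3
    exact mul_inv_eq_iff_eq_mul.1 e3.symm
  · simp at h

/-- Run the rules. -/
theorem derives {w0 w1 : List ℕ} {c : ℕ} {ss : List RStep}
    (h : runSteps tRuleB tConjB ss one w0 = some (c, w1)) :
    R.toGens.M.Mem c ∧ fprod R.T w0 = R.toGens.M.el c * fprod R.T w1 := by
  obtain ⟨h1, e⟩ := runSteps_sound (S := R.toGens.M) (fun s hs => R.tRuleB_sound s hs)
    (fun i q j hq hb => R.tConjB_sound i q j hq hb) ss one w0 c w1 R.toGens.M.mem_one h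
  exact ⟨h1, by simpa [Model.el_one] using e⟩

end TRel

/-- The word of `w`. -/
def twWord : List ℕ := (tBase.drop 6).take 3

theorem runs_ok : runSteps tRuleB tConjB wwSteps one (twWord ++ twWord) = some (one, []) ∧
    runSteps tRuleB tConjB lineSteps one lineWord = some (one, []) ∧
    runSteps tRuleB tConjB s1Steps one s1Start = some (one, twWord) ∧
    runSteps tRuleB tConjB s2Steps one s2Start = some (one, twWord) ∧
    runSteps tRuleB tConjB thetaSteps one thetaWord = some (getWord MT (thetaData.getD 2 0), thetaEnd) := by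
  decide +kernel

theorem conjugates_ok : conjAll tConjB (getWord MT (chSGens.getD 0 0)) twWord s1Start = true ∧
    conjAll tConjB (getWord MT (chSGens.getD 1 0)) twWord s2Start = true ∧ chSGens.length = 2 ∧
    conjAll tConjB (getWord MT (lineIdx.getD 0 0)) twWord (lineWord.take 3) = true ∧
    conjAll tConjB (getWord MT (lineIdx.getD 1 0)) twWord ((lineWord.drop 3).take 3) = true ∧
    conjAll tConjB (getWord MT (lineIdx.getD 2 0)) twWord (lineWord.drop 6) = true ∧
    conjAll tConjB (getWord MT (thetaData.getD 0 0)) twWord theta73 = true ∧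
    conjAll tConjB (getWord MT (thetaData.getD 1 0)) twWord thetaEnd = true ∧
    thetaWord = tBase.getD 0 0 :: (theta73 ++ [tBase.getD 0 0]) ∧
    (chSGens.all fun i => Nat.blt i nMT) = true ∧ (lineIdx.all fun i => Nat.blt i nMT) = true ∧
    (thetaData.all fun i => Nat.blt i nMT) = true := by
  decide +kernel

namespace TRel

variable {G : Type*} [Group G] (R : TRel G)

/-- The involution `w`. -/
noncomputable def w : G := fprod R.T twWord

theorem conj_w {g : ℕ} {u : List ℕ} (hg : R.toGens.M.Mem g) (h : conjAll tConjB g twWord u = true) :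
    fprod R.T u = conjEl R.toGens R.w g := by
  have e := conjAll_sound (S := R.toGens.M) (fun i q j hq hb => R.tConjB_sound i q j hq hb) hg _ _ h
  rw [w, conjEl, mul_assoc, e, inv_mul_cancel_left]

theorem mem_nMT {l : List ℕ} (h : (l.all fun i => Nat.blt i nMT) = true) (k : ℕ) :
    R.toGens.M.Mem (getWord MT (l.getD k 0)) := by
  rcases lt_or_ge k l.length with hk | hk
  · rw [List.getD_eq_getElem _ _ hk]
    exact R.toGens.mem_MT (by simpa [Nat.blt_eq] using List.all_eq_true.1 h _ (List.getElem_mem hk))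
  · rw [List.getD_eq_default _ _ hk]
    exact R.toGens.mem_MT (by decide +kernel)

theorem w_stab (i : ℕ) (hi : i ∈ chSGens) : Commute R.w (mtEl R.toGens i) := by
  obtain ⟨-, -, h1, h2, -⟩ := runs_ok
  obtain ⟨c1, c2, hlen, -, -, -, -, -, -, hS, -⟩ := conjugates_ok
  have key : ∀ (k : ℕ) (ss : List RStep) (st : List ℕ),
      runSteps tRuleB tConjB ss one st = some (one, twWord) →
      conjAll tConjB (getWord MT (chSGens.getD k 0)) twWord st = true →
      Commute R.w (mtEl R.toGens (chSGens.getD k 0)) := by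
    intro k ss st hr hc
    obtain ⟨-, e⟩ := R.derives hr
    rw [Model.el_one, one_mul, R.conj_w (R.mem_nMT hS k) hc, conjEl] at e
    change R.w * R.toGens.M.el _ = R.toGens.M.el _ * R.w
    conv_rhs => rw [show R.w = fprod R.T twWord from rfl, ← e]
    group
  obtain ⟨k, hk, rfl⟩ := List.mem_iff_getElem.1 hi
  rw [← List.getD_eq_getElem _ 0 hk]
  rw [hlen] at hk
  interval_cases k
  · exact key 0 _ _ h1 c1
  · exact key 1 _ _ h2 c2

/-- The line relation of `w`. -/
noncomputable def toWRel : WRel G where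
  toGens := R.toGens
  w := R.w
  ww := by
    obtain ⟨-, e⟩ := R.derives runs_ok.1
    simpa [fprod_append, Model.el_one, fprod_nil, w] using e
  comm := R.w_stab
  line := by
    obtain ⟨-, -, -, c0, c1, c2, -, -, -, -, hl, -⟩ := conjugates_ok
    rw [← R.conj_w (R.mem_nMT hl 0) c0, ← R.conj_w (R.mem_nMT hl 1) c1,
      ← R.conj_w (R.mem_nMT hl 2) c2, ← fprod_append, ← fprod_append, List.append_assoc,
      show (lineWord.drop 3).take 3 ++ lineWord.drop 6 = lineWord.drop 3 from by decide,
      List.take_append_drop]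
    obtain ⟨-, e⟩ := R.derives runs_ok.2.1
    simpa [Model.el_one, fprod_nil] using e

/-- The image of one element of `L` under `t`. -/
theorem theta : R.t * conjEl R.toGens R.w (getWord MT (thetaData.getD 0 0)) * R.t =
    mtEl R.toGens (thetaData.getD 2 0) * conjEl R.toGens R.w (getWord MT (thetaData.getD 1 0)) := by
  obtain ⟨-, -, -, -, -, -, c0, c1, hw, -, -, hth⟩ := conjugates_ok
  obtain ⟨-, e⟩ := R.derives runs_ok.2.2.2.2
  rw [hw, fprod_cons, fprod_append, R.conj_w (R.mem_nMT hth 0) c0,
    R.conj_w (R.mem_nMT hth 1) c1] at e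
  have et : R.t = R.T (tBase.getD 0 0) := by
    have := R.conj_eq_T R.toGens.M.mem_one tBase_ok.2.1
    rwa [R.toGens.conjEl_one] at this
  rw [← et] at e
  simpa [fprod, mtEl, mul_assoc, et] using e

end TRel

end Cfsg.Agent.Lib.J4Pres19
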