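import Cfsg.Agent.Lib.J4Pres19.Orbit
import Cfsg.Agent.Lib.J4Pres19.DataM
import Cfsg.Agent.Lib.J4Pres19.DataOrbit

/-!
The checks of the table of M24, of the orbits on conjugates of `w` and of its products, and on the
triples of functionals of the trios.
-/

set_option autoImplicit false
set_option maxRecDepth 20000
set_option Elab.async false

namespace Cfsg.Agent.Lib.J4Pres19

open Cfsg.Agent.Lib.CosetEnum

/-- The number of entries of the table. -/
noncomputable def nMT : ℕ := 3 + MTdefs.length

theorem MT_ok : checkTable MT 3 MTdefs = true := by decide +kernel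

theorem MT_gens : getWord MT 0 = mX ∧ getWord MT 1 = mY ∧ getWord MT 2 = mYi := by decide +kernel

theorem Gens.mem_MT {G : Type*} [Group G] (g : Gens G) {i : ℕ} (h : i < nMT) :
    g.M.Mem (getWord MT i) := by
  refine Model.mem_table MT_ok (fun i hi => ?_) i h
  obtain ⟨h0, h1, h2⟩ := MT_gens
  interval_cases i
  · rw [h0]; exact g.mem_mX
  · rw [h1]; exact g.mem_mY
  · rw [h2]; exact g.mem_mYi

/-- The entries of a transversal are entries of the table. -/
noncomputable def checkIdx (T I : PTree) (n : ℕ) : Bool :=
  allBelow n fun i => Nat.blt (getWord I i) nMT && Nat.beq (getWord T i) (getWord MT (getWord I i))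

theorem Gens.mem_idx {G : Type*} [Group G] (g : Gens G) {T I : PTree} {n : ℕ}
    (h : checkIdx T I n = true) {i : ℕ} (hi : i < n) : g.M.Mem (getWord T i) := by
  rw [checkIdx, allBelow_iff] at h
  have := h i hi
  simp only [Bool.and_eq_true, Nat.blt_eq, Nat.beq_eq] at this
  rw [this.2]; exact g.mem_MT this.1

/-- Conjugates of the coded element by a transversal. -/
noncomputable def checkConj (z : ℕ) (T Q : PTree) (n : ℕ) : Bool :=
  incrT Q n && allBelow n fun i =>
    Nat.blt (getWord Q i) (2 ^ 144) && Nat.beq (mul z (getWord T i)) (mul (getWord T i) (getWord Q i))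

/-- The list of a key. -/
def keyList (k : ℕ) : List ℕ :=
  [Nat.land k 4095, Nat.land (Nat.shiftRight k 12) 4095, Nat.shiftRight k 24]

/-- The images of the trio functionals. -/
noncomputable def checkTrio (T Q : PTree) (n : ℕ) : Bool :=
  incrT Q n && allBelow n fun i =>
    let l := keyList (getWord Q i)
    incr l && (l.all fun v => Nat.blt v 4096) &&
      Nat.beq (l.getD 0 0 + 4096 * l.getD 1 0 + 16777216 * l.getD 2 0) (getWord Q i) &&
      (phi0.map fun v => vmul v (getWord T i)).isPerm l

theorem wIdx_ok : checkIdx wT wI 1771 = true := by decide +kernel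

theorem wConj_ok : checkConj mW wT wQ 1771 = true := by decide +kernel

theorem dIdx_ok : checkIdx dT dI 276 = true := by decide +kernel

theorem tIdx_ok : checkIdx tT tI 3795 = true := by decide +kernel

theorem tTrio_ok : checkTrio tT tQ 3795 = true := by decide +kernel

end Cfsg.Agent.Lib.J4Pres19
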