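import Cfsg.Agent.Lib.J4Pres19.OrbitW
import Cfsg.Agent.Lib.J4Pres19.DataTrio
import Cfsg.Agent.Lib.J4Pres19.DataU

/-!
An involution whose conjugates under M24 behave like the sextets of the line relation: the conjugates
and their products form a set of at most 2048 elements.
-/

set_option autoImplicit false
set_option maxRecDepth 20000
set_option Elab.async false

namespace Cfsg.Agent.Lib.J4Pres19

open Cfsg.Agent.Lib.CosetEnum

variable {G : Type*} [Group G]

/-- The element named by the `i`-th entry of the table. -/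
noncomputable def mtEl (g : Gens G) (i : ℕ) : G := g.M.el (getWord MT i)

/-- An involution centralised by the sextet group and satisfying one line relation. -/
structure WRel (G : Type*) [Group G] extends Gens G where
  w : G
  ww : w * w = 1
  comm : ∀ i ∈ chSGens, Commute w (mtEl toGens i)
  line : conjEl toGens w (getWord MT (lineIdx.getD 0 0)) *
    conjEl toGens w (getWord MT (lineIdx.getD 1 0)) *
    conjEl toGens w (getWord MT (lineIdx.getD 2 0)) = 1

namespace Gens

variable (g : Gens G)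

theorem exists_code : ∀ p ∈ g.D, ∃ c, g.M.Mem c ∧ (p.1 : Mat12) = val c := by
  intro p hp
  haveI := g.finite_D
  have hgen : ∀ q : g.D, ∃ c, g.M.Mem c ∧ (q.1.1 : Mat12) = val c := by
    intro q
    have hq : q ∈ (⊤ : Subgroup g.D) := trivial
    have htop : (⊤ : Subgroup g.D) = Subgroup.closure ((g.D.subtype) ⁻¹' {g.pX, g.pY}) :=
      (Subgroup.closure_closure_coe_preimage).symm
    rw [htop] at hq
    have hfin : Finite g.D := inferInstance
    rw [← Subgroup.mem_toSubmonoid, Subgroup.closure_toSubmonoid_of_finite] at hq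
    induction hq using Submonoid.closure_induction with
    | mem a ha =>
      rcases ha with ha | ha
      · exact ⟨mX, g.mem_mX, by rw [show a.1 = g.pX from ha]; rfl⟩
      · exact ⟨mY, g.mem_mY, by rw [show a.1 = g.pY from ha]; rfl⟩
    | one => exact ⟨one, g.M.mem_one, by simp [val_one]⟩
    | mul a b _ _ ha hb =>
      obtain ⟨c, hc, e⟩ := ha
      obtain ⟨d, hd, e'⟩ := hb
      exact ⟨mul c d, hc.mul hd, by simp [val_mul, e, e']⟩
  exact hgen ⟨p, hp⟩

/-- Every named element has an inverse code. -/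
theorem exists_inv {c : ℕ} (hc : g.M.Mem c) : ∃ d, g.M.Mem d ∧ g.M.el d = (g.M.el c)⁻¹ := by
  obtain ⟨p, hp, e⟩ := hc
  obtain ⟨d, hd, e'⟩ := g.exists_code p⁻¹ (g.D.inv_mem hp)
  exact ⟨d, hd, by rw [g.M.el_eq (g.D.inv_mem hp) e', g.M.el_eq hp e]; rfl⟩

theorem conjEl_mul (z : G) {a b : ℕ} (ha : g.M.Mem a) (hb : g.M.Mem b) :
    conjEl g z (mul a b) = (g.M.el b)⁻¹ * conjEl g z a * g.M.el b := by
  simp only [conjEl, Model.el_mul ha hb, mul_inv_rev, mul_assoc]

theorem conjEl_one (z : G) : conjEl g z one = z := by simp [conjEl, g.M.el_one]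

theorem conjEl_mulElems (z z' : G) (a : ℕ) : conjEl g (z * z') a = conjEl g z a * conjEl g z' a := by
  simp [conjEl, mul_assoc]

end Gens

/-- The six ways to place three letters. -/
def perms3 : List (List ℕ) := [[0, 1, 2], [0, 2, 1], [1, 0, 2], [1, 2, 0], [2, 0, 1], [2, 1, 0]]

theorem three_rule {a b c : G} (ha : a * a = 1) (hb : b * b = 1) (hc : c * c = 1) (h : a * b * c = 1) :
    a * b = c ∧ b * a = c ∧ b * c = a ∧ c * b = a ∧ a * c = b ∧ c * a = b := by
  have ha' : a⁻¹ = a := inv_eq_of_mul_eq_one_right ha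
  have hb' : b⁻¹ = b := inv_eq_of_mul_eq_one_right hb
  have hc' : c⁻¹ = c := inv_eq_of_mul_eq_one_right hc
  have h1 : a * b = c := by rw [← hc', eq_inv_of_mul_eq_one_left h]
  have h2 : b * a = c := by
    have := congrArg (·⁻¹) h1
    simpa [mul_inv_rev, ha', hb', hc'] using this
  refine ⟨h1, h2, ?_, ?_, ?_, ?_⟩
  · rw [← h2, ← mul_assoc, hb, one_mul]
  · rw [← h1, mul_assoc, hb, mul_one]
  · rw [← h1, ← mul_assoc, ha, one_mul]
  · rw [← h2, mul_assoc, ha, mul_one]

/-- Three involutions with trivial product give the rules between them. -/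
theorem line_rule {F : ℕ → G} (hF : ∀ i, F i * F i = 1) {L R : List ℕ} {p : List ℕ} (hp : p ∈ perms3)
    (hlen : (L.length = 2 ∧ R.length = 1) ∨ (L.length = 1 ∧ R.length = 2))
    (h : F ((L ++ R).getD (p.getD 0 0) 0) * F ((L ++ R).getD (p.getD 1 0) 0) *
      F ((L ++ R).getD (p.getD 2 0) 0) = 1) : fprod F L = fprod F R := by
  have key : ∀ a b c : ℕ, (∀ q, q = p →
      F ([a, b, c].getD (q.getD 0 0) 0) * F ([a, b, c].getD (q.getD 1 0) 0) *
        F ([a, b, c].getD (q.getD 2 0) 0) = 1) → F a * F b = F c ∧ F a = F b * F c := by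
    intro a b c hq
    have := hq p rfl
    simp only [perms3, List.mem_cons, List.not_mem_nil, or_false] at hp
    rcases hp with rfl | rfl | rfl | rfl | rfl | rfl <;>
      simp only [List.getD_cons_zero, List.getD_cons_succ] at this <;>
      obtain ⟨h1, h2, h3, h4, h5, h6⟩ := three_rule (hF _) (hF _) (hF _) this <;>
      constructor <;>
      first
        | exact h1 | exact h2 | exact h3 | exact h4 | exact h5 | exact h6
        | exact h1.symm | exact h2.symm | exact h3.symm | exact h4.symm | exact h5.symm | exact h6.symm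
  rcases hlen with ⟨h2, h1⟩ | ⟨h1, h2⟩
  · obtain ⟨a, b, rfl⟩ := List.length_eq_two.1 h2
    obtain ⟨c, rfl⟩ := List.length_eq_one_iff.1 h1
    simpa [fprod] using (key a b c (fun q hq => hq ▸ h)).1
  · obtain ⟨a, rfl⟩ := List.length_eq_one_iff.1 h1
    obtain ⟨b, c, rfl⟩ := List.length_eq_two.1 h2
    simpa [fprod] using (key a b c (fun q hq => hq ▸ h)).2

/-! ### The checks -/

/-- A conjugate of a point under a code. -/
noncomputable def wConjB (i q j : ℕ) : Bool :=
  Nat.blt i 1771 && Nat.blt j 1771 && Nat.beq (mul (getWord wQ i) q) (mul q (getWord wQ j))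

/-- Cancellations, and images of the line. -/
noncomputable def wRuleB (s : RStep) : Bool :=
  Nat.beq s.q one &&
  match s.data with
  | [0, _] => (match s.L, s.R with | [a, b], [] => Nat.beq a b | _, _ => false)
  | [1, _] => (match s.L, s.R with | [], [a, b] => Nat.beq a b | _, _ => false)
  | [2, g, p0, p1, p2, _] =>
    Nat.blt g nMT && perms3.contains [p0, p1, p2] &&
      (Nat.beq s.L.length 2 && Nat.beq s.R.length 1 || Nat.beq s.L.length 1 && Nat.beq s.R.length 2) &&
      wConjB (uBase.getD 2 0) (getWord MT g) ((s.L ++ s.R).getD p0 0) &&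
      wConjB (uBase.getD 3 0) (getWord MT g) ((s.L ++ s.R).getD p1 0) &&
      wConjB (uBase.getD 4 0) (getWord MT g) ((s.L ++ s.R).getD p2 0)
  | _ => false

/-- The word of a node. -/
def nodeW : ℕ → List ℕ
  | 1 => node1
  | 2 => node2
  | _ => []

/-- The code of a product of two conjugates. -/
noncomputable def mD : ℕ := mul (getWord wQ (node2.getD 0 0)) (getWord wQ (node2.getD 1 0))

/-- A derived rule. -/
noncomputable def wDerives (w0 : List ℕ) (ss : List RStep) (w1 : List ℕ) : Bool :=
  match runSteps wRuleB wConjB ss one w0 with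
  | none => false
  | some r => Nat.beq r.1 one && decide (r.2 = w1)

noncomputable def checkRoot (n : ℕ) (r : ℕ × ℕ × ℕ × List ℕ × List RStep) : Bool :=
  wDerives (nodeW n ++ [r.1]) r.2.2.2.2 r.2.2.2.1 && Nat.blt r.2.1 3 && Nat.blt r.2.2.1 nMT &&
    conjAll wConjB (getWord MT r.2.2.1) (nodeW r.2.1) r.2.2.2.1 && Nat.blt r.1 1771

noncomputable def checkLinks (n : ℕ) (roots : List (ℕ × ℕ × ℕ × List ℕ × List RStep)) (gens : List ℕ) :
    List (ℕ × ℕ × ℕ) → ℕ → Bool
  | [], seen => Nat.beq seen (Nat.shiftLeft 1 1771 - 1)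
  | l :: ls, seen =>
    (bif Nat.beq l.2.1 0 then
        Nat.blt l.2.2 roots.length && Nat.beq (roots.getD l.2.2 (0, 0, 0, [], [])).1 l.1
      else Nat.testBit seen (l.2.1 - 1) && gens.contains l.2.2 &&
        wConjB (l.2.1 - 1) (getWord MT l.2.2) l.1) &&
    checkLinks n roots gens ls (Nat.lor seen (Nat.shiftLeft 1 l.1))

theorem wChain_ok :
    ((List.range chSGens.length).all fun i =>
      Nat.beq (getWord chS i) ((chSGens.map (getWord MT)).getD i 0)) = true ∧
    checkTable chS chSGens.length chSDefs = true ∧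
    checkLevels chS (chSGens.length + chSDefs.length) [] chSLevels = true ∧
    (chSLevels.map fun L => L.2.length).prod = 138240 ∧
    (chSGens.all fun i => Nat.blt i nMT && Nat.beq (mul mW (getWord MT i)) (mul (getWord MT i) mW)) =
      true := by decide +kernel

theorem dChain_ok :
    ((List.range chDGens.length).all fun i =>
      Nat.beq (getWord chD i) ((chDGens.map (getWord MT)).getD i 0)) = true ∧
    checkTable chD chDGens.length chDDefs = true ∧
    checkLevels chD (chDGens.length + chDDefs.length) [] chDLevels = true ∧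
    (chDLevels.map fun L => L.2.length).prod = 887040 ∧
    (chDGens.all fun i => Nat.blt i nMT && Nat.beq (mul mD (getWord MT i)) (mul (getWord MT i) mD)) =
      true ∧
    decide (chDGens = dGens.map Prod.fst) = true := by decide +kernel

theorem dConj_ok : checkConj mD dT dQ 276 = true := by decide +kernel

theorem wBase_ok : getWord wQ 0 = mW ∧ node1 = [0] ∧
    (∀ k < 3, lineIdx.getD k 0 < nMT) ∧
    ((List.range 3).all fun k => Nat.blt (uBase.getD (k + 2) 0) 1771 &&
      Nat.beq (mul mW (getWord MT (lineIdx.getD k 0)))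
        (mul (getWord MT (lineIdx.getD k 0)) (getWord wQ (uBase.getD (k + 2) 0)))) = true ∧
    ((List.range 2).all fun k => Nat.blt (node2.getD k 0) 1771) = true ∧ node2.length = 2 := by
  decide +kernel

theorem dGens_ok : (dGens.all fun d => conjAll wConjB (getWord MT d.1) node2 d.2.1 &&
    wDerives d.2.1 d.2.2 node2) = true := by decide +kernel

theorem roots_ok : (roots1.all (checkRoot 1)) = true ∧ (roots2.all (checkRoot 2)) = true := by
  decide +kernel

theorem links_ok : checkLinks 1 roots1 gens1 links1 0 = true ∧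
    checkLinks 2 roots2 (dGens.map Prod.fst) links2 0 = true ∧
    (gens1.all fun i => chSGens.contains i) = true := by decide +kernel

/-! ### The set of 2048 elements -/

namespace WRel

variable (R : WRel G)

/-- The `i`-th conjugate. -/
noncomputable def F (i : ℕ) : G := conjEl R.toGens R.w (getWord wT i)

theorem wFacts : OrbitFacts R.toGens conjAct R.w uW 1771 wT := by
  obtain ⟨h1, h2, h3, h4, h5⟩ := wChain_ok
  have h5' : ∀ i ∈ chSGens, i < nMT ∧ mul mW (getWord MT i) = mul (getWord MT i) mW := fun i hi => by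
    simpa [Nat.blt_eq, Nat.beq_eq] using List.all_eq_true.1 h5 i hi
  refine orbitFacts R.toGens conjAct conjAct_one conjAct_mul R.w uW (chSGens.map (getWord MT)) ?_ ?_ ?_
    chS chSDefs chSLevels (by simpa using h1) (by simpa using h2) (by simpa using h3) 138240 h4.ge 1771 wT
    (by norm_num) (by norm_num) (fun i hi => R.toGens.mem_idx wIdx_ok hi) ?_
  · intro c hc
    obtain ⟨i, hi, rfl⟩ := List.mem_map.1 hc
    exact R.toGens.mem_MT (h5' i hi).1
  · intro c hc u hu
    obtain ⟨i, hi, rfl⟩ := List.mem_map.1 hc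
    exact conjAct_eq (z := mW) rfl hu rfl (h5' i hi).2
  · intro c hc
    obtain ⟨i, hi, rfl⟩ := List.mem_map.1 hc
    exact R.comm i hi
  · exact (checkConj_spec wConj_ok (p := uW) rfl).2

/-- A conjugate by a code with the right image. -/
theorem conj_eq_F {a i : ℕ} (ha : R.toGens.M.Mem a) (hi : i < 1771)
    (h : val mW * val a = val a * val (getWord wQ i)) : conjEl R.toGens R.w a = R.F i := by
  obtain ⟨p, hp1, -⟩ := exists_pair R.toGens ha
  obtain ⟨q, hq1, -⟩ := exists_pair R.toGens (R.toGens.mem_idx wIdx_ok hi)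
  refine R.wFacts.congr a _ ha (R.toGens.mem_idx wIdx_ok hi) _ _ hp1 hq1 ?_
  have hQ := congrArg val ((checkConj_spec wConj_ok (p := uW) rfl).1 i hi)
  rw [val_mul, val_mul, ← hq1] at hQ
  rw [← hp1] at h
  apply Units.ext
  simp only [conjAct, Units.val_mul, mul_assoc]
  rw [show (uW : Mat12) = val mW from rfl, h, hQ, ← mul_assoc, ← mul_assoc, Units.inv_mul,
    Units.inv_mul, one_mul]

theorem FF (i : ℕ) : R.F i * R.F i = 1 := by
  unfold F conjEl
  rw [show ∀ a : G, a⁻¹ * R.w * a * (a⁻¹ * R.w * a) = a⁻¹ * (R.w * R.w) * a from fun a => by group,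
    R.ww]
  simp

theorem wConjB_sound (i q j : ℕ) (hq : R.toGens.M.Mem q) (h : wConjB i q j = true) :
    R.F i * R.toGens.M.el q = R.toGens.M.el q * R.F j := by
  simp only [wConjB, Bool.and_eq_true, Nat.blt_eq, Nat.beq_eq] at h
  obtain ⟨⟨hi, hj⟩, e⟩ := h
  have hQ := congrArg val ((checkConj_spec wConj_ok (p := uW) rfl).1 i hi)
  have e' := congrArg val e
  rw [val_mul, val_mul] at hQ e'
  have := R.conj_eq_F ((R.toGens.mem_idx wIdx_ok hi).mul hq) hj
    (by rw [val_mul, ← mul_assoc, hQ, mul_assoc, e', ← mul_assoc])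
  rw [R.toGens.conjEl_mul _ (R.toGens.mem_idx wIdx_ok hi) hq] at this
  rw [← this, F]
  group

theorem line_F : R.F (uBase.getD 2 0) * R.F (uBase.getD 3 0) * R.F (uBase.getD 4 0) = 1 := by
  obtain ⟨-, -, hlt, h, -⟩ := wBase_ok
  have hk : ∀ k < 3, conjEl R.toGens R.w (getWord MT (lineIdx.getD k 0)) = R.F (uBase.getD (k + 2) 0) := by
    intro k hk
    have := List.all_eq_true.1 h k (List.mem_range.2 hk)
    simp only [Bool.and_eq_true, Nat.blt_eq, Nat.beq_eq] at this
    exact R.conj_eq_F (R.toGens.mem_MT (hlt k hk)) this.1 (by rw [← val_mul, ← val_mul, this.2])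
  rw [← hk 0 (by omega), ← hk 1 (by omega), ← hk 2 (by omega)]
  exact R.line

theorem wRuleB_sound (s : RStep) (h : wRuleB s = true) :
    R.toGens.M.Mem s.q ∧ fprod R.F s.L = R.toGens.M.el s.q * fprod R.F s.R := by
  simp only [wRuleB, Bool.and_eq_true, Nat.beq_eq] at h
  obtain ⟨hq, h⟩ := h
  rw [hq, Model.el_one, one_mul]
  refine ⟨R.toGens.M.mem_one, ?_⟩
  split at h
  · split at h
    · rename_i a b hL hR
      obtain rfl := Nat.eq_of_beq_eq_true h
      simp [fprod, hL, hR, R.FF]
    · simp at h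
  · split at h
    · rename_i a b hL hR
      obtain rfl := Nat.eq_of_beq_eq_true h
      simp [fprod, hL, hR, R.FF]
    · simp at h
  · simp only [Bool.and_eq_true, Bool.or_eq_true, Nat.blt_eq, Nat.beq_eq, List.contains_iff_mem] at h
    obtain ⟨⟨⟨⟨⟨hg, hp⟩, hlen⟩, h0⟩, h1⟩, h2⟩ := h
    refine line_rule R.FF hp hlen ?_
    simp only [List.getD_cons_zero, List.getD_cons_succ]
    have hm := R.toGens.mem_MT hg
    have c0 := R.wConjB_sound _ _ _ hm h0
    have c1 := R.wConjB_sound _ _ _ hm h1
    have c2 := R.wConjB_sound _ _ _ hm h2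
    apply mul_left_cancel (a := R.toGens.M.el (getWord MT _))
    rw [mul_one, ← mul_assoc, ← mul_assoc, ← c0, mul_assoc (R.F _), ← c1, ← mul_assoc, mul_assoc,
      ← c2, ← mul_assoc, R.line_F, one_mul]
  · simp at h

theorem derives_sound {w0 w1 : List ℕ} {ss : List RStep} (h : wDerives w0 ss w1 = true) :
    fprod R.F w0 = fprod R.F w1 := by
  unfold wDerives at h
  cases hr : runSteps wRuleB wConjB ss one w0 with
  | none => simp [hr] at h
  | some r =>
    simp only [hr, Bool.and_eq_true, Nat.beq_eq, decide_eq_true_eq] at h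
    obtain ⟨-, e⟩ := runSteps_sound (S := R.toGens.M) (fun s hs => R.wRuleB_sound s hs)
      (fun i q j hq hb => R.wConjB_sound i q j hq hb) ss one w0 r.1 r.2 R.toGens.M.mem_one hr
    simpa [h.1, h.2, Model.el_one] using e

/-- The product `d` of two conjugates. -/
noncomputable def d : G := fprod R.F node2

theorem comm_d (i : ℕ) (hi : i ∈ chDGens)
    (h5 : ∀ i ∈ chDGens, i < nMT ∧ mul mD (getWord MT i) = mul (getWord MT i) mD)
    (h6 : chDGens = dGens.map Prod.fst) : Commute (fprod R.F node2) (mtEl R.toGens i) := by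
  have hm := R.toGens.mem_MT (h5 i hi).1
  rw [h6] at hi
  obtain ⟨e, he, rfl⟩ := List.mem_map.1 hi
  have := List.all_eq_true.1 dGens_ok e he
  simp only [Bool.and_eq_true] at this
  have e1 := conjAll_sound (S := R.toGens.M) (fun i q j hq hb => R.wConjB_sound i q j hq hb) hm _ _ this.1
  rw [R.derives_sound this.2] at e1
  exact e1

theorem root_lt {n : ℕ} {r : ℕ × ℕ × ℕ × List ℕ × List RStep} (h : checkRoot n r = true) :
    r.1 < 1771 := by
  have hne : Nat.blt r.1 1771 = true := by
    simp only [checkRoot, Bool.and_eq_true] at h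
    exact h.2
  simpa [Nat.blt_eq] using hne

theorem mD_inv : mul mD mD = one := by decide +kernel

/-- The matrix of `d`. -/
noncomputable def uD : GL12 := unitOf mD mD mD_inv mD_inv

theorem dFacts : OrbitFacts R.toGens conjAct R.d uD 276 dT := by
  obtain ⟨h1, h2, h3, h4, h5, h6⟩ := dChain_ok
  rw [decide_eq_true_eq] at h6
  have h5' : ∀ i ∈ chDGens, i < nMT ∧ mul mD (getWord MT i) = mul (getWord MT i) mD := fun i hi => by
    simpa [Nat.blt_eq, Nat.beq_eq] using List.all_eq_true.1 h5 i hi
  refine orbitFacts R.toGens conjAct conjAct_one conjAct_mul R.d uD (chDGens.map (getWord MT)) ?_ ?_ ?_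
    chD chDDefs chDLevels (by simpa using h1) (by simpa using h2) (by simpa using h3) 887040 h4.ge 276 dT
    (by norm_num) (by norm_num) (fun i hi => R.toGens.mem_idx dIdx_ok hi) ?_
  · intro c hc
    obtain ⟨i, hi, rfl⟩ := List.mem_map.1 hc
    exact R.toGens.mem_MT (h5' i hi).1
  · intro c hc u hu
    obtain ⟨i, hi, rfl⟩ := List.mem_map.1 hc
    exact conjAct_eq (z := mD) rfl hu rfl (h5' i hi).2
  · intro c hc
    obtain ⟨i, hi, rfl⟩ := List.mem_map.1 hc
    exact R.comm_d i hi h5' h6
  · exact (checkConj_spec dConj_ok (p := uD) rfl).2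

/-- The products along nodes, conjugated. -/
def U : Set G :=
  {u | ∃ n < 3, ∃ a, R.toGens.M.Mem a ∧ u = conjEl R.toGens (fprod R.F (nodeW n)) a}

theorem U_conj {u : G} (hu : u ∈ R.U) {c : ℕ} (hc : R.toGens.M.Mem c) :
    (R.toGens.M.el c)⁻¹ * u * R.toGens.M.el c ∈ R.U := by
  obtain ⟨n, hn, a, ha, rfl⟩ := hu
  exact ⟨n, hn, mul a c, ha.mul hc, (R.toGens.conjEl_mul _ ha hc).symm⟩

theorem F_zero : R.F 0 = R.w := by
  have := R.conj_eq_F (i := 0) R.toGens.M.mem_one (by norm_num)
    (by rw [val_one, mul_one, one_mul, wBase_ok.1])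
  rw [← this, R.toGens.conjEl_one]

theorem F_mem {i : ℕ} (hi : i < 1771) : R.F i ∈ R.U := by
  refine ⟨1, by norm_num, getWord wT i, R.toGens.mem_idx wIdx_ok hi, ?_⟩
  rw [show nodeW 1 = [0] from wBase_ok.2.1, show fprod R.F [0] = R.F 0 by simp [fprod], R.F_zero]
  rfl

theorem root_sound {n : ℕ} {r : ℕ × ℕ × ℕ × List ℕ × List RStep} (h : checkRoot n r = true) :
    fprod R.F (nodeW n) * R.F r.1 ∈ R.U := by
  simp only [checkRoot, Bool.and_eq_true, Nat.blt_eq] at h
  obtain ⟨⟨⟨⟨h1, hm⟩, hg⟩, h4⟩, -⟩ := h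
  have e := R.derives_sound h1
  rw [fprod_append, show fprod R.F [r.1] = R.F r.1 by simp [fprod]] at e
  have e' := conjAll_sound (S := R.toGens.M) (fun i q j hq hb => R.wConjB_sound i q j hq hb)
    (R.toGens.mem_MT hg) _ _ h4
  refine ⟨r.2.1, hm, _, R.toGens.mem_MT hg, ?_⟩
  rw [e, conjEl, mul_assoc, e', inv_mul_cancel_left]

theorem links_sound {n : ℕ} {roots : List (ℕ × ℕ × ℕ × List ℕ × List RStep)}
    (hroots : roots.all (checkRoot n) = true) {gens : List ℕ}
    (hgens : ∀ i ∈ gens, i < nMT ∧ Commute (fprod R.F (nodeW n)) (mtEl R.toGens i)) :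
    ∀ (ls : List (ℕ × ℕ × ℕ)) (seen : ℕ), checkLinks n roots gens ls seen = true →
      (∀ k < 1771, seen.testBit k = true → fprod R.F (nodeW n) * R.F k ∈ R.U) →
      (∀ k, 1771 ≤ k → seen.testBit k = false) →
      ∀ k < 1771, fprod R.F (nodeW n) * R.F k ∈ R.U
  | [], seen, h, hs, _, k, hk => by
    simp only [checkLinks, Nat.beq_eq] at h
    refine hs k hk ?_
    rw [h, show Nat.shiftLeft 1 1771 = 2 ^ 1771 from Nat.one_shiftLeft 1771, Nat.testBit_two_pow_sub_one]
    exact decide_eq_true hk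
  | (c, par, g) :: ls, seen, h, hs, hhi, k, hk => by
    simp only [checkLinks, Bool.and_eq_true] at h
    obtain ⟨hl, hrest⟩ := h
    have hc : c < 1771 ∨ ∀ j < 1771, j ≠ c := by
      rcases lt_or_ge c 1771 with h | h
      · exact Or.inl h
      · exact Or.inr fun j hj => by omega
    have hnew : c < 1771 → fprod R.F (nodeW n) * R.F c ∈ R.U := by
      intro hclt
      cases hp : Nat.beq par 0 with
      | true =>
        rw [hp, cond_true, Bool.and_eq_true, Nat.blt_eq, Nat.beq_eq] at hl
        have := R.root_sound (List.all_eq_true.1 hroots _ (List.getElem_mem hl.1))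
        rw [List.getD_eq_getElem _ _ hl.1] at hl
        rwa [hl.2] at this
      | false =>
        rw [hp, cond_false, Bool.and_eq_true, Bool.and_eq_true, List.contains_iff_mem] at hl
        obtain ⟨⟨hs', hg⟩, hb⟩ := hl
        obtain ⟨hgn, hcom⟩ := hgens g hg
        have hp' : par - 1 < 1771 := by
          by_contra hcon
          rw [hhi _ (by omega)] at hs'
          simp at hs'
        have e := R.wConjB_sound _ _ _ (R.toGens.mem_MT hgn) hb
        have hU := R.U_conj (hs _ hp' hs') (R.toGens.mem_MT hgn)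
        convert hU using 1
        rw [mul_assoc, mul_assoc, e, ← mul_assoc _ (R.toGens.M.el _) (R.F c)]
        rw [show fprod R.F (nodeW n) * R.toGens.M.el (getWord MT g) =
          R.toGens.M.el (getWord MT g) * fprod R.F (nodeW n) from hcom.eq, mul_assoc,
          inv_mul_cancel_left]
    have hb : c < 1771 := by
      cases hp : Nat.beq par 0 with
      | true =>
        rw [hp, cond_true, Bool.and_eq_true, Nat.blt_eq, Nat.beq_eq] at hl
        have := List.all_eq_true.1 hroots _ (List.getElem_mem hl.1)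
        rw [List.getD_eq_getElem _ _ hl.1] at hl
        exact hl.2 ▸ root_lt this
      | false =>
        rw [hp, cond_false, Bool.and_eq_true, Bool.and_eq_true] at hl
        have := hl.2
        simp only [wConjB, Bool.and_eq_true, Nat.blt_eq] at this
        exact this.1.2
    refine links_sound hroots hgens ls _ hrest ?_ ?_ k hk
    · intro j hj hbit
      rw [show Nat.lor seen (Nat.shiftLeft 1 c) = seen ||| 1 <<< c from rfl, Nat.testBit_lor,
        Nat.one_shiftLeft, Nat.testBit_two_pow, Bool.or_eq_true, decide_eq_true_eq] at hbit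
      rcases hbit with hbit | rfl
      · exact hs j hj hbit
      · exact hnew hj
    · intro j hj
      rw [show Nat.lor seen (Nat.shiftLeft 1 c) = seen ||| 1 <<< c from rfl, Nat.testBit_lor,
        Nat.one_shiftLeft, Nat.testBit_two_pow, hhi j hj, Bool.false_or, decide_eq_false_iff_not]
      omega

theorem node_mul (n : ℕ) (hn : n < 3) : ∀ k < 1771, fprod R.F (nodeW n) * R.F k ∈ R.U := by
  obtain ⟨h1, h2, h3⟩ := links_ok
  obtain ⟨hr1, hr2⟩ := roots_ok
  obtain ⟨-, -, -, -, h5, h6⟩ := dChain_ok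
  interval_cases n
  · intro k hk
    simpa [nodeW, fprod] using R.F_mem hk
  · refine R.links_sound hr1 (fun i hi => ?_) links1 0 h1 (fun k _ h => by simp at h) (fun k _ => by simp)
    have hi' : i ∈ chSGens := by simpa [List.contains_iff_mem] using List.all_eq_true.1 h3 i hi
    have hlt := List.all_eq_true.1 wChain_ok.2.2.2.2 i hi'
    simp only [Bool.and_eq_true, Nat.blt_eq] at hlt
    refine ⟨hlt.1, ?_⟩
    rw [show nodeW 1 = [0] from wBase_ok.2.1, show fprod R.F [0] = R.F 0 by simp [fprod], R.F_zero]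
    exact R.comm i hi'
  · rw [decide_eq_true_eq] at h6
    have h5' : ∀ i ∈ chDGens, i < nMT ∧ mul mD (getWord MT i) = mul (getWord MT i) mD := fun i hi => by
      simpa [Nat.blt_eq, Nat.beq_eq] using List.all_eq_true.1 h5 i hi
    refine R.links_sound hr2 (fun i hi => ?_) links2 0 h2 (fun k _ h => by simp at h) (fun k _ => by simp)
    have hi' : i ∈ chDGens := h6 ▸ hi
    exact ⟨(h5' i hi').1, R.comm_d i hi' h5' h6⟩

theorem U_mul_w {u : G} (hu : u ∈ R.U) : u * R.w ∈ R.U := by
  obtain ⟨n, hn, a, ha, rfl⟩ := hu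
  obtain ⟨b, hb, eb⟩ := R.toGens.exists_inv ha
  obtain ⟨k, hk, hcov⟩ := R.wFacts.cover b hb
  obtain ⟨p, hp1, -⟩ := exists_pair R.toGens hb
  obtain ⟨q, hq1, -⟩ := exists_pair R.toGens (R.toGens.mem_idx wIdx_ok hk)
  have e := R.wFacts.congr b _ hb (R.toGens.mem_idx wIdx_ok hk) _ _ hp1 hq1 (hcov _ _ hp1 hq1)
  have := R.U_conj (R.node_mul n hn k hk) ha
  convert this using 1
  rw [show R.F k = conjEl R.toGens R.w b from e.symm]
  simp only [conjEl, eb, inv_inv, mul_assoc, inv_mul_cancel, mul_one]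

/-- An enumeration of the set. -/
noncomputable def uList (i : Fin 2048) : G :=
  if i.1 < 1771 then R.F i.1
  else if i.1 < 2047 then conjEl R.toGens R.d (getWord dT (i.1 - 1771)) else 1

theorem U_le : R.U ⊆ Set.range R.uList := by
  rintro u ⟨n, hn, a, ha, rfl⟩
  obtain ⟨p, hp1, -⟩ := exists_pair R.toGens ha
  interval_cases n
  · exact ⟨⟨2047, by norm_num⟩, by simp [uList, nodeW, fprod, conjEl]⟩
  · rw [show nodeW 1 = [0] from wBase_ok.2.1, show fprod R.F [0] = R.F 0 by simp [fprod], R.F_zero]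
    obtain ⟨k, hk, hcov⟩ := R.wFacts.cover a ha
    obtain ⟨q, hq1, -⟩ := exists_pair R.toGens (R.toGens.mem_idx wIdx_ok hk)
    exact ⟨⟨k, by omega⟩, by
      rw [uList, if_pos hk, F]
      exact (R.wFacts.congr a _ ha (R.toGens.mem_idx wIdx_ok hk) _ _ hp1 hq1 (hcov _ _ hp1 hq1)).symm⟩
  · obtain ⟨k, hk, hcov⟩ := R.dFacts.cover a ha
    obtain ⟨q, hq1, -⟩ := exists_pair R.toGens (R.toGens.mem_idx dIdx_ok hk)
    refine ⟨⟨1771 + k, by omega⟩, ?_⟩
    rw [uList, if_neg (by simp), if_pos (show 1771 + k < 2047 by omega), Nat.add_sub_cancel_left]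
    exact (R.dFacts.congr a _ ha (R.toGens.mem_idx dIdx_ok hk) _ _ hp1 hq1 (hcov _ _ hp1 hq1)).symm

theorem card_closure_le : Nat.card (Subgroup.closure ({R.x, R.y, R.w} : Set G)) ≠ 0 ∧
    Nat.card (Subgroup.closure ({R.x, R.y, R.w} : Set G)) ≤ 501397585920 := by
  haveI := R.toGens.finite_D
  let f : R.toGens.D × Fin 2048 → G := fun p => p.1.1.2 * R.uList p.2
  let S : Set G := {z | ∃ a, R.toGens.M.Mem a ∧ ∃ u ∈ R.U, z = R.toGens.M.el a * u}
  have hcode : ∀ (z : G), z ∈ S → ∀ c, R.toGens.M.Mem c → z * R.toGens.M.el c ∈ S := by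
    rintro z ⟨a, ha, u, hu, rfl⟩ c hc
    refine ⟨mul a c, ha.mul hc, _, R.U_conj hu hc, ?_⟩
    rw [Model.el_mul ha hc]; group
  have hw : ∀ z ∈ S, z * R.w ∈ S := by
    rintro z ⟨a, ha, u, hu, rfl⟩
    exact ⟨a, ha, u * R.w, R.U_mul_w hu, mul_assoc _ _ _⟩
  have h1 : (1 : G) ∈ S := ⟨one, R.toGens.M.mem_one, 1,
    ⟨0, by norm_num, one, R.toGens.M.mem_one, by simp [nodeW, fprod, conjEl]⟩, by simp [Model.el_one]⟩
  have hsub : (Subgroup.closure ({R.x, R.y, R.w} : Set G) : Set G) ⊆ Set.range f := by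
    intro z hz
    have hzS : z ∈ S := by
      induction hz using Subgroup.closure_induction_right with
      | one => exact h1
      | mul_right x _ y hy ih =>
        simp only [Set.mem_insert_iff, Set.mem_singleton_iff] at hy
        rcases hy with rfl | rfl | rfl
        · rw [← R.toGens.el_mX]; exact hcode _ ih _ R.toGens.mem_mX
        · rw [← R.toGens.el_mY]; exact hcode _ ih _ R.toGens.mem_mY
        · exact hw _ ih
      | mul_inv_cancel x _ y hy ih =>
        simp only [Set.mem_insert_iff, Set.mem_singleton_iff] at hy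
        rcases hy with rfl | rfl | rfl
        · rw [← R.toGens.el_mX, ← Model.el_inv R.toGens.mem_mX R.toGens.mem_mX gens_inv.1]
          exact hcode _ ih _ R.toGens.mem_mX
        · rw [← R.toGens.el_mYi]; exact hcode _ ih _ R.toGens.mem_mYi
        · rw [inv_eq_of_mul_eq_one_right R.ww]; exact hw _ ih
    obtain ⟨a, ha, u, hu, rfl⟩ := hzS
    obtain ⟨p, -, hp2⟩ := exists_pair R.toGens ha
    obtain ⟨i, rfl⟩ := R.U_le hu
    exact ⟨(p, i), by simp only [f, hp2]⟩
  have hfin : (Set.range f).Finite := Set.finite_range f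
  have hle : Nat.card (Subgroup.closure ({R.x, R.y, R.w} : Set G)) ≤ 501397585920 := by
    refine le_trans (Nat.card_mono hfin hsub) ?_
    refine le_trans (Finite.card_range_le f) ?_
    rw [Nat.card_prod, R.toGens.card_D, Nat.card_fin]
  haveI : Finite (Subgroup.closure ({R.x, R.y, R.w} : Set G)) := (hfin.subset hsub).to_subtype
  exact ⟨Nat.card_pos.ne', hle⟩

end WRel

end Cfsg.Agent.Lib.J4Pres19
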